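import Cfsg.Agent.Lib.Fischer.Structure

/-!
Primitivity of the action on a class of 3-transpositions with central `O_2` and `O_3`.
-/

set_option autoImplicit false

namespace Cfsg.Agent.Fischer

open scoped commutatorElement
open Cfsg.Agent.Components

variable {G : Type*} [Group G] {D : Set G}

theorem TClass.of_primitive (hD : Cfsg.IsThreeTranspositionGroup D)
    (hprim : Cfsg.IsPrimitiveUnderConj D) : TClass D :=
  ⟨TSet.ofSet hD.1 hD.2.1, hprim.1, hD.2.2, by obtain ⟨a, ha, -⟩ := hprim.2.1; exact ⟨a, ha⟩⟩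

section

variable (hD : TClass D)
include hD

/-- A label-class of an equivariant labelling is a block. -/
theorem cls_isBlock {α : Type*} {f : G → α}
    (heq : ∀ (g : G), ∀ a ∈ D, ∀ b ∈ D, f a = f b → f (g * a * g⁻¹) = f (g * b * g⁻¹))
    {x : G} (hx : x ∈ D) (g : G) :
    (fun v => g * v * g⁻¹) '' cls D f x = cls D f x ∨
      Disjoint ((fun v => g * v * g⁻¹) '' cls D f x) (cls D f x) := by
  by_cases h : f (g * x * g⁻¹) = f x
  · left
    ext v
    constructor
    · rintro ⟨w, hw, rfl⟩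
      exact ⟨hD.conj g w hw.1, (heq g w hw.1 x hx hw.2).trans h⟩
    · intro hv
      refine ⟨g⁻¹ * v * g⁻¹⁻¹, ⟨hD.conj g⁻¹ v hv.1, ?_⟩, by simp [mul_assoc]⟩
      have := heq g⁻¹ v hv.1 _ (hD.conj g x hx) (hv.2.trans h.symm)
      simpa [mul_assoc] using this
  · right
    rw [Set.disjoint_left]
    rintro _ ⟨w, hw, rfl⟩ hv
    exact h ((heq g x hx w hw.1 hw.2.symm).trans hv.2)

variable [Finite G]

theorem eq_of_sameComm (hD2 : ∃ a ∈ D, ∃ b ∈ D, a ≠ b) (h2 : Cfsg.pCore 2 G ≤ Subgroup.center G)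
    {a b : G} (ha : a ∈ D) (hb : b ∈ D) (h : sameComm D b = sameComm D a) : a = b :=
  eq_of_mul_central hD hD2 ha hb (h2 (mul_mem_pCore_two hD ha hb h))

theorem eq_of_perp (hD2 : ∃ a ∈ D, ∃ b ∈ D, a ≠ b) (h3 : Cfsg.pCore 3 G ≤ Subgroup.center G)
    {a b : G} (ha : a ∈ D) (hb : b ∈ D) (h : perp D b = perp D a) : a = b :=
  eq_of_mul_central hD hD2 ha hb (h3 (mul_mem_pCore_three hD ha hb h))

/-- A solvable normal subgroup is central. -/
theorem solvable_le_center (hD2 : ∃ a ∈ D, ∃ b ∈ D, a ≠ b)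
    (h2 : Cfsg.pCore 2 G ≤ Subgroup.center G) (h3 : Cfsg.pCore 3 G ≤ Subgroup.center G)
    {N : Subgroup G} [hN : N.Normal] [Group.IsSolvable N] : N ≤ Subgroup.center G := by
  obtain ⟨L, hLn, hL, hF⟩ := exists_normal_component hD hD2 h2 h3
  have h1 := IsComponent.commutator_eq_bot_of_isSolvable hL (U := N) hN.isSubnormal
  rw [Subgroup.commutator_comm, Subgroup.commutator_eq_bot_iff_le_centralizer] at h1
  have hle : N ≤ Subgroup.centralizer (Cfsg.generalizedFittingSubgroup G : Set G) := by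
    intro g hg
    have hc : Cfsg.generalizedFittingSubgroup G ≤ Subgroup.centralizer ({g} : Set G) := by
      rw [hF, sup_le_iff]
      refine ⟨fun l hl => Subgroup.mem_centralizer_singleton_iff.2 ?_,
        fun z hz => Subgroup.mem_centralizer_singleton_iff.2 ?_⟩
      · exact (Subgroup.mem_centralizer_iff.1 (h1 hg) l hl)
      · exact (Subgroup.mem_center_iff.1 hz g).symm
    exact Subgroup.mem_centralizer_iff.2 fun y hy => Subgroup.mem_centralizer_singleton_iff.1 (hc hy)
  set C := Subgroup.centralizer (Cfsg.generalizedFittingSubgroup G : Set G) with hC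
  have hCF : C ≤ Cfsg.generalizedFittingSubgroup G := centralizer_generalizedFittingSubgroup_le
  have : (Cfsg.generalizedFittingSubgroup G).Normal := by
    rw [hF]; infer_instance
  have hCn : C.Normal := inferInstance
  have : Group.IsNilpotent C := isNilpotent_of_commutator_commutator (eq_bot_iff.2
    ((Subgroup.commutator_mono (Subgroup.commutator_le_self _) le_rfl).trans
      (Subgroup.commutator_eq_bot_iff_le_centralizer.2 fun g hg =>
        Subgroup.centralizer_le hCF hg).le))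
  rw [← fittingSubgroup_eq_center hD h2 h3]
  exact hle.trans (le_fittingSubgroup hCn)

theorem component_le_commutator {L : Subgroup G} (hL : IsComponent L) : L ≤ commutator G := by
  have _ := hD
  calc L = ⁅L, L⁆ := (IsComponent.commutator_self hL).symm
    _ ≤ ⁅(⊤ : Subgroup G), ⊤⁆ := Subgroup.commutator_mono le_top le_top

theorem mem_or_mul_mem {L : Subgroup G} (hi : L.index ≤ 2) {d : G} (hd : d ∈ D) [hLn : L.Normal]
    (g : G) : g ∈ L ∨ g * d ∈ L := by
  rcases (show L.index = 1 ∨ L.index = 2 by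
    have := L.index_ne_zero_of_finite; omega) with h | h
  · exact Or.inl (by rw [Subgroup.index_eq_one.1 h]; trivial)
  · have hdL : d ∉ L := fun hdL => by
      have : L = ⊤ := by
        rw [eq_top_iff, ← hD.gen, Subgroup.closure_le]
        intro e he
        obtain ⟨k, rfl⟩ := hD.trans d hd e he
        exact hLn.conj_mem d hdL k
      rw [this, Subgroup.index_top] at h
      omega
    by_cases hg : g ∈ L
    · exact Or.inl hg
    · right
      rw [Subgroup.mul_mem_iff_of_index_two h]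
      exact iff_of_false hg hdL

theorem commutator_le_of_index {L : Subgroup G} [L.Normal] (hi : L.index ≤ 2) :
    commutator G ≤ L := by
  have _ := hD
  rw [commutator_def, Subgroup.commutator_le]
  intro a _ b _
  rcases (show L.index = 1 ∨ L.index = 2 by
    have := L.index_ne_zero_of_finite; omega) with h | h
  · rw [Subgroup.index_eq_one.1 h]; trivial
  · rw [commutatorElement_def, Subgroup.mul_mem_iff_of_index_two h,
      Subgroup.mul_mem_iff_of_index_two h, Subgroup.mul_mem_iff_of_index_two h]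
    simp only [inv_mem_iff]
    tauto

/-- With a normal component of index at most two the action on the class is primitive. -/
theorem primitive_of_index (hD2 : ∃ a ∈ D, ∃ b ∈ D, a ≠ b) {L : Subgroup G} [hLn : L.Normal]
    (hL : IsComponent L) (h2 : Cfsg.pCore 2 G ≤ Subgroup.center G)
    (h3 : Cfsg.pCore 3 G ≤ Subgroup.center G) (hi : L.index ≤ 2) :
    Cfsg.IsPrimitiveUnderConj D := by
  have hT := hD.toTSet
  refine ⟨hD.trans, hD2, fun B hBD hB => ?_⟩
  by_contra hcon
  rw [not_or, Set.not_subsingleton_iff] at hcon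
  obtain ⟨⟨a₀, ha₀, b₀, hb₀, hne⟩, hBne⟩ := hcon
  let f : G → Set G := fun v => {w | ∃ g, g * a₀ * g⁻¹ = v ∧ w ∈ (fun u => g * u * g⁻¹) '' B}
  have hcomp : ∀ g h : G, (fun u => g * u * g⁻¹) '' ((fun u => h * u * h⁻¹) '' B)
      = (fun u => g * h * u * (g * h)⁻¹) '' B := fun g h => by
    rw [Set.image_image]; simp [mul_assoc]
  have hmeet : ∀ g h : G, ∀ v, v ∈ (fun u => g * u * g⁻¹) '' B →
      v ∈ (fun u => h * u * h⁻¹) '' B →
      (fun u => g * u * g⁻¹) '' B = (fun u => h * u * h⁻¹) '' B := by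
    intro g h v hv hv'
    rcases hB (h⁻¹ * g) with e | e
    · have := congrArg (fun S : Set G => (fun u => h * u * h⁻¹) '' S) e
      simp only [hcomp, mul_inv_cancel_left] at this
      exact this
    · exfalso
      refine Set.disjoint_left.1 e
        (show h⁻¹ * v * h ∈ (fun x => h⁻¹ * g * x * (h⁻¹ * g)⁻¹) '' B from ?_)
        (show h⁻¹ * v * h ∈ B from ?_)
      · obtain ⟨u, hu, rfl⟩ := hv
        exact ⟨u, hu, by simp [mul_assoc]⟩
      · obtain ⟨u, hu, rfl⟩ := hv'
        simpa [mul_assoc] using hu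
  have hf : ∀ g : G, f (g * a₀ * g⁻¹) = (fun u => g * u * g⁻¹) '' B := by
    intro g
    ext w
    refine ⟨?_, fun hw => ⟨g, rfl, hw⟩⟩
    rintro ⟨h, hh, hw⟩
    rwa [hmeet h g (h * a₀ * h⁻¹) ⟨a₀, ha₀, rfl⟩ ⟨a₀, ha₀, hh.symm⟩] at hw
  have hfD : ∀ v ∈ D, ∃ g, g * a₀ * g⁻¹ = v ∧ f v = (fun u => g * u * g⁻¹) '' B := by
    intro v hv
    obtain ⟨g, rfl⟩ := hD.trans a₀ (hBD ha₀) v hv
    exact ⟨g, rfl, hf g⟩
  have hfmem : ∀ v ∈ D, ∀ w ∈ f v, w ∈ D ∧ f w = f v := by
    intro v hv w hw
    obtain ⟨g, -, e⟩ := hfD v hv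
    rw [e] at hw ⊢
    have hwD : w ∈ D := by
      obtain ⟨u, hu, rfl⟩ := hw
      exact hD.conj g u (hBD hu)
    obtain ⟨h, rfl, e'⟩ := hfD w hwD
    exact ⟨hwD, e'.trans (hmeet h g _ ⟨a₀, ha₀, rfl⟩ hw)⟩
  have heq : ∀ (k : G), ∀ v ∈ D, f (k * v * k⁻¹) = (fun u => k * u * k⁻¹) '' f v := by
    intro k v hv
    obtain ⟨g, rfl, e⟩ := hfD v hv
    rw [e, hcomp, ← hf]
    simp [mul_assoc]
  have hiff : ∀ a ∈ D, ∀ q ∈ D, f a ≠ f q → (Commute a q ↔ f (q * a * q) = f a) := by
    intro a ha q hq hne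
    refine ⟨fun h => by rw [invol_conj_eq_of_commute (hD.sq q hq) h.symm], fun h => ?_⟩
    by_contra hc
    have e1 : (fun u => a * u * a⁻¹) '' f q = f a := by
      rw [← heq a q hq, hT.inv_eq ha, hT.braid ha hq hc]
      exact h
    have e2 : (fun u => a * u * a⁻¹) '' f a = f a := by
      rw [← heq a a ha, mul_inv_cancel_right]
    have hinj : Function.Injective fun u => a * u * a⁻¹ :=
      fun p p' h => mul_left_cancel (mul_right_cancel h)
    exact hne ((Set.image_injective.2 hinj) (e1.trans e2.symm)).symm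
  have hmod : IsModule D f := by
    refine ⟨fun g a ha b hb h => by rw [heq g a ha, heq g b hb, h], fun a ha a' ha' q hq h hne => ?_⟩
    have e1 := heq q a ha
    have e2 := heq q a' ha'
    rw [hT.inv_eq hq] at e1 e2
    rw [hiff a ha q hq hne, hiff a' ha' q hq (h ▸ hne), e1, e2, h]
  have hfa : f a₀ = B := by
    have := hf 1
    simpa using this
  have hfb : f b₀ = f a₀ := (hfmem a₀ (hBD ha₀) b₀ (hfa.symm ▸ hb₀)).2
  have hMn := hmod.modGrp_normal hD
  have hML : modGrp D f ≤ L :=
    (IsModule.modGrp_le_commutator (f := f) hD).trans (commutator_le_of_index hD hi)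
  rcases IsComponent.le_or_commutator_eq_bot hL hMn.isSubnormal with h | h
  · refine hBne (hBD.antisymm fun v hv => ?_)
    obtain ⟨g, hg⟩ := hD.trans a₀ (hBD ha₀) v hv
    have hfix : ∀ l ∈ L, l * a₀ * l⁻¹ ∈ B := fun l hl => by
      have := hmod.mem_fix hD (h hl) a₀ (hBD ha₀)
      rw [hf l, hfa] at this
      rw [← this]
      exact ⟨a₀, ha₀, rfl⟩
    rcases mem_or_mul_mem hD hi (hBD ha₀) g with hg' | hg'
    · exact hg ▸ hfix g hg'
    · have := hfix _ hg'
      rwa [mul_inv_rev, hT.inv_eq (hBD ha₀), mul_assoc g a₀ a₀, hD.sq _ (hBD ha₀), mul_one,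
        ← mul_assoc, hg] at this
  · have hm : a₀ * b₀ ∈ modGrp D f :=
      Subgroup.subset_closure ⟨a₀, hBD ha₀, b₀, hBD hb₀, hfb.symm, rfl⟩
    have : Group.IsNilpotent (modGrp D f) := isNilpotent_of_commutator_commutator (eq_bot_iff.2
      ((Subgroup.commutator_mono (Subgroup.commutator_le_self _) le_rfl).trans
        ((Subgroup.commutator_mono hML le_rfl).trans h.le)))
    have hcen := (le_fittingSubgroup hMn) hm
    rw [fittingSubgroup_eq_center hD h2 h3] at hcen
    exact hne (eq_of_mul_central hD hD2 (hBD ha₀) (hBD hb₀) hcen)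

/-- A connected commuting graph forces index at most two. -/
theorem index_le_two_of_connected {L : Subgroup G} [L.Normal] (hL : IsComponent L)
    (hconn : (Cfsg.commutingGraph D).Connected) : L.index ≤ 2 := by
  obtain ⟨d, hd⟩ := hD.nonempty
  have hall : ∀ e ∈ D, (e : G ⧸ L) = d := by
    intro e he
    have h := (SimpleGraph.reachable_iff_reflTransGen (⟨d, hd⟩ : D) ⟨e, he⟩).1 (hconn _ _)
    suffices H : ∀ v : D, Relation.ReflTransGen (Cfsg.commutingGraph D).Adj ⟨d, hd⟩ v →
        ((v : G) : G ⧸ L) = d from H _ h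
    intro v hv
    induction hv with
    | refl => rfl
    | tail _ hs ih =>
      rename_i b c _
      rw [← ih]
      have hc : Commute (b : G) c := by
        obtain ⟨-, h | h⟩ := (SimpleGraph.fromRel_adj _ _ _).1 hs
        exacts [h, h.symm]
      rw [eq_comm, QuotientGroup.eq, hD.toTSet.inv_eq b.2]
      exact mul_mem_of_commute hD hL b.2 c.2 hc
  have htop : ∀ q : G ⧸ L, q ∈ Subgroup.zpowers (d : G ⧸ L) := by
    intro q
    obtain ⟨g, rfl⟩ := QuotientGroup.mk_surjective q
    have hle : Subgroup.closure D ≤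
        (Subgroup.zpowers (d : G ⧸ L)).comap (QuotientGroup.mk' L) :=
      (Subgroup.closure_le _).2 fun e he => by
        show (e : G ⧸ L) ∈ Subgroup.zpowers (d : G ⧸ L)
        rw [hall e he]
        exact Subgroup.mem_zpowers _
    exact hle (show g ∈ Subgroup.closure D by rw [hD.gen]; trivial)
  have h2 : orderOf (d : G ⧸ L) ∣ 2 := orderOf_dvd_of_pow_eq_one (by
    rw [← QuotientGroup.mk_pow, pow_two, hD.sq d hd, QuotientGroup.mk_one])
  rw [Subgroup.index_eq_card, ← orderOf_eq_card_of_forall_mem_zpowers htop]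
  exact Nat.le_of_dvd (by norm_num) h2

omit [Finite G] in
theorem connected_of_block {d : G} (hd : d ∈ D) (h : block D d = D) :
    (Cfsg.commutingGraph D).Connected := by
  have key : ∀ (v : G) (hv : v ∈ D), (Cfsg.commutingGraph D).Reachable ⟨d, hd⟩ ⟨v, hv⟩ := by
    intro v hv
    have hr : Relation.ReflTransGen (CAdj D) d v := h.symm.subset hv
    induction hr with
    | refl => exact SimpleGraph.Reachable.refl _
    | tail hb hs ih =>
      rename_i b c
      have hbD : b ∈ D := block_subset hd hb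
      by_cases hbc : b = c
      · subst hbc; exact ih hbD
      · refine (ih hbD).trans (SimpleGraph.Adj.reachable ?_)
        exact (SimpleGraph.fromRel_adj _ _ _).2 ⟨fun e => hbc (congrArg Subtype.val e), Or.inl hs.2⟩
  have : Nonempty D := ⟨⟨d, hd⟩⟩
  exact ⟨fun u v => (key u u.2).symm.trans (key v v.2)⟩

/-- The cores are central in the primitive case. -/
theorem cores_central (hprim : Cfsg.IsPrimitiveUnderConj D)
    (hw : ∃ a ∈ D, ∃ b ∈ D, a ≠ b ∧ Commute a b) :
    Cfsg.pCore 2 G ≤ Subgroup.center G ∧ Cfsg.pCore 3 G ≤ Subgroup.center G := by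
  have hT := hD.toTSet
  obtain ⟨a, ha, b, hb, hab, hc⟩ := hw
  have single : ∀ {N : Subgroup G}, N.Normal → ∀ (f : G → Set G),
      (∀ (g : G), ∀ p ∈ D, ∀ q ∈ D, f p = f q → f (g * p * g⁻¹) = f (g * q * g⁻¹)) →
      cls D f a ≠ D → (∀ p ∈ D, a * p ∈ N → f p = f a) → N ≤ Subgroup.center G := by
    intro N hN f heq hne hcos
    refine le_center_of_commute hD ha fun g hg => ?_
    have hsub : (cls D f a).Subsingleton :=
      (hprim.2.2 _ (fun v hv => hv.1) (cls_isBlock hD heq ha)).resolve_right hne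
    have hm : a * (g * a * g⁻¹) ∈ N := by
      rw [show a * (g * a * g⁻¹) = (a * g * a⁻¹) * g⁻¹ by rw [hT.inv_eq ha]; group]
      exact mul_mem (hN.conj_mem g hg a) (inv_mem hg)
    have := hsub ⟨hD.conj g a ha, hcos _ (hD.conj g a ha) hm⟩ ⟨ha, rfl⟩
    exact (mul_inv_eq_iff_eq_mul.1 this).symm
  constructor
  · refine single PCore.pCore_normal (sameComm D) (sameComm_isModule hD).equivariant ?_
      fun p hp => sameComm_eq_of_mul_mem hT ha hp
    intro h
    obtain ⟨z, hz, hza⟩ := exists_not_commute hD ⟨a, ha, b, hb, hab⟩ ha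
    have hz' : z ∈ cls D (sameComm D) a := h.symm.subset hz
    exact hza ((sameComm_eq_iff.1 hz'.2 a ha).2 (Commute.refl a))
  · refine single PCore.pCore_normal (perp D) (perp_isModule hD).equivariant ?_
      fun p hp h => (perp_eq_of_mul_mem hT ha hp h).symm
    intro h
    have hb' : b ∈ cls D (perp D) a := h.symm.subset hb
    have h1 : b ∈ perp D a := ⟨hb, hab.symm, hc⟩
    rw [← hb'.2] at h1
    exact h1.2.1 rfl

theorem connected_of_primitive (hprim : Cfsg.IsPrimitiveUnderConj D)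
    (hw : ∃ a ∈ D, ∃ b ∈ D, a ≠ b ∧ Commute a b) : (Cfsg.commutingGraph D).Connected := by
  obtain ⟨a, ha, b, hb, hab, hc⟩ := hw
  refine connected_of_block hD ha ((hprim.2.2 (block D a) (block_subset ha) fun g => ?_).resolve_left
    fun h => hab (h (block_mem_self a) (Relation.ReflTransGen.single ⟨hb, hc⟩)))
  rw [block_conj hD]
  by_cases h : g * a * g⁻¹ ∈ block D a
  · exact Or.inl (block_eq ha h)
  · right
    rw [Set.disjoint_left]
    intro v hv hv'
    exact h ((Relation.ReflTransGen.trans (hv' : Relation.ReflTransGen _ a v)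
      (block_symm (hD.conj g a ha) hv)))

/-- Transitivity of `⟨perp D x⟩` on `perp D x` when the cores are central. -/
theorem perp_transitive_of_central (hD2 : ∃ a ∈ D, ∃ b ∈ D, a ≠ b)
    (h2 : Cfsg.pCore 2 G ≤ Subgroup.center G) (h3 : Cfsg.pCore 3 G ≤ Subgroup.center G)
    {x a b : G} (hx : x ∈ D) (ha : a ∈ perp D x) (hb : b ∈ perp D x) :
    ∃ g ∈ Subgroup.closure (perp D x), g * a * g⁻¹ = b := by
  let π := QuotientGroup.mk' (Subgroup.center G)
  have hinj : ∀ p ∈ D, ∀ q ∈ D, π p = π q → p = q := by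
    intro p hp q hq h
    have h' : p⁻¹ * q ∈ Subgroup.center G := QuotientGroup.eq.1 h
    rw [hD.toTSet.inv_eq hp] at h'
    exact eq_of_mul_central hD hD2 hp hq h'
  have hcomm : ∀ p ∈ D, ∀ q ∈ D, Commute (π p) (π q) → Commute p q := by
    intro p hp q hq h
    by_contra hne
    have h3' : (p * q) ^ 3 = 1 := (hD.ord p hp q hq).resolve_left
      fun k => hne (hD.toTSet.commute_of_sq hp hq k)
    have h2' : (π (p * q)) ^ 2 = 1 := by
      rw [map_mul, h.mul_pow, ← map_pow, ← map_pow, pow_two, pow_two, hD.sq p hp, hD.sq q hq,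
        map_one, one_mul]
    have h3'' : (π (p * q)) ^ 3 = 1 := by rw [← map_pow, h3', map_one]
    have h1 : π (p * q) = 1 := by simpa using pow_gcd_eq_one.2 ⟨h2', h3''⟩
    exact hne (eq_of_mul_central hD hD2 hp hq ((QuotientGroup.eq_one_iff _).1 h1) ▸ Commute.refl p)
  have hQ : TClass (π '' D) := by
    refine ⟨⟨?_, ?_, ?_, ?_⟩, ?_, ?_, hD.nonempty.image π⟩
    · rintro _ ⟨d, hd, rfl⟩; rw [← map_mul, hD.sq d hd, map_one]
    · rintro _ ⟨d, hd, rfl⟩ h
      obtain ⟨z, hz, hzd⟩ := exists_not_commute hD hD2 hd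
      exact hzd (Subgroup.mem_center_iff.1 ((QuotientGroup.eq_one_iff d).1 h) z)
    · rintro _ ⟨d, hd, rfl⟩ _ ⟨e, he, rfl⟩
      rw [← map_mul, ← map_pow, ← map_pow]
      exact (hD.ord d hd e he).imp (fun h => by rw [h, map_one]) (fun h => by rw [h, map_one])
    · intro g
      obtain ⟨g, rfl⟩ := QuotientGroup.mk'_surjective _ g
      rintro _ ⟨d, hd, rfl⟩
      exact ⟨g * d * g⁻¹, hD.conj g d hd, by simp [π]⟩
    · rintro _ ⟨d, hd, rfl⟩ _ ⟨e, he, rfl⟩
      obtain ⟨g, rfl⟩ := hD.trans d hd e he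
      exact ⟨π g, by simp⟩
    · rw [← MonoidHom.map_closure, hD.gen]
      exact Subgroup.map_top_of_surjective π (QuotientGroup.mk'_surjective _)
  have hsol : ∀ N : Subgroup (G ⧸ Subgroup.center G), N.Normal → Group.IsSolvable N →
      N ≤ commutator (G ⧸ Subgroup.center G) → N = ⊥ := by
    intro N hNn hNs _
    let M := N.comap π
    have hker : Group.IsSolvable (Subgroup.center G) := Group.isSolvable_of_comm fun p q =>
      Subtype.ext (Subgroup.mem_center_iff.1 q.2 p)
    have hMs : Group.IsSolvable M := by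
      let ψ : M →* N := (π.comp M.subtype).codRestrict N fun m => m.2
      have hle : Subgroup.center G ≤ M := fun z hz => by
        show π z ∈ N
        rw [show π z = 1 from (QuotientGroup.eq_one_iff z).2 hz]
        exact one_mem N
      refine Group.isSolvable_of_ker_le_range (Subgroup.inclusion hle) ψ ?_
      intro m hm
      exact ⟨⟨m, (QuotientGroup.eq_one_iff _).1 (congrArg Subtype.val hm)⟩, rfl⟩
    have hMc : M ≤ Subgroup.center G := solvable_le_center hD hD2 h2 h3
    rw [eq_bot_iff]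
    intro q hq
    obtain ⟨m, rfl⟩ := QuotientGroup.mk'_surjective _ q
    exact (QuotientGroup.eq_one_iff m).2 (hMc hq)
  have himg : π '' perp D x = perp (π '' D) (π x) := by
    ext q
    constructor
    · rintro ⟨v, hv, rfl⟩
      exact ⟨⟨v, hv.1, rfl⟩, fun e => hv.2.1 (hinj v hv.1 x hx e), hv.2.2.map π⟩
    · rintro ⟨⟨v, hv, rfl⟩, hne, hc⟩
      exact ⟨v, ⟨hv, fun e => hne (by rw [e]), hcomm x hx v hv hc⟩, rfl⟩
  obtain ⟨q, hq, hqa⟩ := perp_transitive hQ hsol (Set.mem_image_of_mem π hx)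
    (himg.subset ⟨a, ha, rfl⟩) (himg.subset ⟨b, hb, rfl⟩)
  rw [← himg, ← MonoidHom.map_closure] at hq
  obtain ⟨g, hg, rfl⟩ := hq
  refine ⟨g, hg, hinj _ (hD.conj g a ha.1) b hb.1 ?_⟩
  rw [map_mul, map_mul, map_inv]
  exact hqa

end

end Cfsg.Agent.Fischer
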