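import Cfsg.Agent.Lib.Fischer.Connected

/-!
The rank three theorem: if the commuting graph of a class `D` of 3-transpositions is connected
and there is no solvable normal subgroup in the derived group, then the stabiliser of a point
is transitive on the points not commuting with it.
-/

set_option autoImplicit false

namespace Cfsg.Agent.Fischer

variable {G : Type*} [Group G]

/-- Conjugacy of ordered pairs. -/
def PairEq (a c a' c' : G) : Prop := ∃ g : G, g * a * g⁻¹ = a' ∧ g * c * g⁻¹ = c'

theorem PairEq.refl (a c : G) : PairEq a c a c := ⟨1, by simp, by simp⟩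

theorem PairEq.symm {a c a' c' : G} (h : PairEq a c a' c') : PairEq a' c' a c := by
  obtain ⟨g, rfl, rfl⟩ := h
  exact ⟨g⁻¹, by simp [mul_assoc], by simp [mul_assoc]⟩

theorem PairEq.trans {a c a' c' a'' c'' : G} (h : PairEq a c a' c') (h' : PairEq a' c' a'' c'') :
    PairEq a c a'' c'' := by
  obtain ⟨g, rfl, rfl⟩ := h
  obtain ⟨k, rfl, rfl⟩ := h'
  exact ⟨k * g, by simp [mul_assoc], by simp [mul_assoc]⟩

/-- Adjacency in the commuting graph. -/
def CAdj (D : Set G) (a b : G) : Prop := b ∈ D ∧ Commute a b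

section

variable {D : Set G} (hD : TClass D)
include hD

theorem pairEq_swap {a c : G} (ha : a ∈ D) (hc : c ∈ D) (h : ¬Commute a c) : PairEq a c c a :=
  ⟨_, hD.toTSet.edge_swap ha hc h⟩

theorem pairEq_path {a c u : G} (ha : a ∈ D) (hc : c ∈ D) (hu : u ∈ D) (hac : ¬Commute a c)
    (hcu : ¬Commute c u) (hau : Commute a u) : PairEq a c c u :=
  ⟨_, hD.toTSet.path_conj ha hc hu hac hcu hau⟩

/-- The two edges of an induced path of length two are conjugate, both starting in the middle. -/
theorem pairEq_middle {a c u : G} (ha : a ∈ D) (hc : c ∈ D) (hu : u ∈ D) (hac : ¬Commute a c)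
    (hcu : ¬Commute c u) (hau : Commute a u) : PairEq c a c u :=
  (pairEq_swap hD hc ha fun h => hac h.symm).trans (pairEq_path hD ha hc hu hac hcu hau)

theorem ncard_common_eq {a c a' c' : G} (h : PairEq a c a' c') :
    (perp D a ∩ perp D c).ncard = (perp D a' ∩ perp D c').ncard := by
  obtain ⟨g, rfl, rfl⟩ := h
  have hinj : Function.Injective fun v => g * v * g⁻¹ :=
    fun p q h => mul_left_cancel (mul_right_cancel h)
  rw [← Set.ncard_image_of_injective _ hinj, Set.image_inter hinj,
    conj_image_of_mem (F := perp D) (fun k _ _ => conj_mem_perp hD k),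
    conj_image_of_mem (F := perp D) (fun k _ _ => conj_mem_perp hD k)]

variable [Finite G]
  (hsol : ∀ N : Subgroup G, N.Normal → Group.IsSolvable ↥N → N ≤ commutator G → N = ⊥)
include hsol

/-- A point not commuting with `u` fails to commute with some point of `perp D u`. -/
theorem exists_nonCommute_perp {u c : G} (hu : u ∈ D) (hne : (perp D u).Nonempty)
    (hc : c ∈ nbr D u) : ∃ p ∈ perp D u, ¬Commute c p := by
  by_contra h
  push Not at h
  have hsub : perp D u ⊆ perp D c :=
    fun p hp => ⟨hp.1, fun e => hc.2 (e ▸ hp.2.2), h p hp⟩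
  have he : perp D u = perp D c := Set.eq_of_subset_of_ncard_le hsub
    (ncard_eq_of_equivariant hD (F := perp D) (fun g _ _ => conj_mem_perp hD g) hc.1 hu).le
    (Set.toFinite _)
  have hmod : IsModule D (perp D) := by
    refine ⟨fun g p _ q _ h => ?_, fun p _ p' _ q hq hpp hpq => ?_⟩
    · rw [← conj_image_of_mem (F := perp D) (fun g _ _ => conj_mem_perp hD g), h,
        conj_image_of_mem (F := perp D) (fun g _ _ => conj_mem_perp hD g)]
    · constructor
      · intro hc'
        have : q ∈ perp D p := ⟨hq, fun e => hpq (by rw [e]), hc'⟩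
        rw [hpp] at this
        exact this.2.2
      · intro hc'
        have : q ∈ perp D p' := ⟨hq, fun e => hpq (hpp.trans (by rw [e])), hc'⟩
        rw [← hpp] at this
        exact this.2.2
  have := hmod.eq_of_label_eq hD hsol (fun v hv => Or.inl ?_) hu hc.1 he
  · exact hc.2 (by rw [this])
  obtain ⟨g, rfl⟩ := hD.trans u hu v hv
  obtain ⟨w, hw⟩ := hne
  refine ⟨_, hD.conj g w hw.1, hw.2.2.conj g, fun e => ?_⟩
  have h1 := conj_mem_perp hD g hw
  rw [e] at h1
  exact h1.2.1 rfl

/-- All non-commuting pairs with a common commuting point are conjugate, at each vertex. -/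
theorem pairEq_of_common {u c e : G} (hu : u ∈ D) (hc : c ∈ nbr D u) (he : e ∈ nbr D u)
    (hcn : (perp D u ∩ perp D c).Nonempty) (hen : (perp D u ∩ perp D e).Nonempty) :
    PairEq u c u e := by
  by_contra hne
  wlog hle : (perp D u ∩ perp D e).ncard ≤ (perp D u ∩ perp D c).ncard generalizing c e
  · exact this he hc hen hcn (fun h => hne h.symm) (le_of_not_ge hle)
  have hnonempty : (perp D u).Nonempty := hcn.mono Set.inter_subset_left
  have key : ∀ c' ∈ nbr D u, PairEq u c u c' → perp D u ∩ perp D e ⊆ perp D c' := by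
    intro c' hc' hcc'
    have hce : ¬Commute c' e := by
      intro h
      exact hne (hcc'.trans (pairEq_middle hD hc'.1 hu he.1 (fun k => hc'.2 k.symm) he.2 h))
    have hor : perp D u ∩ perp D c' ⊆ perp D e ∨ perp D u ∩ perp D e ⊆ perp D c' := by
      by_contra h
      rw [not_or, Set.not_subset, Set.not_subset] at h
      obtain ⟨⟨d, ⟨hdu, hdc⟩, hde⟩, d', ⟨hdu', hde'⟩, hdc'⟩ := h
      have hde₂ : ¬Commute d e := fun k =>
        hde ⟨hdu.1, fun x => he.2 (x ▸ hdu.2.2), k.symm⟩
      have hdc₂ : ¬Commute d' c' := fun k =>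
        hdc' ⟨hdu'.1, fun x => hc'.2 (x ▸ hdu'.2.2), k.symm⟩
      -- e is the middle of d-e-u and of d-e-c'
      have h1 : PairEq e d e u :=
        pairEq_middle hD hdu.1 he.1 hu hde₂ (fun k => he.2 k.symm) hdu.2.2.symm
      have h2 : PairEq e d e c' :=
        pairEq_middle hD hdu.1 he.1 hc'.1 hde₂ (fun k => hce k.symm) hdc.2.2.symm
      have h3 : PairEq c' d' c' u :=
        pairEq_middle hD hdu'.1 hc'.1 hu hdc₂ (fun k => hc'.2 k.symm) hdu'.2.2.symm
      have h4 : PairEq c' d' c' e :=
        pairEq_middle hD hdu'.1 hc'.1 he.1 hdc₂ hce hde'.2.2.symm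
      have h5 : PairEq u e c' e :=
        ((pairEq_swap hD hu he.1 he.2).trans (h1.symm.trans h2)).trans
          (pairEq_swap hD he.1 hc'.1 fun k => hce k.symm)
      have h6 : PairEq c' e u c' :=
        (h4.symm.trans h3).trans (pairEq_swap hD hc'.1 hu fun k => hc'.2 k.symm)
      exact hne (hcc'.trans (h5.trans h6).symm)
    rcases hor with h | h
    · have hsub : perp D u ∩ perp D c' ⊆ perp D u ∩ perp D e := fun p hp => ⟨hp.1, h hp⟩
      have := Set.eq_of_subset_of_ncard_le hsub
        (hle.trans (ncard_common_eq hD hcc').le) (Set.toFinite _)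
      rw [← this]
      exact Set.inter_subset_right
    · exact h
  obtain ⟨d, hd⟩ := hen
  obtain ⟨p, hp, hcp⟩ := exists_nonCommute_perp hD hsol hu hnonempty hc
  obtain ⟨g, hgu, hgp⟩ := perp_transitive_centralizer hD hsol hu hp hd.1
  have hc' : g * c * g⁻¹ ∈ nbr D u := by
    have := conj_mem_nbr hD g hc
    rwa [hgu] at this
  have := key _ hc' ⟨g, hgu, rfl⟩ hd
  rw [← hgp] at this
  exact hcp ((Commute.conj_iff g).1 this.2.2)

/-- With connected commuting graph the stabiliser of `a` is transitive on `nbr D a`. -/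
theorem nbr_transitive
    (hconn : ∀ a ∈ D, ∀ v ∈ D, Relation.ReflTransGen (CAdj D) a v)
    {a c c' : G} (ha : a ∈ D) (hc : c ∈ nbr D a) (hc' : c' ∈ nbr D a) :
    PairEq a c a c' := by
  have key : ∀ v, Relation.ReflTransGen (CAdj D) a v → v ∈ D → ¬Commute a v →
      ∃ w ∈ nbr D a, (perp D a ∩ perp D w).Nonempty ∧ PairEq a v a w := by
    intro v hv
    induction hv with
    | refl => exact fun _ h => absurd (Commute.refl a) h
    | tail hreach hstep ih =>
      rename_i b v
      intro hvD hav
      have hbD : b ∈ D := by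
        rcases Relation.ReflTransGen.cases_tail hreach with rfl | ⟨_, -, h⟩
        · exact ha
        · exact h.1
      by_cases hab : Commute a b
      · have hba : b ≠ a := fun e => hav (e ▸ hstep.2)
        have hbv : b ≠ v := fun e => hav (e ▸ hab)
        exact ⟨v, ⟨hvD, hav⟩, ⟨b, ⟨hbD, hba, hab⟩, ⟨hbD, hbv, hstep.2.symm⟩⟩, PairEq.refl _ _⟩
      · obtain ⟨w, hw, hwn, hbw⟩ := ih hbD hab
        exact ⟨w, hw, hwn,
          (pairEq_middle hD hvD ha hbD (fun k => hav k.symm) hab hstep.2.symm).trans hbw⟩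
  obtain ⟨w, hw, hwn, h1⟩ := key c (hconn a ha c hc.1) hc.1 hc.2
  obtain ⟨w', hw', hwn', h2⟩ := key c' (hconn a ha c' hc'.1) hc'.1 hc'.2
  exact h1.trans ((pairEq_of_common hD hsol ha hw hw' hwn hwn').trans h2.symm)

end

end Cfsg.Agent.Fischer
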