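import Mathlib

/-!
A finite group in which every element has order at most three is solvable.
-/

set_option autoImplicit false

namespace Cfsg.Agent.Fischer

variable {G : Type*} [Group G]

/-- A finite group whose Sylow 2-subgroup has order two is an odd-order group by `C₂`. -/
theorem exists_odd_normal_index_two [Finite G] (P : Sylow 2 G) (hP : Nat.card P = 2) :
    ∃ K : Subgroup G, K.Normal ∧ ¬2 ∣ Nat.card K ∧ K.index = 2 := by
  have : Fact (Nat.Prime 2) := ⟨Nat.prime_two⟩
  have hcyc : IsCyclic P := isCyclic_of_prime_card hP
  have hdvd : 2 ∣ Nat.card G := hP ▸ Subgroup.card_subgroup_dvd_card (P : Subgroup G)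
  have hne : Nat.card G ≠ 1 := fun h => by rw [h] at hdvd; exact absurd hdvd (by norm_num)
  have hmin : (Nat.card G).minFac = 2 := (Nat.minFac_eq_two_iff _).2 hdvd
  have hN := IsCyclic.normalizer_le_centralizer (P := P) hmin hcyc
  refine ⟨(MonoidHom.transferSylow P hN).ker, inferInstance,
    MonoidHom.not_dvd_card_ker_transferSylow P hN, ?_⟩
  have h1 := Subgroup.IsComplement.card_mul (MonoidHom.ker_transferSylow_isComplement' P hN)
  have h2 := Subgroup.card_mul_index (MonoidHom.transferSylow P hN).ker
  refine Eq.trans ?_ hP
  apply mul_left_cancel₀ (a := Nat.card (MonoidHom.transferSylow P hN).ker) Nat.card_pos.ne'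
  rw [h2]
  exact h1.symm

theorem isSolvable_of_index_prime_pgroup [Finite G] {p : ℕ} [Fact p.Prime] (K : Subgroup G)
    [K.Normal] (hK : IsPGroup p K) {q : ℕ} (hq : q.Prime) (hi : K.index = q) :
    Group.IsSolvable G := by
  have : Fact q.Prime := ⟨hq⟩
  have : IsCyclic (G ⧸ K) := isCyclic_of_prime_card (Subgroup.index_eq_card K ▸ hi)
  have := hK.isNilpotent
  have : Group.IsSolvable (G ⧸ K) := Group.isSolvable_of_comm fun a b =>
    (IsCyclic.isMulCommutative (α := G ⧸ K)).is_comm.comm a b
  exact Group.isSolvable_of_ker_le_range K.subtype (QuotientGroup.mk' K) (by simp)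

/-- In a group with all element orders at most three, an element commuting with an involution is one. -/
theorem sq_eq_one_of_commute (h : ∀ a : G, a ^ 2 = 1 ∨ a ^ 3 = 1) {s r : G} (hs : s * s = 1)
    (hs1 : s ≠ 1) (hr : Commute r s) : r ^ 2 = 1 := by
  rcases h r with h2 | h3
  · exact h2
  ·
    have hs2 : s ^ 2 = 1 := by rw [pow_two, hs]
    rcases h (r * s) with g2 | g3
    · rw [hr.mul_pow, hs2, mul_one] at g2
      exact g2
    · rw [hr.mul_pow, h3, one_mul, pow_succ, hs2, one_mul] at g3
      exact absurd g3 hs1

/-- A finite group in which every element has order at most three is solvable. -/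
theorem isSolvable_of_orders_le_three [Finite G] (h : ∀ a : G, a ^ 2 = 1 ∨ a ^ 3 = 1) :
    Group.IsSolvable G := by
  have : Fact (Nat.Prime 2) := ⟨Nat.prime_two⟩
  have : Fact (Nat.Prime 3) := ⟨Nat.prime_three⟩
  by_cases hall : ∀ s t : G, s * s = 1 → t * t = 1 → Commute s t
  · let S : Subgroup G :=
      { carrier := {a | a * a = 1}
        one_mem' := mul_one 1
        mul_mem' := fun {a b} (ha : a * a = 1) (hb : b * b = 1) => by
          show a * b * (a * b) = 1
          rw [← (hall a b ha hb).mul_mul_mul_comm, ha, hb, one_mul]
        inv_mem' := fun {a} (ha : a * a = 1) => by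
          show a⁻¹ * a⁻¹ = 1
          rw [← mul_inv_rev, ha, inv_one] }
    have : S.Normal := ⟨fun a (ha : a * a = 1) g => by
      show g * a * g⁻¹ * (g * a * g⁻¹) = 1
      rw [conj_mul, ha, mul_one, mul_inv_cancel]⟩
    have : Group.IsSolvable S := Group.isSolvable_of_comm fun a b => Subtype.ext (hall a b a.2 b.2)
    have hQ : IsPGroup 3 (G ⧸ S) := by
      intro q
      refine ⟨1, ?_⟩
      obtain ⟨a, rfl⟩ := QuotientGroup.mk_surjective q
      rw [pow_one, ← QuotientGroup.mk_pow, QuotientGroup.eq_one_iff]
      rcases h a with h2 | h3
      · rw [pow_succ, h2, one_mul]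
        show a * a = 1
        rwa [← pow_two]
      · rw [h3]; exact S.one_mem
    have := hQ.isNilpotent
    exact Group.isSolvable_of_ker_le_range S.subtype (QuotientGroup.mk' S) (by simp)
  · push Not at hall
    obtain ⟨s, t, hs, ht, hst⟩ := hall
    have hs1 : s ≠ 1 := fun e => hst (by rw [e]; exact Commute.one_left t)
    have es := fun x : G => show s * (s * x) = x by rw [← mul_assoc, hs, one_mul]
    have et := fun x : G => show t * (t * x) = x by rw [← mul_assoc, ht, one_mul]
    have hti : t⁻¹ = t := inv_eq_of_mul_eq_one_right ht
    have hsi : s⁻¹ = s := inv_eq_of_mul_eq_one_right hs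
    have hC : ∀ r : G, Commute r s → r = 1 ∨ r = s := by
      intro r hr
      have hr2 : r * r = 1 := by rw [← pow_two]; exact sq_eq_one_of_commute h hs hs1 hr
      have er := fun x : G => show r * (r * x) = x by rw [← mul_assoc, hr2, one_mul]
      by_contra hne
      push Not at hne
      obtain ⟨hr1, hrs⟩ := hne
      have hri : r⁻¹ = r := inv_eq_of_mul_eq_one_right hr2
      have hstb : s * t * s = t * s * t := by
        rcases h (s * t) with g | g
        · exfalso
          apply hst
          rw [pow_two] at g
          have := inv_eq_of_mul_eq_one_right g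
          rw [mul_inv_rev, hti, hsi] at this
          exact this.symm
        · have g' : s * t * s * (t * s * t) = 1 := by rw [← g]; simp [pow_succ, mul_assoc]
          rw [← mul_left_inj (t * s * t), g']
          simp only [mul_assoc, es, et, ht]
      by_cases hrt : Commute r t
      · have hcomm : Commute r (s * t) := hr.mul_right hrt
        rcases h (r * (s * t)) with g | g <;> rw [hcomm.mul_pow] at g
        · rw [pow_two r, hr2, one_mul] at g
          apply hst
          rw [pow_two] at g
          have := inv_eq_of_mul_eq_one_right g
          rw [mul_inv_rev, hti, hsi] at this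
          exact this.symm
        · rcases h (s * t) with g2 | g3
          · rw [pow_succ (s * t), g2, one_mul, pow_succ r, pow_two r, hr2, one_mul] at g
            apply hst
            rw [pow_two] at g2
            have := inv_eq_of_mul_eq_one_right g2
            rw [mul_inv_rev, hti, hsi] at this
            exact this.symm
          · rw [g3, mul_one, pow_succ r, pow_two r, hr2, one_mul] at g
            exact hr1 g
      have hrtb : r * t * r = t * r * t := by
        rcases h (r * t) with g | g
        · exfalso
          apply hrt
          rw [pow_two] at g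
          have := inv_eq_of_mul_eq_one_right g
          rw [mul_inv_rev, hti, hri] at this
          exact this.symm
        · have g' : r * t * r * (t * r * t) = 1 := by rw [← g]; simp [pow_succ, mul_assoc]
          rw [← mul_left_inj (t * r * t), g']
          simp only [mul_assoc, er, et, ht]
      have case2 : (r * t * s) ^ 2 = 1 → False := by
        intro g
        rw [pow_two] at g
        have g' := inv_eq_of_mul_eq_one_right g
        simp only [mul_inv_rev, hri, hti, hsi] at g'
        apply hrs
        have h1 : t * s = r * (s * (t * r)) := by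
          have : r * (r * t * s) = r * (s * (t * r)) := by rw [← g']
          simpa only [mul_assoc, er] using this
        have h2 : t * s = s * (t * (r * t)) := by
          rw [h1, ← mul_assoc r s, hr.eq, mul_assoc, ← mul_assoc r t r, hrtb, mul_assoc t r t]
        have h3 : s * (t * s) = t * (r * t) := by rw [h2, es]
        have h4 : t * (s * t) = t * (r * t) := by
          rw [← h3, ← mul_assoc, ← mul_assoc, hstb]
        exact (mul_right_cancel (mul_left_cancel h4)).symm
      rcases h (r * t * s) with g | g
      · exact case2 g
      · have g' : r * t * s * (r * t * s) = (r * t * s)⁻¹ := by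
          rw [eq_inv_iff_mul_eq_one, ← g]; simp [pow_succ]
        simp only [mul_inv_rev, hri, hti, hsi, mul_assoc] at g'
        have h5 : t * (r * (s * t)) = s * (t * r) := by
          have h6 : r * t * s * (r * t * s) = t * (r * (s * t)) := by
            calc r * t * s * (r * t * s) = r * t * (s * r) * (t * s) := by simp only [mul_assoc]
              _ = r * t * (r * s) * (t * s) := by rw [hr.eq]
              _ = (r * t * r) * (s * t * s) := by simp only [mul_assoc]
              _ = (t * r * t) * (t * s * t) := by rw [hrtb, hstb]
              _ = t * (r * (s * t)) := by simp only [mul_assoc, et]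
          rw [← h6]
          simpa only [mul_assoc] using g'
        apply case2
        have : (s * (t * r)) * (s * (t * r)) = 1 := by
          rw [← h5]
          calc t * (r * (s * t)) * (t * (r * (s * t))) = t * ((r * s) * (r * s)) * t := by
                simp only [mul_assoc, et]
            _ = t * ((r * r) * (s * s)) * t := by rw [hr.mul_mul_mul_comm]
            _ = 1 := by rw [hr2, hs, one_mul, mul_one, ht]
        have hinv := congrArg (fun x => x⁻¹) this
        simpa only [mul_inv_rev, hri, hti, hsi, inv_one, pow_two, mul_assoc] using hinv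
    obtain ⟨P, hP⟩ := (IsPGroup.of_card (n := 1) (p := 2)
      (by rw [Nat.card_zpowers, pow_one]; exact orderOf_eq_prime (by rw [pow_two, hs]) hs1) :
      IsPGroup 2 (Subgroup.zpowers s)).exists_le_sylow
    have hsP : s ∈ (P : Subgroup G) := hP (Subgroup.mem_zpowers s)
    have : Nontrivial P := ⟨⟨⟨s, hsP⟩, 1, fun e => hs1 (congrArg Subtype.val e)⟩⟩
    have := P.isPGroup'.center_nontrivial
    obtain ⟨c, hc⟩ := exists_ne (1 : Subgroup.center P)
    have hc1 : ((c : P) : G) ≠ 1 := fun e => hc (Subtype.ext (Subtype.ext e))
    have hcc : ∀ y ∈ (P : Subgroup G), Commute y ((c : P) : G) := fun y hy =>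
      congrArg Subtype.val (Subgroup.mem_center_iff.1 c.2 ⟨y, hy⟩)
    have hcs : ((c : P) : G) = s := (hC _ (hcc s hsP).symm).resolve_left hc1
    have hPsub : ∀ y ∈ (P : Subgroup G), y = 1 ∨ y = s := fun y hy =>
      hC y (hcs ▸ hcc y hy)
    have hP2 : Nat.card P = 2 := by
      have : ((P : Subgroup G) : Set G) = {1, s} := by
        ext y
        refine ⟨fun hy => hPsub y hy, ?_⟩
        rintro (rfl | rfl)
        · exact one_mem _
        · exact hsP
      calc Nat.card P = ((P : Subgroup G) : Set G).ncard := (Nat.card_coe_set_eq _)
        _ = 2 := by rw [this, Set.ncard_pair hs1.symm]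
    obtain ⟨K, hKn, hKodd, hKi⟩ := exists_odd_normal_index_two P hP2
    have hK3 : IsPGroup 3 K := by
      intro a
      refine ⟨1, ?_⟩
      rw [pow_one]
      rcases h (a : G) with g | g
      · have ha : orderOf a ∣ 2 := orderOf_dvd_of_pow_eq_one (Subtype.ext g)
        rcases (Nat.dvd_prime Nat.prime_two).1 ha with g1 | g2
        · rw [orderOf_eq_one_iff.1 g1, one_pow]
        · exact absurd (g2 ▸ orderOf_dvd_natCard a) hKodd
      · exact Subtype.ext g
    exact isSolvable_of_index_prime_pgroup K hK3 Nat.prime_two hKi

end Cfsg.Agent.Fischer
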