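/-!
Data of the free commutative distributive quasigroup of exponent three on four generators
(81 points): spanning words, action of the generators, and a derivation of this action.
-/

set_option autoImplicit false

namespace Cfsg.Agent.Fischer.HTS

/-- The point `p` is the image of the generator `(data p).2` under the word `(data p).1`. -/
def wordData : List (List Nat × Nat) := [
  ([], 0), ([3, 2, 1, 3, 2, 1], 0), ([2, 3, 1, 2, 3, 1], 0), ([], 3),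
  ([0, 2, 1, 3, 2, 1], 0), ([1, 2, 0, 3, 2, 1], 0), ([3], 0), ([1, 2, 3, 1, 2], 0),
  ([2, 1, 3, 2, 1], 0), ([], 2), ([1, 3, 0, 2, 3, 1], 0), ([0, 3, 1, 2, 3, 1], 0),
  ([0, 3], 2), ([1, 2, 0, 3], 1), ([1, 3, 0, 2], 1), ([3, 2], 0),
  ([1, 0, 3, 2], 1), ([1, 2, 3, 1], 0), ([2], 0), ([3, 1, 2, 3, 1], 0),
  ([1, 3, 2, 1, 3], 0), ([2, 3], 0), ([1, 3, 2, 1], 0), ([1, 0, 2, 3], 1),
  ([3], 2), ([1, 0, 2, 1, 3], 0), ([1, 0, 3, 1, 2], 0), ([], 1),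
  ([2, 3, 0, 2, 3, 1], 0), ([3, 2, 0, 3, 2, 1], 0), ([0, 3], 1), ([2, 3, 0, 2], 1),
  ([2, 1, 0, 3], 2), ([3, 1], 0), ([2, 1, 3, 2], 0), ([2, 0, 3, 2], 1),
  ([0, 2], 1), ([3, 1, 0, 3], 2), ([3, 2, 0, 3], 1), ([2, 3, 2, 1], 0),
  ([1, 3, 1, 2], 0), ([1, 2, 1, 3], 0), ([0, 1, 3, 2], 0), ([3, 2], 1),
  ([0, 2, 3, 1], 0), ([2, 1], 0), ([3, 0, 2, 3], 1), ([3, 1, 2, 3], 0),
  ([0, 1, 2, 3], 0), ([0, 3, 2, 1], 0), ([2, 3], 1), ([0, 1, 3], 2),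
  ([2, 1, 3], 0), ([3, 1, 2], 0), ([1], 0), ([2, 3, 1, 2, 3], 0),
  ([3, 2, 1, 3, 2], 0), ([1, 3], 0), ([2, 0, 1, 3], 2), ([2, 3, 1, 2], 0),
  ([3], 1), ([2, 0, 3, 2, 1], 0), ([2, 0, 1, 2, 3], 0), ([1, 2], 0),
  ([3, 2, 1, 3], 0), ([3, 0, 1, 3], 2), ([1, 3], 2), ([0, 3, 1, 2], 0),
  ([0, 2, 1, 3], 0), ([1, 2, 3], 0), ([0, 2, 3], 1), ([3, 2, 1], 0),
  ([2], 1), ([3, 0, 1, 3, 2], 0), ([3, 0, 2, 3, 1], 0), ([1, 3, 2], 0),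
  ([2, 3, 1], 0), ([0, 3, 2], 1), ([1, 0, 3], 2), ([3, 0, 2], 1),
  ([2, 0, 3], 1)]

/-- The action of the four generators on the points. -/
def sigData : List (List Nat) := [
  [0, 2, 1, 6, 8, 7, 3, 5, 4, 18, 20, 19, 24, 26, 25, 21, 23, 22, 9, 11, 10, 15, 17, 16, 12, 14, 13, 54, 56, 55, 60, 62, 61, 57, 59, 58, 72, 74, 73, 78, 80, 79, 75, 77, 76, 63, 65, 64, 69, 71, 70, 66, 68, 67, 27, 29, 28, 33, 35, 34, 30, 32, 31, 45, 47, 46, 51, 53, 52, 48, 50, 49, 36, 38, 37, 42, 44, 43, 39, 41, 40],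
  [54, 56, 55, 60, 62, 61, 57, 59, 58, 72, 74, 73, 78, 80, 79, 75, 77, 76, 63, 65, 64, 69, 71, 70, 66, 68, 67, 27, 29, 28, 33, 35, 34, 30, 32, 31, 45, 47, 46, 51, 53, 52, 48, 50, 49, 36, 38, 37, 42, 44, 43, 39, 41, 40, 0, 2, 1, 6, 8, 7, 3, 5, 4, 18, 20, 19, 24, 26, 25, 21, 23, 22, 9, 11, 10, 15, 17, 16, 12, 14, 13],
  [18, 20, 19, 24, 26, 25, 21, 23, 22, 9, 11, 10, 15, 17, 16, 12, 14, 13, 0, 2, 1, 6, 8, 7, 3, 5, 4, 72, 74, 73, 80, 79, 78, 76, 75, 77, 63, 65, 64, 71, 70, 69, 67, 66, 68, 54, 56, 55, 62, 61, 60, 58, 57, 59, 45, 47, 46, 52, 51, 53, 50, 49, 48, 36, 38, 37, 43, 42, 44, 41, 40, 39, 27, 29, 28, 34, 33, 35, 32, 31, 30],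
  [6, 8, 7, 3, 5, 4, 0, 2, 1, 24, 26, 25, 21, 23, 22, 18, 20, 19, 15, 17, 16, 12, 14, 13, 9, 11, 10, 60, 62, 61, 57, 59, 58, 54, 56, 55, 79, 78, 80, 76, 75, 77, 73, 72, 74, 71, 70, 69, 68, 67, 66, 65, 64, 63, 33, 35, 34, 30, 32, 31, 27, 29, 28, 53, 52, 51, 50, 49, 48, 47, 46, 45, 43, 42, 44, 40, 39, 41, 37, 36, 38]]

/-- Edges of the spanning tree (both directions) and the fixed generators. -/
def initData : List (Nat × Nat × Nat) := [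
  (0, 0, 0), (27, 1, 27), (9, 2, 9), (3, 3, 3), (0, 1, 54), (54, 1, 0),
  (0, 2, 18), (18, 2, 0), (0, 3, 6), (6, 3, 0), (27, 2, 72), (72, 2, 27),
  (27, 3, 60), (60, 3, 27), (9, 3, 24), (24, 3, 9), (54, 2, 45), (45, 2, 54),
  (54, 3, 33), (33, 3, 54), (18, 1, 63), (63, 1, 18), (18, 3, 15), (15, 3, 18),
  (6, 1, 57), (57, 1, 6), (6, 2, 21), (21, 2, 6), (72, 0, 36), (36, 0, 72),
  (72, 3, 43), (43, 3, 72), (60, 0, 30), (30, 0, 60), (60, 2, 50), (50, 2, 60),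
  (24, 0, 12), (12, 0, 24), (24, 1, 66), (66, 1, 24), (45, 3, 71), (71, 3, 45),
  (33, 2, 76), (76, 2, 33), (63, 3, 53), (53, 3, 63), (15, 1, 75), (75, 1, 15),
  (57, 2, 52), (52, 2, 57), (21, 1, 69), (69, 1, 21), (36, 3, 79), (79, 3, 36),
  (43, 0, 77), (77, 0, 43), (30, 2, 80), (80, 2, 30), (50, 0, 70), (70, 0, 50),
  (12, 1, 78), (78, 1, 12), (66, 0, 51), (51, 0, 66), (71, 0, 49), (49, 0, 71),
  (71, 1, 22), (22, 1, 71), (71, 2, 39), (39, 2, 71), (76, 0, 44), (44, 0, 76),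
  (76, 1, 17), (17, 1, 76), (53, 0, 67), (67, 0, 53), (53, 1, 40), (40, 1, 53),
  (53, 2, 59), (59, 2, 53), (75, 0, 42), (42, 0, 75), (75, 2, 34), (34, 2, 75),
  (52, 0, 68), (68, 0, 52), (52, 1, 41), (41, 1, 52), (52, 3, 64), (64, 3, 52),
  (69, 0, 48), (48, 0, 69), (69, 3, 47), (47, 3, 69), (79, 1, 14), (14, 1, 79),
  (79, 2, 31), (31, 2, 79), (77, 1, 16), (16, 1, 77), (77, 2, 35), (35, 2, 77),
  (80, 1, 13), (13, 1, 80), (80, 3, 38), (38, 3, 80), (70, 1, 23), (23, 1, 70),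
  (70, 3, 46), (46, 3, 70), (78, 2, 32), (32, 2, 78), (78, 3, 37), (37, 3, 78),
  (51, 2, 58), (58, 2, 51), (51, 3, 65), (65, 3, 51), (49, 2, 61), (61, 2, 49),
  (22, 2, 8), (8, 2, 22), (44, 3, 74), (74, 3, 44), (17, 3, 19), (19, 3, 17),
  (67, 1, 26), (26, 1, 67), (59, 1, 7), (7, 1, 59), (42, 3, 73), (73, 3, 42),
  (34, 3, 56), (56, 3, 34), (68, 1, 25), (25, 1, 68), (64, 1, 20), (20, 1, 64),
  (48, 2, 62), (62, 2, 48), (47, 2, 55), (55, 2, 47), (61, 1, 5), (5, 1, 61),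
  (61, 3, 29), (29, 3, 61), (8, 0, 4), (4, 0, 8), (8, 3, 1), (1, 3, 8),
  (74, 1, 10), (10, 1, 74), (74, 2, 28), (28, 2, 74), (19, 0, 11), (11, 0, 19),
  (19, 2, 2), (2, 2, 19)]

/-- Derivation of the other edges: `(a, b, k)`. -/
def certData : List (Nat × Nat × Nat) := [
  (0, 3, 1), (0, 9, 1), (0, 12, 3), (0, 27, 1), (0, 30, 3), (0, 36, 3),
  (3, 9, 0), (3, 12, 4), (3, 15, 3), (3, 27, 0), (3, 30, 4), (3, 33, 3),
  (3, 40, 9), (3, 43, 3), (3, 45, 3), (3, 53, 4), (9, 27, 0), (9, 30, 4),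
  (9, 33, 4), (9, 36, 4), (9, 38, 9), (9, 41, 9), (9, 43, 4), (9, 44, 9),
  (9, 45, 3), (9, 52, 4), (9, 56, 11), (9, 66, 4), (10, 33, 0), (11, 33, 0),
  (11, 77, 2), (12, 27, 1), (12, 28, 17), (12, 39, 11), (12, 43, 5), (12, 50, 5),
  (12, 72, 4), (12, 73, 15), (12, 80, 5), (13, 26, 18), (13, 33, 0), (13, 43, 1),
  (13, 60, 3), (14, 54, 1), (14, 60, 0), (15, 32, 13), (15, 35, 13), (15, 47, 7),
  (15, 48, 13), (15, 54, 2), (15, 61, 14), (15, 65, 11), (15, 68, 11), (15, 73, 8),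
  (15, 77, 7), (16, 27, 2), (16, 30, 5), (16, 36, 6), (16, 45, 0), (16, 60, 0),
  (16, 73, 1), (16, 74, 2), (17, 24, 2), (17, 30, 0), (17, 32, 7), (17, 34, 14),
  (17, 35, 7), (17, 36, 2), (17, 39, 9), (17, 40, 10), (17, 43, 2), (17, 46, 5),
  (17, 49, 17), (17, 50, 5), (17, 53, 8), (17, 70, 11), (17, 80, 11), (18, 23, 10),
  (19, 22, 5), (19, 25, 6), (19, 28, 21), (19, 35, 1), (20, 29, 2)]

end Cfsg.Agent.Fischer.HTS
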