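import Cfsg.Agent.Lib.Fischer.Module
import Cfsg.Agent.Lib.Fischer.HallTripleData
import Cfsg.Agent.Lib.Involution.BaerSuzuki

/-!
A class of 3-transpositions in which no two different members commute generates a group whose
products of two members form a 3-group; in particular the group is solvable.

The proof: four members generate a group acting on at most 81 points in the manner of the
free Hall triple system on four generators (derived from a certificate), so four members give a
3-group, and the Baer–Suzuki theorem does the rest.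
-/

set_option autoImplicit false

namespace Cfsg.Agent.Fischer

open HTS

variable {G : Type*} [Group G]

namespace HTS

/-- The generator with a given label. -/
def gen (a : Fin 4 → G) (n : ℕ) : G := a ⟨n % 4, Nat.mod_lt n (by norm_num)⟩

/-- Conjugation by a generator. -/
def cg (a : Fin 4 → G) (n : ℕ) (x : G) : G := gen a n * x * gen a n

/-- Conjugation by a word. -/
def run (a : Fin 4 → G) (w : List ℕ) (x : G) : G := w.foldr (cg a) x

/-- The word of a point. -/
def wd (p : ℕ) : List ℕ × ℕ := wordData.getD p ([], 0)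

/-- The point with a given label. -/
def pt (a : Fin 4 → G) (p : ℕ) : G := run a (wd p).1 (gen a (wd p).2)

/-- The word of conjugation by a point. -/
def wordW (p : ℕ) : List ℕ := (wd p).1 ++ [(wd p).2] ++ (wd p).1.reverse

/-- Table lookup. -/
def look (t : List (ℕ × ℕ × ℕ)) (c l : ℕ) : Option ℕ :=
  (t.find? fun e => e.1 == c && e.2.1 == l).map fun e => e.2.2

/-- Follow a word through the table. -/
def runTbl (t : List (ℕ × ℕ × ℕ)) (w : List ℕ) (c : ℕ) : Option ℕ :=
  w.foldr (fun l o => o.bind fun x => look t x l) (some c)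

/-- One deduction from the commutativity of two points. -/
def stepTbl (t : List (ℕ × ℕ × ℕ)) (e : ℕ × ℕ × ℕ) : List (ℕ × ℕ × ℕ) :=
  match (wordW e.2.1 ++ wordW e.1).drop e.2.2 with
  | [] => t
  | l :: post =>
    match runTbl t post e.2.1, runTbl t ((wordW e.2.1 ++ wordW e.1).take e.2.2).reverse e.1 with
    | some c, some d => (c, l, d) :: (d, l, c) :: t
    | _, _ => t

/-- The derived table. -/
def finalTbl : List (ℕ × ℕ × ℕ) := certData.foldl stepTbl initData

/-- Check of an initial edge. -/
def initOK (e : ℕ × ℕ × ℕ) : Bool :=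
  wd e.2.2 == (e.2.1 :: (wd e.1).1, (wd e.1).2) || wd e.1 == (e.2.1 :: (wd e.2.2).1, (wd e.2.2).2)
    || (e.1 == e.2.2 && wd e.1 == ([], e.2.1))

theorem initData_ok : initData.all initOK = true := by decide +kernel

theorem finalTbl_ok : ∀ (i : Fin 4) (p : Fin 81),
    look finalTbl p i = some ((sigData.getD i []).getD p 0) := by decide +kernel

theorem run_append (a : Fin 4 → G) (u v : List ℕ) (x : G) :
    run a (u ++ v) x = run a u (run a v x) := List.foldr_append

section sound

variable {a : Fin 4 → G}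

theorem run_reverse_run (hsq : ∀ i, a i * a i = 1) (w : List ℕ) (x : G) :
    run a w.reverse (run a w x) = x := by
  induction w generalizing x with
  | nil => rfl
  | cons l w ih =>
    rw [List.reverse_cons, run_append]
    show run a w.reverse (cg a l (cg a l (run a w x))) = x
    rw [show cg a l (cg a l (run a w x)) = run a w x from invol_conj_invol (hsq _) _, ih]

theorem conj_run (hsq : ∀ i, a i * a i = 1) (w : List ℕ) (b : ℕ) (x : G) :
    run a w (gen a b) * x * run a w (gen a b) = run a (w ++ [b] ++ w.reverse) x := by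
  induction w generalizing x with
  | nil => rfl
  | cons l w ih =>
    have e : l :: w ++ [b] ++ (l :: w).reverse = [l] ++ ((w ++ [b] ++ w.reverse) ++ [l]) := by simp
    rw [e, run_append, run_append, ← ih]
    show cg a l (run a w (gen a b)) * x * cg a l (run a w (gen a b)) =
      cg a l (run a w (gen a b) * cg a l x * run a w (gen a b))
    simp only [cg, mul_assoc]

theorem conj_pt (hsq : ∀ i, a i * a i = 1) (p : ℕ) (x : G) :
    pt a p * x * pt a p = run a (wordW p) x := conj_run hsq _ _ _

omit [Group G] in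
theorem wordW_reverse (p : ℕ) : (wordW p).reverse = wordW p := by simp [wordW]

/-- All entries of a table hold. -/
def Sound (a : Fin 4 → G) (t : List (ℕ × ℕ × ℕ)) : Prop :=
  ∀ e ∈ t, cg a e.2.1 (pt a e.1) = pt a e.2.2

theorem look_sound {t : List (ℕ × ℕ × ℕ)} (ht : Sound a t) {c l d : ℕ} (h : look t c l = some d) :
    cg a l (pt a c) = pt a d := by
  unfold look at h
  rw [Option.map_eq_some_iff] at h
  obtain ⟨e, he, rfl⟩ := h
  have h1 := List.find?_some he
  simp only [Bool.and_eq_true, beq_iff_eq] at h1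
  have := ht e (List.mem_of_find?_eq_some he)
  rwa [h1.1, h1.2] at this

theorem runTbl_sound {t : List (ℕ × ℕ × ℕ)} (ht : Sound a t) :
    ∀ (w : List ℕ) (c d : ℕ), runTbl t w c = some d → run a w (pt a c) = pt a d := by
  intro w
  induction w with
  | nil => intro c d h; cases h; rfl
  | cons l w ih =>
    intro c d h
    have h' : (runTbl t w c).bind (fun x => look t x l) = some d := h
    rw [Option.bind_eq_some_iff] at h'
    obtain ⟨x, hx, hl⟩ := h'
    show cg a l (run a w (pt a c)) = pt a d
    rw [ih c x hx]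
    exact look_sound ht hl

theorem stepTbl_sound (hsq : ∀ i, a i * a i = 1)
    (hbr : ∀ p q, pt a p * pt a q * pt a p = pt a q * pt a p * pt a q)
    {t : List (ℕ × ℕ × ℕ)} (ht : Sound a t) (e : ℕ × ℕ × ℕ) : Sound a (stepTbl t e) := by
  obtain ⟨x, y, k⟩ := e
  unfold stepTbl
  dsimp only
  split
  · exact ht
  · rename_i l post hdrop
    split
    · rename_i c d hc hd
      have hc' := runTbl_sound ht _ _ _ hc
      have hd' := runTbl_sound ht _ _ _ hd
      have hfact : run a (wordW y ++ wordW x) (pt a y) = pt a x := by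
        rw [run_append, ← conj_pt hsq x, hbr, conj_pt hsq y]
        conv_lhs => rw [← wordW_reverse y]
        conv_lhs => arg 3; rw [wordW_reverse]
        exact run_reverse_run hsq _ _
      rw [← List.take_append_drop k (wordW y ++ wordW x), hdrop, run_append] at hfact
      have hfact' : run a ((wordW y ++ wordW x).take k) (cg a l (pt a c)) = pt a x := by
        rw [← hc']; exact hfact
      have hnew : cg a l (pt a c) = pt a d := by
        rw [← hd', ← hfact', run_reverse_run hsq]
      intro e he
      rcases List.mem_cons.1 he with rfl | he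
      · exact hnew
      rcases List.mem_cons.1 he with rfl | he
      · show cg a l (pt a d) = pt a c
        rw [← hnew]
        exact invol_conj_invol (hsq _) _
      · exact ht e he
    · exact ht

theorem initData_sound (hsq : ∀ i, a i * a i = 1) : Sound a initData := by
  intro e he
  have h := List.all_eq_true.1 initData_ok e he
  obtain ⟨c, l, d⟩ := e
  simp only [initOK, Bool.or_eq_true, Bool.and_eq_true, beq_iff_eq] at h
  show cg a l (pt a c) = pt a d
  rcases h with (h | h) | ⟨rfl, h⟩
  · unfold pt; rw [h]; rfl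
  · unfold pt; rw [h]; exact invol_conj_invol (hsq _) _
  · unfold pt
    rw [h]
    show gen a l * gen a l * gen a l = gen a l
    rw [show gen a l * gen a l = 1 from hsq _, one_mul]

theorem finalTbl_sound (hsq : ∀ i, a i * a i = 1)
    (hbr : ∀ p q, pt a p * pt a q * pt a p = pt a q * pt a p * pt a q) : Sound a finalTbl := by
  have : ∀ (l : List (ℕ × ℕ × ℕ)) (t : List (ℕ × ℕ × ℕ)), Sound a t → Sound a (l.foldl stepTbl t) := by
    intro l
    induction l with
    | nil => exact fun t ht => ht
    | cons e l ih => exact fun t ht => ih _ (stepTbl_sound hsq hbr ht e)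
  exact this _ _ (initData_sound hsq)

end sound

/-- The action of a generator on the 81 labels. -/
def sigFun (i : Fin 4) (p : Fin 81) : Fin 81 :=
  ⟨((sigData.getD i []).getD p 0) % 81, Nat.mod_lt _ (by norm_num)⟩

theorem sigData_lt : ∀ (i : Fin 4) (p : Fin 81), (sigData.getD i []).getD p 0 < 81 := by
  decide +kernel

theorem sigFun_invol : ∀ (i : Fin 4) (p : Fin 81), sigFun i (sigFun i p) = p := by decide +kernel

/-- The action of a generator as a permutation. -/
def sig (i : Fin 4) : Equiv.Perm (Fin 81) :=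
  ⟨sigFun i, sigFun i, sigFun_invol i, sigFun_invol i⟩

/-- The label of a generator. -/
def genLabel : Fin 4 → Fin 81 := ![0, 27, 9, 3]

theorem genLabel_ok : ∀ i : Fin 4, wd (genLabel i) = ([], (i : ℕ)) := by decide +kernel

/-- The fibre rotation. -/
def tauFun (p : Fin 81) : Fin 81 := ⟨3 * (p.1 / 3) + (p.1 + 1) % 3, by omega⟩

/-- The projection to the affine space. -/
def proj (p : Fin 81) : ZMod 3 × ZMod 3 × ZMod 3 :=
  ((p.1 / 27 : ℕ), (p.1 / 9 : ℕ), (p.1 / 3 : ℕ))

theorem proj_fibre : ∀ p q : Fin 81, proj p = proj q →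
    q = p ∨ q = tauFun p ∨ q = tauFun (tauFun p) := by decide +kernel

theorem tau_cube : ∀ p : Fin 81, tauFun (tauFun (tauFun p)) = p := by decide +kernel

theorem gens_ok : ∀ (i j : Fin 4) (p : Fin 81),
    sigFun i (sigFun j (tauFun p)) = tauFun (sigFun i (sigFun j p)) ∧
      proj (sigFun i (sigFun j p)) = proj p + (proj (sigFun i (sigFun j 0)) - proj 0) := by
  decide +kernel

/-- Permutations inducing translations and commuting with the fibre rotation. -/
def fibred : Submonoid (Equiv.Perm (Fin 81)) where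
  carrier := {π | (∀ p, π (tauFun p) = tauFun (π p)) ∧ ∃ v, ∀ p, proj (π p) = proj p + v}
  one_mem' := ⟨fun _ => rfl, 0, fun _ => (add_zero _).symm⟩
  mul_mem' := by
    rintro π ρ ⟨h1, v, h2⟩ ⟨k1, w, k2⟩
    refine ⟨fun p => ?_, w + v, fun p => ?_⟩
    · simp only [Equiv.Perm.mul_apply, k1, h1]
    · simp only [Equiv.Perm.mul_apply, h2, k2, add_assoc]

theorem fibred_pow_nine {π : Equiv.Perm (Fin 81)} (h : π ∈ fibred) : π ^ 9 = 1 := by
  obtain ⟨h1, v, h2⟩ := h
  have hv : v + v + v = 0 := by
    clear h2; revert v; decide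
  have h3 : ∀ p, proj ((π ^ 3) p) = proj p := by
    intro p
    simp only [pow_succ, pow_zero, one_mul, Equiv.Perm.mul_apply, h2, add_assoc]
    rw [← add_assoc v v v, hv, add_zero]
  have hc : ∀ p, (π ^ 3) (tauFun p) = tauFun ((π ^ 3) p) := by
    intro p
    simp only [pow_succ, pow_zero, one_mul, Equiv.Perm.mul_apply, h1]
  rw [show (9 : ℕ) = 3 * 3 by norm_num, pow_mul]
  refine Equiv.ext fun p => ?_
  rw [show ((π ^ 3) ^ 3) p = (π ^ 3) ((π ^ 3) ((π ^ 3) p)) by
    simp [pow_succ, Equiv.Perm.mul_apply]]
  rcases proj_fibre p ((π ^ 3) p) (h3 p).symm with h | h | h <;>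
    simp only [h, hc, tau_cube, Equiv.Perm.one_apply]

end HTS

open HTS in
/-- Four members of a width one class of 3-transpositions give a 3-group. -/
theorem quad_isPGroup [Finite G] {D : Set G} (hD : TSet D)
    (hbr : ∀ x ∈ D, ∀ y ∈ D, x * y * x = y * x * y) (a : Fin 4 → G) (ha : ∀ i, a i ∈ D) :
    IsPGroup 3 ↥(Subgroup.closure {g : G | ∃ i j, g = a i * a j}) := by
  have : Fact (Nat.Prime 3) := ⟨Nat.prime_three⟩
  have hsq : ∀ i, a i * a i = 1 := fun i => hD.sq _ (ha i)
  have hpt : ∀ p, pt a p ∈ D := by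
    intro p
    unfold pt
    generalize (wd p).1 = w
    induction w with
    | nil => exact ha _
    | cons l w ih => exact hD.conj_mem (ha _) ih
  have htbl := finalTbl_sound hsq fun p q => hbr _ (hpt p) _ (hpt q)
  let ψ : Fin 81 → G := fun p => pt a p
  have hσ : ∀ i p, a i * ψ p * a i = ψ (sig i p) := by
    intro i p
    have h'' := finalTbl_ok i p
    have h3 := look_sound htbl h''
    have hg : gen a (i : ℕ) = a i := by
      exact congrArg a (Fin.ext (Nat.mod_eq_of_lt i.2))
    simp only [cg, hg] at h3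
    show a i * pt a p * a i = pt a (sigFun i p).1
    rw [h3, sigFun]
    dsimp only
    rw [Nat.mod_eq_of_lt (sigData_lt i p)]
  let K : Subgroup (G × Equiv.Perm (Fin 81)) :=
    Subgroup.closure {z | ∃ i j, z = (a i * a j, sig i * sig j)}
  have hmon : ∀ z ∈ K, (∀ p, z.1 * ψ p * z.1⁻¹ = ψ (z.2 p)) ∧ z.2 ∈ fibred := by
    intro z hz
    obtain ⟨n, hn⟩ : ∃ n, n ≥ 0 := ⟨0, le_rfl⟩
    rw [← Subgroup.mem_toSubmonoid, Subgroup.closure_toSubmonoid_of_finite] at hz
    induction hz using Submonoid.closure_induction with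
    | mem z hz =>
      obtain ⟨i, j, rfl⟩ := hz
      refine ⟨fun p => ?_, fun p => (gens_ok i j p).1, _, fun p => (gens_ok i j p).2⟩
      show a i * a j * ψ p * (a i * a j)⁻¹ = ψ (sig i (sig j p))
      rw [← hσ, ← hσ, mul_inv_rev, hD.inv_eq (ha i), hD.inv_eq (ha j)]
      simp only [mul_assoc]
    | one => exact ⟨fun p => by simp, one_mem _⟩
    | mul y z _ _ hy hz =>
      refine ⟨fun p => ?_, mul_mem hy.2 hz.2⟩
      show y.1 * z.1 * ψ p * (y.1 * z.1)⁻¹ = ψ (y.2 (z.2 p))
      rw [← hy.1, ← hz.1]
      simp [mul_assoc]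
  set N := Subgroup.closure {g : G | ∃ i j, g = a i * a j} with hN
  have hmap : N = K.map (MonoidHom.fst G (Equiv.Perm (Fin 81))) := by
    rw [MonoidHom.map_closure, hN]
    congr 1
    ext g
    constructor
    · rintro ⟨i, j, rfl⟩; exact ⟨_, ⟨i, j, rfl⟩, rfl⟩
    · rintro ⟨_, ⟨i, j, rfl⟩, rfl⟩; exact ⟨i, j, rfl⟩
  have hcent : ∀ n : N, n ^ 9 ∈ Subgroup.center N := by
    intro n
    obtain ⟨z, hz, hzn⟩ : (n : G) ∈ K.map (MonoidHom.fst G _) := hmap ▸ n.2
    obtain ⟨h1, h2⟩ := hmon _ (pow_mem hz 9)
    have hcg : ∀ i, Commute ((n : G) ^ 9) (a i) := by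
      intro i
      have h := h1 (genLabel i)
      have hp : ψ (genLabel i) = a i := by
        show pt a (genLabel i).1 = a i
        unfold pt
        rw [genLabel_ok]
        show gen a (i : ℕ) = a i
        exact congrArg a (Fin.ext (Nat.mod_eq_of_lt i.2))
      rw [Prod.pow_snd, fibred_pow_nine (hmon z hz).2, Equiv.Perm.one_apply, hp, Prod.pow_fst] at h
      rw [← hzn]
      exact mul_inv_eq_iff_eq_mul.1 h
    refine Subgroup.mem_center_iff.2 fun m => Subtype.ext ?_
    show (m : G) * (n : G) ^ 9 = (n : G) ^ 9 * m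
    suffices H : ∀ g ∈ N, Commute g ((n : G) ^ 9) from H m m.2
    intro g hg
    rw [hN] at hg
    induction hg using Subgroup.closure_induction with
    | mem g hg =>
      obtain ⟨i, j, rfl⟩ := hg
      exact (hcg i).symm.mul_left (hcg j).symm
    | one => exact Commute.one_left _
    | mul g g' _ _ h h' => exact h.mul_left h'
    | inv g _ h => exact h.inv_left
  have hq : IsPGroup 3 (N ⧸ Subgroup.center N) := by
    intro q
    obtain ⟨n, rfl⟩ := QuotientGroup.mk_surjective q
    exact ⟨2, by rw [← QuotientGroup.mk_pow, QuotientGroup.eq_one_iff]; exact hcent n⟩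
  have hnil : Group.IsNilpotent N := Group.of_quotient_center_nilpotent hq.isNilpotent
  have hnc : NormalizerCondition N := Group.normalizerCondition_of_isNilpotent
  obtain ⟨P⟩ := (inferInstance : Nonempty (Sylow 3 N))
  have hPn : (P : Subgroup N).Normal := Sylow.normal_of_normalizerCondition hnc P
  have hle : N ≤ (P : Subgroup N).map N.subtype := by
    refine (Subgroup.closure_le _).2 ?_
    rintro _ ⟨i, j, rfl⟩
    have hm : a i * a j ∈ N := Subgroup.subset_closure ⟨i, j, rfl⟩
    refine ⟨⟨a i * a j, hm⟩, ?_, rfl⟩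
    let u : N := ⟨a i * a j, hm⟩
    have hu : u ^ 3 = 1 := by
      apply Subtype.ext
      show (a i * a j) ^ 3 = 1
      have hb := hbr _ (ha i) _ (ha j)
      calc (a i * a j) ^ 3 = (a i * a j * a i) * (a j * a i * a j) := by
            simp [pow_succ, mul_assoc]
        _ = 1 := by
          rw [hb]
          simp only [mul_assoc, invol_cancel (hsq i), invol_cancel (hsq j), hsq j]
    have hup : IsPGroup 3 (Subgroup.zpowers u) := by
      intro w
      refine ⟨1, ?_⟩
      obtain ⟨w, k, rfl⟩ := w
      apply Subtype.ext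
      show (u ^ k) ^ 3 = 1
      rw [← zpow_natCast, ← zpow_mul, mul_comm, zpow_mul, zpow_natCast, hu, one_zpow]
    obtain ⟨Q, hQ⟩ := hup.exists_le_sylow
    have := Sylow.unique_of_normal P hPn
    rw [Subsingleton.elim Q P] at hQ
    exact hQ (Subgroup.mem_zpowers u)
  exact (P.isPGroup'.map N.subtype).to_le hle

/-- Width one: the products of two members of the class form a 3-group. -/
theorem TClass.pairGrp_isPGroup_of_width_one [Finite G] {D : Set G} (hD : TClass D)
    (h : ∀ a ∈ D, ∀ b ∈ D, Commute a b → a = b) : IsPGroup 3 ↥(pairGrp D) := by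
  have : Fact (Nat.Prime 3) := ⟨Nat.prime_three⟩
  have hbr : ∀ x ∈ D, ∀ y ∈ D, x * y * x = y * x * y := by
    intro x hx y hy
    by_cases hc : Commute x y
    · rw [h x hx y hy hc]
    · exact hD.toTSet.braid hx hy hc
  refine Cfsg.Agent.Involution.baer_suzuki_set {g | ∃ a ∈ D, ∃ b ∈ D, g = a * b} ?_ ?_
  · rintro g _ ⟨a, ha, b, hb, rfl⟩
    exact ⟨_, hD.conj g a ha, _, hD.conj g b hb, by simp [mul_assoc]⟩
  · rintro _ ⟨a, ha, b, hb, rfl⟩ _ ⟨c, hc, d, hd, rfl⟩
    refine (quad_isPGroup hD.toTSet hbr ![a, b, c, d] (fun i => by fin_cases i <;> assumption)).to_le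
      ((Subgroup.closure_le _).2 ?_)
    rintro _ (rfl | rfl)
    · exact Subgroup.subset_closure ⟨0, 1, rfl⟩
    · exact Subgroup.subset_closure ⟨2, 3, rfl⟩

/-- A group generated by a width one class of 3-transpositions is solvable. -/
theorem TClass.isSolvable_of_width_one [Finite G] {D : Set G} (hD : TClass D)
    (h : ∀ a ∈ D, ∀ b ∈ D, Commute a b → a = b) : Group.IsSolvable G := by
  have : Fact (Nat.Prime 3) := ⟨Nat.prime_three⟩
  have hN : (pairGrp D).Normal := by
    refine ⟨fun n hn g => ?_⟩
    unfold pairGrp at hn ⊢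
    induction hn using Subgroup.closure_induction with
    | mem z hz =>
      obtain ⟨a, ha, b, hb, rfl⟩ := hz
      exact Subgroup.subset_closure ⟨_, hD.conj g a ha, _, hD.conj g b hb, by simp [mul_assoc]⟩
    | one => simp
    | mul y z _ _ h1 h2 => rw [← conj_mul]; exact mul_mem h1 h2
    | inv y _ h1 => rw [← conj_inv]; exact inv_mem h1
  have hnil := (hD.pairGrp_isPGroup_of_width_one h).isNilpotent
  obtain ⟨d, hd⟩ := hD.nonempty
  have hq : ∀ q : G ⧸ pairGrp D, q ∈ Subgroup.zpowers (QuotientGroup.mk d : G ⧸ pairGrp D) := by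
    intro q
    obtain ⟨g, rfl⟩ := QuotientGroup.mk_surjective q
    have hg : g ∈ Subgroup.closure D := by rw [hD.gen]; trivial
    induction hg using Subgroup.closure_induction with
    | mem e he =>
      refine ⟨1, ?_⟩
      simp only [zpow_one]
      rw [QuotientGroup.eq, hD.toTSet.inv_eq hd]
      exact mul_mem_pairGrp hd he
    | one => exact one_mem _
    | mul x y _ _ hx hy => rw [QuotientGroup.mk_mul]; exact mul_mem hx hy
    | inv x _ hx => rw [QuotientGroup.mk_inv]; exact inv_mem hx
  have : Group.IsSolvable (G ⧸ pairGrp D) := Group.isSolvable_of_comm fun x y => by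
    obtain ⟨i, rfl⟩ := hq x
    obtain ⟨j, rfl⟩ := hq y
    exact (Commute.refl _).zpow_zpow i j |>.eq
  exact Group.isSolvable_of_ker_le_range (pairGrp D).subtype (QuotientGroup.mk' (pairGrp D))
    (by simp)

end Cfsg.Agent.Fischer
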