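import Mathlib
import Cfsg.Prelude.Def_SporadicB

/-!
Basic calculus of a class of 3-transpositions: braid relation, third point of a line,
diameter two of the non-commuting graph.
-/

set_option autoImplicit false

namespace Cfsg.Agent.Fischer

variable {G : Type*} [Group G]

/-- A conjugation-invariant set of 3-transpositions (elements squaring to one). -/
structure TSet (D : Set G) : Prop where
  sq : ∀ a ∈ D, a * a = 1
  ne_one : ∀ a ∈ D, a ≠ 1
  ord : ∀ a ∈ D, ∀ b ∈ D, (a * b) ^ 2 = 1 ∨ (a * b) ^ 3 = 1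
  conj : ∀ (g : G), ∀ a ∈ D, g * a * g⁻¹ ∈ D

/-- A generating class of 3-transpositions. -/
structure TClass (D : Set G) : Prop extends TSet D where
  trans : ∀ a ∈ D, ∀ b ∈ D, ∃ g : G, g * a * g⁻¹ = b
  gen : Subgroup.closure D = ⊤
  nonempty : D.Nonempty

theorem TClass.of {D : Set G} (hD : Cfsg.IsThreeTranspositionClass D) : TClass D := by
  obtain ⟨⟨hord, h3⟩, ⟨d, hd, hDd⟩, hgen⟩ := hD
  refine ⟨⟨fun a ha => ?_, fun a ha h => ?_, h3, fun g a ha => ?_⟩, fun a ha b hb => ?_, hgen, ⟨d, hd⟩⟩
  · have := pow_orderOf_eq_one a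
    rwa [hord a ha, sq] at this
  · have := hord a ha
    rw [h, orderOf_one] at this
    exact absurd this (by norm_num)
  · rw [hDd] at ha ⊢
    change IsConj d a at ha
    change IsConj d (g * a * g⁻¹)
    exact ha.trans (isConj_iff.2 ⟨g, rfl⟩)
  · rw [hDd] at ha hb
    change IsConj d a at ha
    change IsConj d b at hb
    exact isConj_iff.1 (ha.symm.trans hb)

theorem inv_eq_self {a : G} (h : a * a = 1) : a⁻¹ = a := inv_eq_of_mul_eq_one_right h

theorem invol_cancel {a : G} (h : a * a = 1) (x : G) : a * (a * x) = x := by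
  rw [← mul_assoc, h, one_mul]

/-- Conjugating a commuting pair by an involution. -/
theorem commute_invol_conj {a : G} (h : a * a = 1) {x y : G} :
    Commute (a * x * a) (a * y * a) ↔ Commute x y := by
  have := Commute.conj_iff (a := x) (b := y) a
  rwa [inv_eq_self h] at this

theorem commute_invol_conj_left {a : G} (h : a * a = 1) {x y : G} :
    Commute (a * x * a) y ↔ Commute x (a * y * a) := by
  have h1 : a * (a * y * a) * a = y := by
    simp only [mul_assoc, invol_cancel h, h, mul_one]
  have h2 := commute_invol_conj h (x := x) (y := a * y * a)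
  rwa [h1] at h2

theorem invol_conj_eq_of_commute {a : G} (h : a * a = 1) {x : G} (hc : Commute a x) :
    a * x * a = x := by
  rw [hc.eq, mul_assoc, h, mul_one]

theorem invol_conj_inj {a : G} (h : a * a = 1) {x y : G} (he : a * x * a = a * y * a) : x = y :=
  mul_left_cancel (mul_right_cancel he)

theorem invol_conj_invol {a : G} (h : a * a = 1) (x : G) : a * (a * x * a) * a = x := by
  simp only [mul_assoc, invol_cancel h, h, mul_one]

namespace TSet

variable {D : Set G} (hD : TSet D)
include hD

theorem inv_eq {a : G} (ha : a ∈ D) : a⁻¹ = a := inv_eq_self (hD.sq a ha)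

theorem conj_mem {a b : G} (ha : a ∈ D) (hb : b ∈ D) : a * b * a ∈ D := by
  have := hD.conj a b hb
  rwa [hD.inv_eq ha] at this

theorem commute_of_sq {a b : G} (ha : a ∈ D) (hb : b ∈ D) (h : (a * b) ^ 2 = 1) : Commute a b := by
  rw [pow_two] at h
  have := inv_eq_of_mul_eq_one_right h
  rw [mul_inv_rev, hD.inv_eq ha, hD.inv_eq hb] at this
  exact this.symm

theorem braid {a b : G} (ha : a ∈ D) (hb : b ∈ D) (h : ¬Commute a b) :
    a * b * a = b * a * b := by
  rcases hD.ord a ha b hb with h2 | h3
  · exact absurd (hD.commute_of_sq ha hb h2) h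
  · have h' : (a * b * a) * (b * a * b) = 1 := by
      rw [← h3]; simp [pow_succ, mul_assoc]
    rw [← mul_left_inj (b * a * b), h']
    have e1 : ∀ x : G, b * (b * x) = x := invol_cancel (hD.sq b hb)
    have e2 : ∀ x : G, a * (a * x) = x := invol_cancel (hD.sq a ha)
    simp only [mul_assoc, e1, e2, hD.sq b hb]

/-- The third point of the line through `a` and `b` is adjacent to both. -/
theorem not_commute_third {a b : G} (ha : a ∈ D) (hb : b ∈ D) (h : ¬Commute a b) :
    ¬Commute (a * b * a) a ∧ ¬Commute (a * b * a) b := by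
  have key : ∀ {a b : G}, a ∈ D → ¬Commute a b → ¬Commute (a * b * a) a := by
    intro a b ha h hc
    rw [commute_invol_conj_left (hD.sq a ha), hD.sq a ha, one_mul] at hc
    exact h hc.symm
  refine ⟨key ha h, ?_⟩
  rw [hD.braid ha hb h]
  exact key hb fun hc => h hc.symm

theorem third_ne {a b : G} (ha : a ∈ D) (hb : b ∈ D) (h : ¬Commute a b) :
    a * b * a ≠ a ∧ a * b * a ≠ b := by
  obtain ⟨h1, h2⟩ := hD.not_commute_third ha hb h
  exact ⟨fun e => h1 (by rw [e]), fun e => h2 (by rw [e])⟩

/-- Conjugation by `a` fixes the point `w` commuting with it, so moves the relation with `b` to `a b a`. -/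
theorem commute_third_iff {a b w : G} (ha : a ∈ D) (hw : Commute a w) :
    Commute (a * b * a) w ↔ Commute b w := by
  rw [commute_invol_conj_left (hD.sq a ha), invol_conj_eq_of_commute (hD.sq a ha) hw]

/-- Path of length two with commuting ends: `a c u` conjugates `(a, c)` to `(c, u)`. -/
theorem path_conj {a c u : G} (ha : a ∈ D) (hc : c ∈ D) (hu : u ∈ D) (hac : ¬Commute a c)
    (hcu : ¬Commute c u) (hau : Commute a u) :
    (a * c * u) * a * (a * c * u)⁻¹ = c ∧ (a * c * u) * c * (a * c * u)⁻¹ = u := by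
  have e1 := invol_cancel (hD.sq a ha)
  have e2 := invol_cancel (hD.sq c hc)
  have e3 := invol_cancel (hD.sq u hu)
  have b1 := hD.braid ha hc hac
  have b2 := hD.braid hu hc fun h => hcu h.symm
  simp only [mul_inv_rev, hD.inv_eq ha, hD.inv_eq hc, hD.inv_eq hu]
  constructor
  · calc a * c * u * a * (u * (c * a)) = a * c * (u * a * u) * (c * a) := by simp only [mul_assoc]
      _ = a * c * a * (c * a) := by rw [invol_conj_eq_of_commute (hD.sq u hu) hau.symm]
      _ = c * a * c * (c * a) := by rw [b1]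
      _ = c := by simp only [mul_assoc, e2, hD.sq a ha, mul_one]
  · calc a * c * u * c * (u * (c * a)) = a * c * (u * c * u) * (c * a) := by simp only [mul_assoc]
      _ = a * c * (c * u * c) * (c * a) := by rw [b2]
      _ = a * u * a := by simp only [mul_assoc, e2]
      _ = u := invol_conj_eq_of_commute (hD.sq a ha) hau

/-- Swapping the ends of an edge. -/
theorem edge_swap {a c : G} (ha : a ∈ D) (hc : c ∈ D) (hac : ¬Commute a c) :
    (a * c * a) * a * (a * c * a)⁻¹ = c ∧ (a * c * a) * c * (a * c * a)⁻¹ = a := by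
  have e1 := invol_cancel (hD.sq a ha)
  have e2 := invol_cancel (hD.sq c hc)
  simp only [mul_inv_rev, hD.inv_eq ha, hD.inv_eq hc]
  have b := hD.braid ha hc hac
  constructor
  · calc a * c * a * a * (a * (c * a)) = a * c * a * (c * a) := by simp only [mul_assoc, e1]
      _ = c * a * c * (c * a) := by rw [b]
      _ = c := by simp only [mul_assoc, e2, hD.sq a ha, mul_one]
  · calc a * c * a * c * (a * (c * a)) = (a * c * a) * c * (a * c * a) := by simp only [mul_assoc]
      _ = (c * a * c) * c * (a * c * a) := by rw [b]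
      _ = c * (a * (a * (c * a))) := by simp only [mul_assoc, e2]
      _ = a := by rw [e1, e2]

end TSet

/-- A set invariant under conjugation by a generating set of involutions is invariant. -/
theorem conj_mem_of_gen {D S : Set G} (hgen : Subgroup.closure D = ⊤)
    (hsq : ∀ a ∈ D, a * a = 1) (hS : ∀ d ∈ D, ∀ b ∈ S, d * b * d ∈ S) (g : G) :
    ∀ b ∈ S, g * b * g⁻¹ ∈ S := by
  have hg : g ∈ Subgroup.closure D := by rw [hgen]; trivial
  have key : (∀ b ∈ S, g * b * g⁻¹ ∈ S) ∧ ∀ b ∈ S, g⁻¹ * b * g⁻¹⁻¹ ∈ S := by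
    induction hg using Subgroup.closure_induction with
    | mem d hd =>
      have hi := inv_eq_self (hsq d hd)
      rw [hi, hi]
      exact ⟨hS d hd, hS d hd⟩
    | one => simp
    | mul x y _ _ hx hy =>
      refine ⟨fun b hb => ?_, fun b hb => ?_⟩
      · have := hx.1 _ (hy.1 b hb)
        simpa [mul_assoc] using this
      · have := hy.2 _ (hx.2 b hb)
        simpa [mul_assoc] using this
    | inv x _ hx => exact ⟨hx.2, by simpa using hx.1⟩
  exact key.1

namespace TClass

variable {D : Set G} (hD : TClass D)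
include hD

theorem eq_of_closed {S : Set G} (hSD : S ⊆ D) {a : G} (ha : a ∈ S)
    (hS : ∀ b ∈ S, ∀ c ∈ D, ¬Commute b c → c ∈ S) : S = D := by
  refine hSD.antisymm fun w hw => ?_
  obtain ⟨g, rfl⟩ := hD.trans a (hSD ha) w hw
  refine conj_mem_of_gen hD.gen hD.sq (fun d hd b hb => ?_) g a ha
  by_cases h : Commute d b
  · rwa [invol_conj_eq_of_commute (hD.sq d hd) h]
  · exact hS b hb _ (hD.toTSet.conj_mem hd (hSD hb)) fun hc =>
      (hD.toTSet.not_commute_third hd (hSD hb) h).2 hc.symm

/-- The non-commuting graph on a class of 3-transpositions has diameter at most two. -/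
theorem exists_common_nonCommute {a b : G} (ha : a ∈ D) (hb : b ∈ D) (hab : a ≠ b)
    (hc : Commute a b) : ∃ z ∈ D, ¬Commute z a ∧ ¬Commute z b := by
  let S : Set G := {y | y ∈ D ∧ (y = a ∨ ¬Commute a y ∨ ∃ z ∈ D, ¬Commute z a ∧ ¬Commute z y)}
  have hS : S = D := by
    refine hD.eq_of_closed (fun y hy => hy.1) (a := a) ⟨ha, Or.inl rfl⟩ ?_
    rintro y ⟨hy, hcase⟩ c hcD hyc
    refine ⟨hcD, ?_⟩
    by_cases h1 : Commute a c
    swap
    · exact Or.inr (Or.inl h1)
    rcases hcase with rfl | hay | ⟨z, hz, hza, hzy⟩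
    · exact absurd h1 hyc
    · exact Or.inr (Or.inr ⟨y, hy, fun h => hay h.symm, hyc⟩)
    by_cases h2 : Commute z c
    swap
    · exact Or.inr (Or.inr ⟨z, hz, hza, h2⟩)
    by_cases h3 : Commute a y
    swap
    · exact Or.inr (Or.inr ⟨y, hy, fun h => h3 h.symm, hyc⟩)
    refine Or.inr (Or.inr ⟨z * y * z, hD.toTSet.conj_mem hz hy, ?_, ?_⟩)
    · rw [hD.toTSet.braid hz hy hzy, hD.toTSet.commute_third_iff hy h3.symm]
      exact hza
    · rw [hD.toTSet.commute_third_iff hz h2]
      exact hyc
  have hb' : b ∈ S := hS ▸ hb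
  rcases hb'.2 with h | h | h
  · exact absurd h.symm hab
  · exact absurd hc h
  · exact h

end TClass

end Cfsg.Agent.Fischer
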