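import Cfsg.Agent.Lib.Fischer.RankThree
import Cfsg.Agent.Lib.Fischer.WidthOne

/-!
The commuting graph of a class of 3-transpositions: if it is disconnected, the action on its
components gives a quotient in which commuting members have equal images.  When the derived
group is simple non-abelian this gives connectedness, hence rank three.
-/

set_option autoImplicit false

namespace Cfsg.Agent.Fischer

variable {G : Type*} [Group G] {D : Set G}

/-- The component of `a` in the commuting graph. -/
def block (D : Set G) (a : G) : Set G := {w | Relation.ReflTransGen (CAdj D) a w}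

theorem block_subset {a : G} (ha : a ∈ D) : block D a ⊆ D := by
  intro w hw
  rcases Relation.ReflTransGen.cases_tail hw with rfl | ⟨_, -, h⟩
  · exact ha
  · exact h.1

theorem block_mem_self (a : G) : a ∈ block D a := Relation.ReflTransGen.refl

theorem block_symm {a b : G} (ha : a ∈ D) (h : b ∈ block D a) : a ∈ block D b := by
  have h' : Relation.ReflTransGen (CAdj D) a b := h
  induction h' with
  | refl => exact Relation.ReflTransGen.refl
  | tail hb hs ih => exact Relation.ReflTransGen.head ⟨block_subset ha hb, hs.2.symm⟩ (ih hb)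

theorem block_eq {a b : G} (ha : a ∈ D) (h : b ∈ block D a) : block D b = block D a :=
  Set.ext fun _ =>
    ⟨fun hv => Relation.ReflTransGen.trans (h : Relation.ReflTransGen _ a b) hv,
     fun hv => Relation.ReflTransGen.trans (block_symm ha h) hv⟩

theorem block_eq_of_commute {a b : G} (ha : a ∈ D) (hb : b ∈ D) (h : Commute a b) :
    block D b = block D a :=
  block_eq ha (Relation.ReflTransGen.single ⟨hb, h⟩)

/-- Conjugation on sets of group elements. -/
def setConj : G →* Equiv.Perm (Set G) where
  toFun g :=
    { toFun := fun S => (fun v => g * v * g⁻¹) '' S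
      invFun := fun S => (fun v => g⁻¹ * v * g) '' S
      left_inv := fun S => by simp [Set.image_image, mul_assoc]
      right_inv := fun S => by simp [Set.image_image, mul_assoc] }
  map_one' := Equiv.ext fun S => by simp
  map_mul' g h := Equiv.ext fun S => by simp [Set.image_image, mul_assoc]

section

variable (hD : TClass D)
include hD

theorem block_conj (g a : G) : (fun v => g * v * g⁻¹) '' block D a = block D (g * a * g⁻¹) := by
  refine conj_image_of_mem (F := block D) (fun k x w hw => ?_) g a
  exact (hw : Relation.ReflTransGen (CAdj D) x w).lift (fun v => k * v * k⁻¹)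
    fun _ _ h => ⟨hD.conj k _ h.1, h.2.conj k⟩

theorem invol_block {d : G} (hd : d ∈ D) (v : G) :
    (fun w => d * w * d⁻¹) '' block D v = block D (d * v * d) := by
  rw [block_conj hD]
  congr 1
  rw [hD.toTSet.inv_eq hd]

theorem invol_fix_block {d v : G} (hd : d ∈ D) (hv : v ∈ block D d) :
    (fun w => d * w * d⁻¹) '' block D v = block D v := by
  rw [block_eq hd hv, invol_block hD hd, hD.sq d hd, one_mul]

/-- Commuting members act equally on the components. -/
theorem commute_act_eq {d e v : G} (hd : d ∈ D) (he : e ∈ D) (hde : Commute d e) (hv : v ∈ D) :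
    block D (d * v * d) = block D (e * v * e) := by
  by_cases h1 : v ∈ block D d
  · have h2 : v ∈ block D e := by rw [block_eq_of_commute hd he hde]; exact h1
    rw [← invol_block hD hd, invol_fix_block hD hd h1, ← invol_block hD he,
      invol_fix_block hD he h2]
  · have hdv : ¬Commute d v := fun h => h1 (Relation.ReflTransGen.single ⟨hv, h⟩)
    have hev : ¬Commute e v := fun h => h1
      (Relation.ReflTransGen.tail (Relation.ReflTransGen.single ⟨he, hde⟩) ⟨hv, h⟩)
    rw [hD.toTSet.braid hd hv hdv, hD.toTSet.braid he hv hev]
    exact (block_eq_of_commute (hD.toTSet.conj_mem hv hd) (hD.toTSet.conj_mem hv he)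
      ((commute_invol_conj (hD.sq v hv)).2 hde)).symm

/-- A member moves every component not containing it. -/
theorem moves_other {d e : G} (hd : d ∈ D) (he : e ∈ D) (h : e ∉ block D d) :
    block D (d * e * d) ≠ block D e := by
  intro heq
  have hde : ¬Commute d e := fun hc => h (Relation.ReflTransGen.single ⟨he, hc⟩)
  have h2 : d * e * d ∈ block D e := heq ▸ block_mem_self _
  have h3 : e * (d * e * d) * e⁻¹ ∈ (fun w => e * w * e⁻¹) '' block D e := ⟨_, h2, rfl⟩
  rw [invol_fix_block hD he (block_mem_self e), hD.toTSet.inv_eq he,
    hD.toTSet.braid hd he hde, invol_conj_invol (hD.sq e he)] at h3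
  exact h (block_symm he h3)

theorem pair_mem_commutator {a b : G} (ha : a ∈ D) (hb : b ∈ D) : a * b ∈ commutator G := by
  obtain ⟨g, rfl⟩ := hD.trans a ha b hb
  have : a * (g * a * g⁻¹) = a * g * a⁻¹ * g⁻¹ := by rw [hD.toTSet.inv_eq ha]; simp [mul_assoc]
  rw [this, ← commutatorElement_def]
  exact Subgroup.commutator_mem_commutator (Subgroup.mem_top _) (Subgroup.mem_top _)

/-- If every normal subgroup of `G` meets the derived group trivially or contains it and some
pair of different members commutes, the commuting graph is connected. -/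
theorem commuting_connected
    (hmin : ∀ N : Subgroup G, N.Normal → N ⊓ commutator G = ⊥ ∨ commutator G ≤ N)
    {x u : G} (hx : x ∈ D) (hu : u ∈ D) (hxu : Commute x u) (hne : x ≠ u) :
    ∀ a ∈ D, ∀ v ∈ D, Relation.ReflTransGen (CAdj D) a v := by
  intro a ha v hv
  by_contra hav
  let O : Set (Set G) := block D '' D
  have hact : ∀ (g : G) (w : G), (setConj g) (block D w) = block D (g * w * g⁻¹) :=
    fun g w => block_conj hD g w
  let N : Subgroup G :=
    { carrier := {g | ∀ w ∈ D, block D (g * w * g⁻¹) = block D w}
      one_mem' := fun w _ => by simp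
      mul_mem' := fun {g k} hg hk w hw => by
        rw [show g * k * w * (g * k)⁻¹ = g * (k * w * k⁻¹) * g⁻¹ by simp [mul_assoc],
          hg _ (hD.conj k w hw), hk w hw]
      inv_mem' := fun {g} hg w hw => by
        have := hg _ (hD.conj g⁻¹ w hw)
        simpa [mul_assoc] using this.symm }
  have hNn : N.Normal := by
    refine ⟨fun n hn g w hw => ?_⟩
    have h1 := hn _ (hD.conj g⁻¹ w hw)
    have h2 := congrArg (fun S : Set G => (fun z => g * z * g⁻¹) '' S) h1
    simp only [block_conj hD] at h2
    simpa [mul_assoc] using h2
  rcases hmin N hNn with h | h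
  · have hm : x * u ∈ N ⊓ commutator G := by
      refine ⟨fun w hw => ?_, pair_mem_commutator hD hx hu⟩
      rw [show x * u * w * (x * u)⁻¹ = x * (u * w * u⁻¹) * x⁻¹ by simp [mul_assoc],
        hD.toTSet.inv_eq hu, hD.toTSet.inv_eq hx,
        commute_act_eq hD hx hu hxu (hD.toTSet.conj_mem hu hw), invol_conj_invol (hD.sq u hu)]
    rw [h, Subgroup.mem_bot] at hm
    exact hne (by rw [← inv_eq_of_mul_eq_one_right hm, hD.toTSet.inv_eq hx])
  · have hm := h (pair_mem_commutator hD ha hv) v hv
    rw [show a * v * v * (a * v)⁻¹ = a * v * a⁻¹ by simp [mul_assoc], hD.toTSet.inv_eq ha] at hm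
    exact moves_other hD ha hv hav hm

end

end Cfsg.Agent.Fischer
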