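import Cfsg.Agent.Lib.Fischer.Module

/-!
Fischer's transitivity theorem: in a group generated by a class `D` of 3-transpositions without
solvable normal subgroups in the derived group, the non-commuting graph on
`D_x = {y ∈ D | y ≠ x, xy = yx}` is connected, so `⟨D_x⟩` is transitive on `D_x`.
-/

set_option autoImplicit false

namespace Cfsg.Agent.Fischer

variable {G : Type*} [Group G]

/-- The members of `D` not commuting with `a`. -/
def nbr (D : Set G) (a : G) : Set G := {b | b ∈ D ∧ ¬Commute a b}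

/-- The other members of `D` commuting with `a`. -/
def perp (D : Set G) (a : G) : Set G := {b | b ∈ D ∧ b ≠ a ∧ Commute a b}

/-- The non-commuting adjacency inside `perp D x`. -/
def PAdj (D : Set G) (x a b : G) : Prop := a ∈ perp D x ∧ b ∈ perp D x ∧ ¬Commute a b

/-- A component of the non-commuting graph on `perp D x`. -/
def comp (D : Set G) (x y : G) : Set G := {w | Relation.ReflTransGen (PAdj D x) y w}

/-- A component of largest possible size. -/
def MaxComp (D : Set G) (x : G) (M : Set G) : Prop :=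
  (∃ y ∈ perp D x, M = comp D x y) ∧
    ∀ x' ∈ D, ∀ y' ∈ perp D x', (comp D x' y').ncard ≤ M.ncard

/-- The union of the components of largest size. -/
def maxUnion (D : Set G) (x : G) : Set G := {w | ∃ M, MaxComp D x M ∧ w ∈ M}

section

variable {D : Set G}

theorem comp_subset {x y : G} (hy : y ∈ perp D x) : comp D x y ⊆ perp D x := by
  intro w hw
  rcases Relation.ReflTransGen.cases_tail hw with rfl | ⟨c, -, h⟩
  · exact hy
  · exact h.2.1

theorem PAdj.symm {x a b : G} (h : PAdj D x a b) : PAdj D x b a := ⟨h.2.1, h.1, fun hc => h.2.2 hc.symm⟩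

theorem comp_symm {x y w : G} (h : w ∈ comp D x y) : y ∈ comp D x w := by
  have h' : Relation.ReflTransGen (PAdj D x) y w := h
  induction h' with
  | refl => exact Relation.ReflTransGen.refl
  | tail hb hs ih => exact Relation.ReflTransGen.head hs.symm (ih hb)

theorem comp_eq_of_mem {x y w : G} (h : w ∈ comp D x y) : comp D x w = comp D x y :=
  Set.ext fun v =>
    ⟨fun hv => Relation.ReflTransGen.trans (h : Relation.ReflTransGen _ y w) hv,
     fun hv => Relation.ReflTransGen.trans (comp_symm h) hv⟩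

theorem comp_closed {x y m w : G} (hy : y ∈ perp D x) (hm : m ∈ comp D x y) (hw : w ∈ perp D x)
    (h : ¬Commute m w) : w ∈ comp D x y :=
  Relation.ReflTransGen.tail hm ⟨comp_subset hy hm, hw, h⟩

theorem maxUnion_subset {x : G} : maxUnion D x ⊆ perp D x := by
  rintro w ⟨M, ⟨⟨y, hy, rfl⟩, -⟩, hw⟩
  exact comp_subset hy hw

variable (hD : TClass D)
include hD

theorem conj_mem_perp (g : G) {x w : G} (hw : w ∈ perp D x) :
    g * w * g⁻¹ ∈ perp D (g * x * g⁻¹) :=
  ⟨hD.conj g w hw.1, fun h => hw.2.1 (mul_left_cancel (mul_right_cancel h)), hw.2.2.conj g⟩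

theorem conj_mem_nbr (g : G) {x w : G} (hw : w ∈ nbr D x) :
    g * w * g⁻¹ ∈ nbr D (g * x * g⁻¹) :=
  ⟨hD.conj g w hw.1, fun h => hw.2 ((Commute.conj_iff g).1 h)⟩

theorem conj_mem_comp (g : G) {x y w : G} (hw : w ∈ comp D x y) :
    g * w * g⁻¹ ∈ comp D (g * x * g⁻¹) (g * y * g⁻¹) :=
  (hw : Relation.ReflTransGen (PAdj D x) y w).lift (fun v => g * v * g⁻¹) fun _ _ h =>
    ⟨conj_mem_perp hD g h.1, conj_mem_perp hD g h.2.1, fun hc => h.2.2 ((Commute.conj_iff g).1 hc)⟩

omit hD in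
theorem conj_image_of_mem {F : G → Set G}
    (h : ∀ (g : G) x w, w ∈ F x → g * w * g⁻¹ ∈ F (g * x * g⁻¹)) (g x : G) :
    (fun v => g * v * g⁻¹) '' F x = F (g * x * g⁻¹) := by
  refine subset_antisymm (Set.image_subset_iff.2 fun w hw => h g x w hw) fun w hw => ?_
  refine ⟨g⁻¹ * w * g, ?_, by simp [mul_assoc]⟩
  have := h g⁻¹ _ _ hw
  simpa [mul_assoc] using this

theorem comp_conj (g x y : G) :
    (fun v => g * v * g⁻¹) '' comp D x y = comp D (g * x * g⁻¹) (g * y * g⁻¹) := by
  refine subset_antisymm (Set.image_subset_iff.2 fun w hw => conj_mem_comp hD g hw) fun w hw => ?_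
  refine ⟨g⁻¹ * w * g, ?_, by simp [mul_assoc]⟩
  have := conj_mem_comp hD g⁻¹ hw
  simpa [mul_assoc] using this

theorem conj_mem_maxUnion (g x w : G) (hw : w ∈ maxUnion D x) :
    g * w * g⁻¹ ∈ maxUnion D (g * x * g⁻¹) := by
  obtain ⟨M, ⟨⟨y, hy, rfl⟩, hmax⟩, hwM⟩ := hw
  refine ⟨_, ⟨⟨_, conj_mem_perp hD g hy, rfl⟩, ?_⟩, conj_mem_comp hD g hwM⟩
  rw [← comp_conj hD, Set.ncard_image_of_injective _
    (fun a b h => mul_left_cancel (mul_right_cancel h))]
  exact hmax

theorem ncard_eq_of_equivariant {F : G → Set G}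
    (h : ∀ (g : G) x w, w ∈ F x → g * w * g⁻¹ ∈ F (g * x * g⁻¹)) {a b : G} (ha : a ∈ D)
    (hb : b ∈ D) : (F a).ncard = (F b).ncard := by
  obtain ⟨g, rfl⟩ := hD.trans a ha b hb
  rw [← conj_image_of_mem h, Set.ncard_image_of_injective _
    (fun a b h => mul_left_cancel (mul_right_cancel h))]

variable [Finite G]

theorem exists_maxComp {x : G} (hx : x ∈ D) (hne : (perp D x).Nonempty) :
    ∃ M, MaxComp D x M := by
  obtain ⟨y0, hy0⟩ := hne
  let S : Set (G × G) := {p | p.1 ∈ D ∧ p.2 ∈ perp D p.1}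
  obtain ⟨⟨a, b⟩, ⟨ha, hb⟩, hmax⟩ :=
    S.exists_max_image (fun p => (comp D p.1 p.2).ncard) S.toFinite ⟨(x, y0), hx, hy0⟩
  obtain ⟨g, rfl⟩ := hD.trans a ha x hx
  refine ⟨comp D (g * a * g⁻¹) (g * b * g⁻¹), ⟨_, conj_mem_perp hD g hb, rfl⟩, fun x' hx' y' hy' => ?_⟩
  rw [← comp_conj hD, Set.ncard_image_of_injective _
    (fun a b h => mul_left_cancel (mul_right_cancel h))]
  exact hmax (x', y') ⟨hx', hy'⟩

omit hD in
/-- A largest component at `x` is one at every `y` commuting with all of it. -/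
theorem MaxComp.move {x y : G} {M : Set G} (hM : MaxComp D x M) (hy : y ∈ D) (hyM : y ∉ M)
    (hc : ∀ w ∈ M, Commute y w) : MaxComp D y M := by
  obtain ⟨⟨y0, hy0, rfl⟩, hmax⟩ := hM
  have hsub : comp D x y0 ⊆ perp D y := fun w hw =>
    ⟨(comp_subset hy0 hw).1, fun e => hyM (e ▸ hw), hc w hw⟩
  have hle : comp D x y0 ⊆ comp D y y0 := by
    intro w hw
    have hw' : Relation.ReflTransGen (PAdj D x) y0 w := hw
    induction hw' with
    | refl => exact Relation.ReflTransGen.refl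
    | tail hb h ih =>
      exact Relation.ReflTransGen.tail (ih hb)
        ⟨hsub hb, hsub (hb.tail h), h.2.2⟩
  have hy0' : y0 ∈ perp D y := hsub Relation.ReflTransGen.refl
  exact ⟨⟨y0, hy0', Set.eq_of_subset_of_ncard_le hle (hmax y hy y0 hy0') (Set.toFinite _)⟩, hmax⟩

/-- If `b` commutes with all the largest components at `a`, these are those at `b`. -/
theorem maxUnion_eq {a b : G} (ha : a ∈ D) (hb : b ∈ D) (hbU : b ∉ maxUnion D a)
    (hc : ∀ w ∈ maxUnion D a, Commute b w) : maxUnion D a = maxUnion D b := by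
  refine Set.eq_of_subset_of_ncard_le ?_
    (ncard_eq_of_equivariant hD (conj_mem_maxUnion hD) hb ha).le (Set.toFinite _)
  rintro w ⟨M, hM, hw⟩
  exact ⟨M, hM.move hb (fun h => hbU ⟨M, hM, h⟩) (fun v hv => hc v ⟨M, hM, hv⟩), hw⟩

theorem maxUnion_eq_of_commute {a b : G} (ha : a ∈ D) (hb : b ∈ perp D a)
    (hbU : b ∉ maxUnion D a) : maxUnion D a = maxUnion D b := by
  refine maxUnion_eq hD ha hb.1 hbU fun w hw => ?_
  by_contra hc
  obtain ⟨M, ⟨⟨y, hy, rfl⟩, hmax⟩, hwM⟩ := hw
  exact hbU ⟨_, ⟨⟨y, hy, rfl⟩, hmax⟩, comp_closed hy hwM hb fun h => hc h.symm⟩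

/-- The non-commuting graph on `perp D x` is connected. -/
theorem perp_connected
    (hsol : ∀ N : Subgroup G, N.Normal → Group.IsSolvable ↥N → N ≤ commutator G → N = ⊥)
    {x a b : G} (hx : x ∈ D) (ha : a ∈ perp D x) (hb : b ∈ perp D x) :
    Relation.ReflTransGen (PAdj D x) a b := by
  by_contra hab
  have hnonempty : ∀ v ∈ D, (perp D v).Nonempty := fun v hv => by
    obtain ⟨g, rfl⟩ := hD.trans x hx v hv
    exact ⟨_, conj_mem_perp hD g ha⟩
  have hmod : IsModule D (maxUnion D) := by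
    refine ⟨fun g p _ q _ h => ?_, fun p hp p' hp' q hq hpp hpq => ?_⟩
    · rw [← conj_image_of_mem (conj_mem_maxUnion hD), ← conj_image_of_mem (conj_mem_maxUnion hD), h]
    have key : ∀ p ∈ D, maxUnion D p ≠ maxUnion D q → (Commute p q ↔ q ∈ maxUnion D p) := by
      intro p hp hne
      refine ⟨fun hc => ?_, fun h => (maxUnion_subset h).2.2⟩
      by_contra hq'
      exact hne (maxUnion_eq_of_commute hD hp ⟨hq, fun e => hne (by rw [e]), hc⟩ hq')
    rw [key p hp hpq, key p' hp' (hpp ▸ hpq), hpp]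
  have hinj : ∀ {p q : G}, p ∈ D → q ∈ D → maxUnion D p = maxUnion D q → p = q := by
    intro p q hp hq h
    refine hmod.eq_of_label_eq hD hsol (fun v hv => Or.inl ?_) hp hq h
    obtain ⟨M, hM⟩ := exists_maxComp hD hv (hnonempty v hv)
    obtain ⟨y, hy, rfl⟩ := hM.1
    have hyU : y ∈ maxUnion D v := ⟨_, hM, Relation.ReflTransGen.refl⟩
    refine ⟨y, hy.1, hy.2.2, fun e => ?_⟩
    rw [e] at hyU
    exact (maxUnion_subset hyU).2.1 rfl
  have hall : ∀ v ∈ D, perp D v = maxUnion D v := by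
    intro v hv
    refine subset_antisymm (fun r hr => ?_) maxUnion_subset
    by_contra hrU
    exact hr.2.1 (hinj hv hr.1 (maxUnion_eq_of_commute hD hv hr hrU)).symm
  have hmaxc : ∀ y ∈ perp D x, MaxComp D x (comp D x y) := by
    intro y hy
    rw [hall x hx] at hy
    obtain ⟨M, hM, hyM⟩ := hy
    obtain ⟨y0, hy0, rfl⟩ := hM.1
    rwa [comp_eq_of_mem hyM]
  have touch : ∀ q ∈ nbr D x, ∀ m ∈ perp D x, ¬Commute q m →
      ∀ w ∈ perp D x, w ∉ comp D x m → ¬Commute q w := by
    intro q hq m hm hqm w hw hwm hqw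
    have hcom : ∀ v ∈ comp D x m, Commute w v := fun v hv => by
      by_contra hc
      exact hwm (comp_closed hm hv hw fun h => hc h.symm)
    obtain ⟨⟨y1, hy1, he⟩, -⟩ := (hmaxc m hm).move hw.1 hwm hcom
    have hmm : m ∈ comp D w y1 := he ▸ Relation.ReflTransGen.refl
    have hqw' : q ∈ comp D w y1 := comp_closed hy1 hmm
      ⟨hq.1, fun e => hq.2 (e ▸ hw.2.2), hqw.symm⟩ fun h => hqm h.symm
    rw [← he] at hqw'
    exact hq.2 (comp_subset hm hqw').2.2
  have hadj : ∀ q ∈ nbr D x, ∀ p ∈ perp D x, ¬Commute q p := by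
    intro q hq p hp
    obtain ⟨w, hw, hqw⟩ : ∃ w ∈ perp D x, ¬Commute q w := by
      by_contra h
      push Not at h
      have := hinj hx hq.1 (maxUnion_eq hD hx hq.1 (fun hm => hq.2 (maxUnion_subset hm).2.2)
        fun v hv => h v (maxUnion_subset hv))
      exact hq.2 (by rw [this])
    obtain ⟨v, hv, hvw⟩ : ∃ v ∈ perp D x, v ∉ comp D x w := by
      by_contra h
      push Not at h
      exact hab (Relation.ReflTransGen.trans (comp_symm (h a ha)) (h b hb))
    by_cases hpw : p ∈ comp D x w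
    · refine touch q hq v hv (touch q hq w hw hqw v hv hvw) p hp fun hpv => ?_
      exact hvw (Relation.ReflTransGen.trans hpw (comp_symm hpv))
    · exact touch q hq w hw hqw p hp hpw
  have hnb : nbr D x = nbr D a := by
    refine Set.eq_of_subset_of_ncard_le (fun q hq => ⟨hq.1, fun h => hadj q hq a ha h.symm⟩)
      (ncard_eq_of_equivariant hD (F := nbr D) (fun g _ _ => conj_mem_nbr hD g) ha.1 hx).le
      (Set.toFinite _)
  have hmod2 : IsModule D (nbr D) := by
    refine ⟨fun g p _ q _ h => ?_, fun p _ p' _ q hq hpp _ => ?_⟩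
    · rw [← conj_image_of_mem (F := nbr D) (fun g _ _ => conj_mem_nbr hD g), h,
        conj_image_of_mem (F := nbr D) (fun g _ _ => conj_mem_nbr hD g)]
    have := Set.ext_iff.1 hpp q
    simp only [nbr, Set.mem_setOf_eq, hq, true_and, not_iff_not] at this
    exact this
  refine ha.2.1 (hmod2.eq_of_label_eq hD hsol (fun v _ => Or.inr ?_) hx ha.1 hnb).symm
  rintro p ⟨hp, hp'⟩ q ⟨hq, hq'⟩
  by_contra hc
  have : q ∈ nbr D p := ⟨hq, hc⟩
  rw [hp', ← hq'] at this
  exact this.2 (Commute.refl q)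

/-- `⟨D_x⟩` is transitive on `D_x`. -/
theorem perp_transitive
    (hsol : ∀ N : Subgroup G, N.Normal → Group.IsSolvable ↥N → N ≤ commutator G → N = ⊥)
    {x a b : G} (hx : x ∈ D) (ha : a ∈ perp D x) (hb : b ∈ perp D x) :
    ∃ g ∈ Subgroup.closure (perp D x), g * a * g⁻¹ = b := by
  have h := perp_connected hD hsol hx ha hb
  induction h with
  | refl => exact ⟨1, one_mem _, by simp⟩
  | tail hab h ih =>
    rename_i c d
    obtain ⟨g, hg, hga⟩ := ih h.1
    refine ⟨(c * d) * g, mul_mem (mul_mem (Subgroup.subset_closure h.1)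
      (Subgroup.subset_closure h.2.1)) hg, ?_⟩
    have e : c * d * g * a * (c * d * g)⁻¹ = c * d * (g * a * g⁻¹) * (c * d)⁻¹ := by
      simp [mul_assoc]
    rw [e, hga, mul_inv_rev, hD.toTSet.inv_eq h.1.1, hD.toTSet.inv_eq h.2.1.1,
      show c * d * c * (d * c) = c * (d * c * d) * c by simp only [mul_assoc],
      hD.toTSet.braid h.2.1.1 h.1.1 fun hc => h.2.2 hc.symm, invol_conj_invol (hD.sq c h.1.1)]

/-- The centralizer of `x` is transitive on `D_x`. -/
theorem perp_transitive_centralizer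
    (hsol : ∀ N : Subgroup G, N.Normal → Group.IsSolvable ↥N → N ≤ commutator G → N = ⊥)
    {x a b : G} (hx : x ∈ D) (ha : a ∈ perp D x) (hb : b ∈ perp D x) :
    ∃ g : G, g * x * g⁻¹ = x ∧ g * a * g⁻¹ = b := by
  obtain ⟨g, hg, h⟩ := perp_transitive hD hsol hx ha hb
  refine ⟨g, ?_, h⟩
  have hle : Subgroup.closure (perp D x) ≤ Subgroup.centralizer {x} :=
    (Subgroup.closure_le _).2 fun y hy =>
      Subgroup.mem_centralizer_singleton_iff.2 hy.2.2.symm.eq
  rw [Subgroup.mem_centralizer_singleton_iff.1 (hle hg), mul_inv_cancel_right]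

end

end Cfsg.Agent.Fischer
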