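import Cfsg.Agent.Lib.Fischer.Connected
import Cfsg.Agent.Lib.Fischer.WidthOne
import Cfsg.Agent.Lib.PCore.Basic
import Cfsg.Prelude.Def_FischerSpaces

/-!
`O_2` and `O_3` of a 3-transposition group in terms of the classes of members with the same
commuting partners.
-/

set_option autoImplicit false

namespace Cfsg.Agent.Fischer

variable {G : Type*} [Group G] {D : Set G}

theorem TSet.ofSet (hD : Cfsg.IsThreeTranspositionSet D)
    (hconj : ∀ g : G, ∀ d ∈ D, g * d * g⁻¹ ∈ D) : TSet D := by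
  refine ⟨fun a ha => ?_, fun a ha h => ?_, hD.2, hconj⟩
  · have := pow_orderOf_eq_one a
    rwa [hD.1 a ha, pow_two] at this
  · have := hD.1 a ha
    rw [h, orderOf_one] at this
    exact absurd this (by norm_num)

theorem TSet.conj_mul_eq (hD : TSet D) {a b : G} (ha : a ∈ D) (hb : b ∈ D) (h : ¬Commute a b) :
    (a * b) * a * (a * b)⁻¹ = b := by
  simp only [mul_inv_rev, hD.inv_eq ha, hD.inv_eq hb]
  calc a * b * a * (b * a) = (b * a * b) * (b * a) := by rw [hD.braid ha hb h]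
    _ = b := by simp only [mul_assoc, invol_cancel (hD.sq _ hb), hD.sq _ ha, mul_one]

/-- A generating set of 3-transpositions in which no two members commute is a class. -/
theorem TSet.tClass_of_width_one (hD : TSet D) (hgen : Subgroup.closure D = ⊤) (hne : D.Nonempty)
    (h : ∀ a ∈ D, ∀ b ∈ D, Commute a b → a = b) : TClass D := by
  refine ⟨hD, fun a ha b hb => ?_, hgen, hne⟩
  by_cases hab : a = b
  · exact ⟨1, by simp [hab]⟩
  · exact ⟨_, hD.conj_mul_eq ha hb fun hc => hab (h a ha b hb hc)⟩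

/-- The products of two members of a closed set without commuting pairs generate a 3-group. -/
theorem pairGrp_isPGroup_of_closed [Finite G] (hD : TSet D) {S : Set G} (hSD : S ⊆ D)
    (hcl : ∀ a ∈ S, ∀ b ∈ S, a * b * a ∈ S) (hw : ∀ a ∈ S, ∀ b ∈ S, Commute a b → a = b) :
    IsPGroup 3 ↥(pairGrp S) := by
  rcases S.eq_empty_or_nonempty with rfl | ⟨a, ha⟩
  · have : pairGrp (∅ : Set G) = ⊥ := by simp [pairGrp]
    rw [this]; exact IsPGroup.of_bot
  set K := Subgroup.closure S
  let T : Set K := Subtype.val ⁻¹' S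
  have hgen : Subgroup.closure T = ⊤ := Subgroup.closure_closure_coe_preimage
  have hT : TSet T := by
    refine ⟨fun a ha => Subtype.ext (hD.sq _ (hSD ha)),
      fun a ha h => hD.ne_one _ (hSD ha) (by simp [h]), fun a ha b hb => ?_,
      conj_mem_of_gen hgen (fun a ha => Subtype.ext (hD.sq _ (hSD ha)))
        (fun d hd b hb => hcl _ hd _ hb)⟩
    exact (hD.ord _ (hSD ha) _ (hSD hb)).imp (fun h => Subtype.ext (by simpa using h))
      (fun h => Subtype.ext (by simpa using h))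
  have hw' : ∀ p ∈ T, ∀ q ∈ T, Commute p q → p = q := fun p hp q hq hc =>
    Subtype.ext (hw _ hp _ hq (hc.map K.subtype))
  have hP := ((hT.tClass_of_width_one hgen ⟨⟨a, Subgroup.subset_closure ha⟩, ha⟩
    hw').pairGrp_isPGroup_of_width_one hw').map K.subtype
  refine hP.to_le ((Subgroup.closure_le _).2 ?_)
  rintro _ ⟨p, hp, q, hq, rfl⟩
  exact ⟨⟨p, Subgroup.subset_closure hp⟩ * ⟨q, Subgroup.subset_closure hq⟩,
    mul_mem_pairGrp (show _ ∈ T from hp) (show _ ∈ T from hq), rfl⟩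

theorem pairGrp_isPGroup_two {S : Set G} (hsq : ∀ a ∈ S, a * a = 1)
    (hc : ∀ a ∈ S, ∀ b ∈ S, Commute a b) : IsPGroup 2 ↥(pairGrp S) := by
  have hcomm : IsMulCommutative ↥(pairGrp S) := Subgroup.isMulCommutative_closure (by
    rintro _ ⟨a, ha, b, hb, rfl⟩ _ ⟨c, hc', d, hd, rfl⟩
    exact ((hc a ha c hc').mul_right (hc a ha d hd)).mul_left
      ((hc b hb c hc').mul_right (hc b hb d hd)))
  intro g
  refine ⟨1, ?_⟩
  have key : ∀ (z : G) (hz : z ∈ pairGrp S), (⟨z, hz⟩ : ↥(pairGrp S)) * ⟨z, hz⟩ = 1 := by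
    intro z hz
    refine Subgroup.closure_induction (p := fun z hz => (⟨z, hz⟩ : ↥(pairGrp S)) * ⟨z, hz⟩ = 1)
      ?_ (Subtype.ext (one_mul 1)) ?_ ?_ hz
    · rintro _ ⟨a, ha, b, hb, rfl⟩
      apply Subtype.ext
      show a * b * (a * b) = 1
      rw [show a * b * (a * b) = a * (b * a) * b by simp only [mul_assoc], (hc b hb a ha).eq,
        show a * (a * b) * b = (a * a) * (b * b) by simp only [mul_assoc], hsq a ha, hsq b hb,
        one_mul]
    · intro y z hy hz h1 h2
      have e : (⟨y * z, mul_mem hy hz⟩ : ↥(pairGrp S)) = ⟨y, hy⟩ * ⟨z, hz⟩ := rfl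
      rw [e]
      have hc2 := hcomm.is_comm.comm (⟨z, hz⟩ : ↥(pairGrp S)) ⟨y, hy⟩
      calc (⟨y, hy⟩ : ↥(pairGrp S)) * ⟨z, hz⟩ * (⟨y, hy⟩ * ⟨z, hz⟩)
          = ⟨y, hy⟩ * (⟨z, hz⟩ * ⟨y, hy⟩) * ⟨z, hz⟩ := by simp only [mul_assoc]
        _ = (⟨y, hy⟩ * ⟨y, hy⟩) * (⟨z, hz⟩ * ⟨z, hz⟩) := by rw [hc2]; simp only [mul_assoc]
        _ = 1 := by rw [h1, h2, one_mul]
    · intro y hy h1
      have e : (⟨y⁻¹, inv_mem hy⟩ : ↥(pairGrp S)) = (⟨y, hy⟩ : ↥(pairGrp S))⁻¹ := rfl
      rw [e, ← mul_inv_rev, h1, inv_one]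
  rw [pow_one, pow_two]
  exact key g g.2

theorem IsModule.modGrp_le_pCore [Finite G] {α : Type*} {f : G → α} {p : ℕ} [Fact p.Prime]
    (hD : TClass D) (hf : IsModule D f) (hK : ∀ x ∈ D, IsPGroup p ↥(pairGrp (cls D f x))) :
    modGrp D f ≤ Cfsg.pCore p G := by
  have := hf.modGrp_normal hD
  refine PCore.le_pCore ?_
  have htop : Cfsg.pCore p ↥(modGrp D f) = ⊤ := by
    rw [eq_top_iff]
    have hle : modGrp D f ≤ (Cfsg.pCore p ↥(modGrp D f)).map (modGrp D f).subtype := by
      refine (Subgroup.closure_le _).2 ?_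
      rintro _ ⟨a, ha, b, hb, hab, rfl⟩
      have : ((pairGrp (cls D f a)).comap (modGrp D f).subtype).Normal := hf.subgroupOf_normal hD a
      have hm : a * b ∈ pairGrp (cls D f a) := mul_mem_pairGrp ⟨ha, rfl⟩ ⟨hb, hab.symm⟩
      exact ⟨⟨a * b, IsModule.pairGrp_le a hm⟩,
        PCore.le_pCore ((hK a ha).comap_of_injective _ (modGrp D f).subtype_injective) hm, rfl⟩
    intro z _
    obtain ⟨w, hw, hwz⟩ := hle z.2
    rwa [← Subtype.ext (a1 := w) (a2 := z) hwz]
  exact (PCore.pCore_eq_top_iff).1 htop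

theorem eq_one_of_pow_of_isPGroup {p n : ℕ} {N : Subgroup G} (hN : IsPGroup p N) {g : G}
    (hg : g ∈ N) (hco : Nat.Coprime p n) (h : g ^ n = 1) : g = 1 := by
  obtain ⟨k, hk⟩ := hN ⟨g, hg⟩
  have hk' : g ^ p ^ k = 1 := by simpa using congrArg Subtype.val hk
  have := pow_gcd_eq_one.2 ⟨hk', h⟩
  rwa [Nat.Coprime.gcd_eq_one (hco.pow_left k), pow_one] at this

/-- Members of the same coset of a normal subgroup: an image of a commuting pair has product
killed by the sixth power. -/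
theorem mul_mem_of_coset (hD : TSet D) {N : Subgroup G} [N.Normal] {d v e : G} (hd : d ∈ D)
    (hv : v ∈ D) (he : e ∈ D) (hdv : d * v ∈ N) (hde : Commute d e) (hve : ¬Commute v e) :
    v * e ∈ N ∧ (v * e) ^ 3 = 1 := by
  have h3 : (v * e) ^ 3 = 1 :=
    (hD.ord v hv e he).resolve_left fun h => hve (hD.commute_of_sq hv he h)
  refine ⟨?_, h3⟩
  rw [← QuotientGroup.eq_one_iff, QuotientGroup.mk_mul]
  have e1 : (v : G ⧸ N) = d := by
    rw [eq_comm, QuotientGroup.eq, hD.inv_eq hd]; exact hdv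
  have h2 : ((v : G ⧸ N) * e) ^ 2 = 1 := by
    rw [e1, ← QuotientGroup.mk_mul, ← QuotientGroup.mk_pow, hde.mul_pow, pow_two, pow_two,
      hD.sq d hd, hD.sq e he, one_mul, QuotientGroup.mk_one]
  have h3' : ((v : G ⧸ N) * e) ^ 3 = 1 := by
    rw [← QuotientGroup.mk_mul, ← QuotientGroup.mk_pow, h3, QuotientGroup.mk_one]
  simpa using pow_gcd_eq_one.2 ⟨h2, h3'⟩

/-- The members commuting with exactly the same members. -/
def sameComm (D : Set G) (v : G) : Set G := {e | e ∈ D ∧ Commute v e}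

theorem sameComm_eq_iff {v d : G} :
    sameComm D v = sameComm D d ↔ ∀ e ∈ D, Commute v e ↔ Commute d e := by
  refine ⟨fun h e he => ⟨fun hc => ?_, fun hc => ?_⟩, fun h => Set.ext fun e =>
    and_congr_right (h e)⟩
  · exact ((Set.ext_iff.1 h e).1 ⟨he, hc⟩).2
  · exact ((Set.ext_iff.1 h e).2 ⟨he, hc⟩).2

theorem conj_mem_sameComm (hD : TClass D) (g : G) {v e : G} (he : e ∈ sameComm D v) :
    g * e * g⁻¹ ∈ sameComm D (g * v * g⁻¹) :=
  ⟨hD.conj g e he.1, he.2.conj g⟩

theorem sameComm_isModule (hD : TClass D) : IsModule D (sameComm D) := by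
  refine ⟨fun g p _ q _ h => ?_, fun p _ p' _ q hq hpp _ => sameComm_eq_iff.1 hpp q hq⟩
  rw [← conj_image_of_mem (F := sameComm D) (fun g _ _ => conj_mem_sameComm hD g), h,
    conj_image_of_mem (F := sameComm D) (fun g _ _ => conj_mem_sameComm hD g)]

theorem perp_isModule (hD : TClass D) : IsModule D (perp D) := by
  refine ⟨fun g p _ q _ h => ?_, fun p _ p' _ q hq hpp hpq => ?_⟩
  · rw [← conj_image_of_mem (F := perp D) (fun g _ _ => conj_mem_perp hD g), h,
      conj_image_of_mem (F := perp D) (fun g _ _ => conj_mem_perp hD g)]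
  · constructor
    · intro hc'
      have : q ∈ perp D p := ⟨hq, fun e => hpq (by rw [e]), hc'⟩
      rw [hpp] at this
      exact this.2.2
    · intro hc'
      have : q ∈ perp D p' := ⟨hq, fun e => hpq (hpp.trans (by rw [e])), hc'⟩
      rw [← hpp] at this
      exact this.2.2

/-- Members with the same commuting partners differ by an element of `O_2`. -/
theorem mul_mem_pCore_two [Finite G] (hD : TClass D) {d v : G} (hd : d ∈ D) (hv : v ∈ D)
    (h : sameComm D v = sameComm D d) : d * v ∈ Cfsg.pCore 2 G := by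
  have : Fact (Nat.Prime 2) := ⟨Nat.prime_two⟩
  refine (sameComm_isModule hD).modGrp_le_pCore hD (fun x hx => ?_)
    (Subgroup.subset_closure ⟨d, hd, v, hv, h.symm, rfl⟩)
  exact pairGrp_isPGroup_two (fun a ha => hD.sq a ha.1) fun a ha b hb =>
    (sameComm_eq_iff.1 (ha.2.trans hb.2.symm) b hb.1).2 (Commute.refl b)

theorem commute_of_mul_mem_pCore_two [Finite G] (hD : TSet D) {d v e : G} (hd : d ∈ D)
    (hv : v ∈ D) (he : e ∈ D) (hdv : d * v ∈ Cfsg.pCore 2 G) (hde : Commute d e) :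
    Commute v e := by
  by_contra hve
  obtain ⟨h1, h3⟩ := mul_mem_of_coset hD hd hv he hdv hde hve
  have := eq_one_of_pow_of_isPGroup PCore.isPGroup_pCore h1 (by norm_num) h3
  rw [mul_eq_one_iff_eq_inv, hD.inv_eq he] at this
  exact hve (this ▸ Commute.refl e)

theorem sameComm_eq_of_mul_mem [Finite G] (hD : TSet D) {d v : G} (hd : d ∈ D) (hv : v ∈ D)
    (hdv : d * v ∈ Cfsg.pCore 2 G) : sameComm D v = sameComm D d := by
  refine sameComm_eq_iff.2 fun e he => ⟨fun h => ?_, commute_of_mul_mem_pCore_two hD hd hv he hdv⟩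
  refine commute_of_mul_mem_pCore_two hD hv hd he ?_ h
  have := inv_mem hdv
  rwa [mul_inv_rev, hD.inv_eq hd, hD.inv_eq hv] at this

/-- Members with the same other commuting partners differ by an element of `O_3`. -/
theorem mul_mem_pCore_three [Finite G] (hD : TClass D) {d v : G} (hd : d ∈ D) (hv : v ∈ D)
    (h : perp D v = perp D d) : d * v ∈ Cfsg.pCore 3 G := by
  have : Fact (Nat.Prime 3) := ⟨Nat.prime_three⟩
  refine (perp_isModule hD).modGrp_le_pCore hD (fun x hx => ?_)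
    (Subgroup.subset_closure ⟨d, hd, v, hv, h.symm, rfl⟩)
  refine pairGrp_isPGroup_of_closed hD.toTSet (fun a ha => ha.1) (fun a ha b hb => ?_)
    fun a ha b hb hc => ?_
  · exact ⟨hD.toTSet.conj_mem ha.1 hb.1,
      ((perp_isModule hD).conj_self hD ha.1 hb.1 (ha.2.trans hb.2.symm)).trans hb.2⟩
  · by_contra hab
    have : b ∈ perp D a := ⟨hb.1, Ne.symm hab, hc⟩
    rw [ha.2, ← hb.2] at this
    exact this.2.1 rfl

theorem perp_subset_of_mul_mem [Finite G] (hD : TSet D) {d v : G} (hd : d ∈ D) (hv : v ∈ D)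
    (hdv : d * v ∈ Cfsg.pCore 3 G) : perp D d ⊆ perp D v := by
  have h3 : IsPGroup 3 ↥(Cfsg.pCore 3 G) := PCore.isPGroup_pCore
  rintro e ⟨he, hne, hc⟩
  by_cases hvd : v = d
  · subst hvd; exact ⟨he, hne, hc⟩
  have hnc : ¬Commute d v := by
    intro h
    have := eq_one_of_pow_of_isPGroup h3 hdv (n := 2) (by norm_num)
      (by rw [h.mul_pow, pow_two, pow_two, hD.sq d hd, hD.sq v hv, one_mul])
    rw [mul_eq_one_iff_eq_inv, hD.inv_eq hv] at this
    exact hvd this.symm
  refine ⟨he, fun h => hnc (h ▸ hc), ?_⟩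
  by_contra hve
  obtain ⟨h1, -⟩ := mul_mem_of_coset hD hd hv he hdv hc hve
  have h2 : d * e ∈ Cfsg.pCore 3 G := by
    have := mul_mem hdv h1
    rwa [mul_assoc, invol_cancel (hD.sq v hv)] at this
  have := eq_one_of_pow_of_isPGroup h3 h2 (n := 2) (by norm_num)
    (by rw [hc.mul_pow, pow_two, pow_two, hD.sq d hd, hD.sq e he, one_mul])
  rw [mul_eq_one_iff_eq_inv, hD.inv_eq he] at this
  exact hne this.symm

theorem perp_eq_of_mul_mem [Finite G] (hD : TSet D) {d v : G} (hd : d ∈ D) (hv : v ∈ D)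
    (hdv : d * v ∈ Cfsg.pCore 3 G) : perp D d = perp D v := by
  refine Set.Subset.antisymm (perp_subset_of_mul_mem hD hd hv hdv)
    (perp_subset_of_mul_mem hD hv hd ?_)
  have := inv_mem hdv
  rwa [mul_inv_rev, hD.inv_eq hd, hD.inv_eq hv] at this

theorem exists_not_commute (hD : TClass D) (hD2 : ∃ a ∈ D, ∃ b ∈ D, a ≠ b) {d : G} (hd : d ∈ D) :
    ∃ z ∈ D, ¬Commute z d := by
  by_contra h
  push Not at h
  obtain ⟨a, ha, b, hb, hab⟩ := hD2
  have hc : ∀ g : G, g * d * g⁻¹ = d := fun g => by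
    have hle : Subgroup.closure D ≤ Subgroup.centralizer ({d} : Set G) :=
      (Subgroup.closure_le _).2 fun y hy =>
        Subgroup.mem_centralizer_singleton_iff.2 (h y hy).eq
    rw [Subgroup.mem_centralizer_singleton_iff.1 (hle (show g ∈ Subgroup.closure D by
      rw [hD.gen]; trivial)), mul_inv_cancel_right]
  obtain ⟨g, rfl⟩ := hD.trans d hd a ha
  obtain ⟨k, rfl⟩ := hD.trans d hd b hb
  exact hab (by rw [hc, hc])

/-- Members in the same coset of `O_2` are conjugate under it. -/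
theorem exists_conj_pCore_two (hD : TSet D) {d v z : G} (hd : d ∈ D) (hv : v ∈ D) (hz : z ∈ D)
    {N : Subgroup G} [N.Normal] (hdv : d * v ∈ N) (hc : Commute d v) (hzd : ¬Commute z d)
    (hzv : ¬Commute z v) : ∃ g ∈ N, v = g * d * g⁻¹ := by
  have iz := invol_cancel (hD.sq z hz)
  refine ⟨(z * d * z) * (z * v * z), ?_, ?_⟩
  · have : (z * d * z) * (z * v * z) = z * (d * v) * z⁻¹ := by
      rw [hD.inv_eq hz]; simp only [mul_assoc, iz]
    rw [this]
    exact Subgroup.Normal.conj_mem inferInstance _ hdv z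
  · rw [mul_inv_rev, hD.inv_eq (hD.conj_mem hz hd), hD.inv_eq (hD.conj_mem hz hv)]
    have b1 := hD.braid hz hd hzd
    have b2 := hD.braid hz hv hzv
    symm
    calc (z * d * z) * (z * v * z) * d * ((z * v * z) * (z * d * z))
        = (z * d * z) * (z * v * (z * d * z) * v * z) * (z * d * z) := by simp only [mul_assoc]
      _ = (z * d * z) * (z * (v * d) * z * (d * v) * z) * (z * d * z) := by
          rw [b1]; simp only [mul_assoc]
      _ = (z * d * z) * (z * (d * v) * z * (v * d) * z) * (z * d * z) := by rw [hc.eq]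
      _ = (z * d * z) * (z * d * (v * z * v) * d * z) * (z * d * z) := by simp only [mul_assoc]
      _ = (z * d * z) * (z * d * (z * v * z) * d * z) * (z * d * z) := by rw [b2]
      _ = ((z * d * z) * (z * d * z)) * v * ((z * d * z) * (z * d * z)) := by
          simp only [mul_assoc]
      _ = v := by rw [hD.sq _ (hD.conj_mem hz hd), one_mul, mul_one]

end Cfsg.Agent.Fischer
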