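import Mathlib
import Cfsg.Prelude
import Cfsg.Agent.Lib.Fischer.Connected
import Cfsg.Agent.Lib.PCore.Basic
import Cfsg.Agent.Lib.Perm.CoxeterPresentation

/-!
# Three-transposition sets with local graph three points

Every member commutes with exactly three others, pairwise non-commuting.
-/

set_option autoImplicit false

namespace Cfsg.Agent.Fischer.LocalSymThree

open Cfsg.Agent.Fischer

universe u

variable {G : Type u} [Group G] {D : Set G}

set_option synthInstance.maxSize 1024 in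
theorem perm_three_comm : ∀ g h : Equiv.Perm (Fin 3), g * g = 1 → h * h = 1 → g ≠ 1 → h ≠ 1 →
    g * h = h * g → g = h := by decide

set_option synthInstance.maxSize 1024 in
theorem perm_three_third : ∀ g h k : Equiv.Perm (Fin 3), g * g = 1 → h * h = 1 → k * k = 1 → g ≠ 1 →
    h ≠ 1 → k ≠ 1 → g ≠ h → k = g ∨ k = h ∨ k = g * h * g := by decide

/-- The hypothesis on the local graph. -/
def Local (D : Set G) : Prop :=
  ∀ d ∈ D, Nonempty (↥(Subgroup.closure (perp D d)) ≃* Equiv.Perm (Fin 3))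

/-- `u` and `v` have the same commuting partners. -/
def Twin (D : Set G) (u v : G) : Prop := v ∈ D ∧ v ≠ u ∧ perp D u = perp D v

section Basics

variable (hT : TSet D) (hL : Local D)
include hT hL

theorem perp_sep {d a b : G} (hd : d ∈ D) (ha : a ∈ perp D d) (hb : b ∈ perp D d) (h : Commute a b) :
    a = b := by
  obtain ⟨e⟩ := hL d hd
  let A : Subgroup.closure (perp D d) := ⟨a, Subgroup.subset_closure ha⟩
  let B : Subgroup.closure (perp D d) := ⟨b, Subgroup.subset_closure hb⟩
  have hsq : ∀ X : Subgroup.closure (perp D d), X.1 ∈ D → e X * e X = 1 ∧ e X ≠ 1 := fun X hX =>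
    ⟨by rw [← map_mul, show X * X = 1 from Subtype.ext (hT.sq _ hX), map_one],
      fun h => hT.ne_one _ hX (congrArg Subtype.val (e.injective (h.trans e.map_one.symm)))⟩
  have := perm_three_comm (e A) (e B) (hsq A ha.1).1 (hsq B hb.1).1 (hsq A ha.1).2 (hsq B hb.1).2
    (by rw [← map_mul, ← map_mul, show A * B = B * A from Subtype.ext h.eq])
  exact congrArg Subtype.val (e.injective this)

theorem not_commute_perp {d a b : G} (hd : d ∈ D) (ha : a ∈ perp D d) (hb : b ∈ perp D d)
    (hab : a ≠ b) : ¬Commute a b :=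
  fun h => hab (perp_sep hT hL hd ha hb h)

omit hT in
theorem perp_pair {d : G} (hd : d ∈ D) : ∃ a b, a ∈ perp D d ∧ b ∈ perp D d ∧ a ≠ b := by
  by_contra h
  push Not at h
  obtain ⟨e⟩ := hL d hd
  have hc : ∀ x y : Subgroup.closure (perp D d), x * y = y * x := by
    have := Subgroup.isMulCommutative_closure (k := perp D d) fun x hx y hy => by rw [h x y hx hy]
    exact mul_comm'
  have h2 := hc (e.symm (Equiv.swap 0 1)) (e.symm (Equiv.swap 1 2))
  rw [← map_mul, ← map_mul] at h2
  exact absurd (e.symm.injective h2) (by decide)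

theorem perp_eq_triple {d a b : G} (hd : d ∈ D) (ha : a ∈ perp D d) (hb : b ∈ perp D d) (hab : a ≠ b) :
    perp D d = {a, b, a * b * a} := by
  ext x
  constructor
  · intro hx
    obtain ⟨e⟩ := hL d hd
    let A : Subgroup.closure (perp D d) := ⟨a, Subgroup.subset_closure ha⟩
    let B : Subgroup.closure (perp D d) := ⟨b, Subgroup.subset_closure hb⟩
    let X : Subgroup.closure (perp D d) := ⟨x, Subgroup.subset_closure hx⟩
    have hsq : ∀ Y : Subgroup.closure (perp D d), Y.1 ∈ D → e Y * e Y = 1 ∧ e Y ≠ 1 := fun Y hY =>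
      ⟨by rw [← map_mul, show Y * Y = 1 from Subtype.ext (hT.sq _ hY), map_one],
        fun h => hT.ne_one _ hY (congrArg Subtype.val (e.injective (h.trans e.map_one.symm)))⟩
    rcases perm_three_third (e A) (e B) (e X) (hsq A ha.1).1 (hsq B hb.1).1 (hsq X hx.1).1 (hsq A ha.1).2
      (hsq B hb.1).2 (hsq X hx.1).2 (fun h => hab (congrArg Subtype.val (e.injective h))) with h | h | h
    · exact Or.inl (congrArg Subtype.val (e.injective h))
    · exact Or.inr (Or.inl (congrArg Subtype.val (e.injective h)))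
    · rw [← map_mul, ← map_mul] at h
      exact Or.inr (Or.inr (congrArg Subtype.val (e.injective h)))
  · rintro (rfl | rfl | rfl)
    · exact ha
    · exact hb
    · refine ⟨hT.conj_mem ha.1 hb.1, fun h => ?_,
        (ha.2.2.mul_right hb.2.2).mul_right ha.2.2⟩
      exact (hT.not_commute_third ha.1 hb.1 (not_commute_perp hT hL hd ha hb hab)).1 (h ▸ ha.2.2)

omit hT hL in
theorem perp_symm' {x b : G} (hx : x ∈ D) (hb : b ∈ perp D x) : x ∈ perp D b :=
  ⟨hx, fun e => hb.2.1 e.symm, hb.2.2.symm⟩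

omit hL in
theorem conj_perp (g : G) {x w : G} (hw : w ∈ perp D x) : g * w * g⁻¹ ∈ perp D (g * x * g⁻¹) :=
  ⟨hT.conj g w hw.1, fun h => hw.2.1 (mul_left_cancel (mul_right_cancel h)), hw.2.2.conj g⟩

omit hL in
theorem conj_perp_eq (g : G) {x y : G} (h : perp D x = perp D y) :
    perp D (g * x * g⁻¹) = perp D (g * y * g⁻¹) := by
  have key : ∀ x y : G, perp D x = perp D y → perp D (g * x * g⁻¹) ⊆ perp D (g * y * g⁻¹) := by
    intro x y h w hw
    have h1 := conj_perp hT g⁻¹ hw
    rw [show g⁻¹ * (g * x * g⁻¹) * g⁻¹⁻¹ = x by group, h] at h1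
    have h2 := conj_perp hT g h1
    rwa [show g * (g⁻¹ * w * g⁻¹⁻¹) * g⁻¹ = w by group] at h2
  exact Set.Subset.antisymm (key x y h) (key y x h.symm)

omit hL in
theorem perp_third {u v : G} (hu : u ∈ D) (h : perp D u = perp D v) : perp D (u * v * u) = perp D u := by
  have hui := hT.inv_eq hu
  ext z
  constructor
  · intro hz
    have h1 := conj_perp hT u hz
    rw [hui, invol_conj_invol (hT.sq u hu), ← h] at h1
    have h2 := conj_perp hT u h1
    rwa [hui, invol_conj_invol (hT.sq u hu), hT.sq u hu, one_mul] at h2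
  · intro hz
    have hz' : z ∈ perp D v := h ▸ hz
    have h1 := conj_perp hT u hz'
    rwa [hui, invol_conj_eq_of_commute (hT.sq u hu) hz.2.2] at h1

omit hL in
/-- A product of two commuting members moves a member commuting with neither to a partner of it. -/
theorem flip_mem_perp {d a x : G} (hd : d ∈ D) (ha : a ∈ perp D d) (hx : x ∈ D) (h1 : ¬Commute d x)
    (h2 : ¬Commute a x) : d * a * x * a * d ∈ perp D x := by
  have hc : Commute (d * x * d) (a * x * a) := by
    rw [hT.braid hd hx h1, hT.braid ha.1 hx h2, commute_invol_conj (hT.sq x hx)]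
    exact ha.2.2
  have e : d * a * x * a * d = d * (a * x * a) * d := by simp only [mul_assoc]
  rw [e]
  refine ⟨hT.conj_mem hd (hT.conj_mem ha.1 hx), fun h => ha.2.1 ?_, ?_⟩
  · have h' : a * x * a = d * x * d := by
      have := congrArg (fun z => d * z * d) h
      simpa [invol_conj_invol (hT.sq d hd)] using this
    rw [hT.braid hd hx h1, hT.braid ha.1 hx h2] at h'
    exact invol_conj_inj (hT.sq x hx) h'
  · exact (commute_invol_conj_left (hT.sq d hd)).1 hc

section Twins

omit hT hL in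
theorem twin_not_commute {u v : G} (hu : u ∈ D) (h : Twin D u v) : ¬Commute u v := by
  intro hc
  have : v ∈ perp D u := ⟨h.1, h.2.1, hc⟩
  rw [h.2.2] at this
  exact this.2.1 rfl

theorem twin_perp {u v a : G} (hu : u ∈ D) (h : Twin D u v) (ha : a ∈ perp D u) :
    perp D a = {u, v, u * v * u} :=
  perp_eq_triple hT hL ha.1 (perp_symm' hu ha) (perp_symm' h.1 (h.2.2 ▸ ha)) h.2.1.symm

theorem twin_perp_perp {u v a z : G} (hu : u ∈ D) (h : Twin D u v) (ha : a ∈ perp D u)
    (hz : z ∈ perp D a) : perp D z = perp D u := by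
  rw [twin_perp hT hL hu h ha] at hz
  rcases hz with rfl | rfl | rfl
  · rfl
  · exact h.2.2.symm
  · exact perp_third hT hu h.2.2

omit hL in
theorem twin_cube {u v : G} (hu : u ∈ D) (h : Twin D u v) : (u * v) ^ 3 = 1 :=
  (hT.ord u hu v h.1).resolve_left fun e => twin_not_commute hu h (hT.commute_of_sq hu h.1 e)

omit hL in
theorem triple_mul {u v x y : G} (hu : u ∈ D) (hv : v ∈ D) (hn : ¬Commute u v)
    (hx : x ∈ ({u, v, u * v * u} : Set G)) (hy : y ∈ ({u, v, u * v * u} : Set G)) (hxy : x ≠ y) :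
    x * y = u * v ∨ x * y = (u * v)⁻¹ := by
  have b := hT.braid hu hv hn
  rw [mul_inv_rev, hT.inv_eq hu, hT.inv_eq hv]
  rcases hx with rfl | rfl | rfl <;> rcases hy with rfl | rfl | rfl
  · exact absurd rfl hxy
  · exact Or.inl rfl
  · right; simp only [mul_assoc, invol_cancel (hT.sq _ hu)]
  · exact Or.inr rfl
  · exact absurd rfl hxy
  · left; rw [b]; simp only [mul_assoc, invol_cancel (hT.sq _ hv)]
  · left; simp only [mul_assoc, hT.sq _ hu, mul_one]
  · right; rw [b]; simp only [mul_assoc, hT.sq _ hv, mul_one]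
  · exact absurd rfl hxy

omit hT hL in
theorem commute_of_eq_or_inv {p q : G} (h : q = p ∨ q = p⁻¹) : Commute p q := by
  rcases h with rfl | rfl
  · exact Commute.refl _
  · exact (Commute.refl p).inv_right

/-- Products of twins commute. -/
theorem twin_products_commute {u v u' v' : G} (hu : u ∈ D) (h : Twin D u v) (hu' : u' ∈ D)
    (h' : Twin D u' v') : Commute (u * v) (u' * v') := by
  have hn := twin_not_commute hu h
  obtain ⟨a, b, ha, -, -⟩ := perp_pair hL hu
  have tcase : perp D u' = perp D u → Commute (u * v) (u' * v') := by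
    intro he
    have hu'a : u' ∈ perp D a := perp_symm' hu' (he ▸ ha)
    have hv'a : v' ∈ perp D a := perp_symm' h'.1 (h'.2.2 ▸ he ▸ ha)
    rw [twin_perp hT hL hu h ha] at hu'a hv'a
    exact commute_of_eq_or_inv (triple_mul hT hu h.1 hn hu'a hv'a h'.2.1.symm)
  by_cases hc : ∃ x y, (x = u ∨ x = v) ∧ (y = u' ∨ y = v') ∧ Commute x y
  · obtain ⟨x, y, hx, hy, hxy⟩ := hc
    have hpx : perp D x = perp D u := by rcases hx with rfl | rfl <;> [rfl; exact h.2.2.symm]
    have hpy : perp D y = perp D u' := by rcases hy with rfl | rfl <;> [rfl; exact h'.2.2.symm]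
    have hxD : x ∈ D := by rcases hx with rfl | rfl <;> [exact hu; exact h.1]
    have hyD : y ∈ D := by rcases hy with rfl | rfl <;> [exact hu'; exact h'.1]
    by_cases e : y = x
    · subst e; exact tcase (hpy.symm.trans hpx)
    · have hyx : y ∈ perp D u := hpx ▸ ⟨hyD, e, hxy⟩
      have h1 : u ∈ perp D u' := hpy ▸ perp_symm' hu hyx
      have h2 : v ∈ perp D u' := hpy ▸ perp_symm' h.1 (h.2.2 ▸ hyx)
      exact ((h1.2.2.symm.mul_right (h'.2.2 ▸ h1).2.2.symm).mul_left
        (h2.2.2.symm.mul_right (h'.2.2 ▸ h2).2.2.symm))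
  · push Not at hc
    by_cases hau : ∃ y, (y = u' ∨ y = v') ∧ Commute a y
    · obtain ⟨y, hy, hay⟩ := hau
      have hpy : perp D y = perp D u' := by rcases hy with rfl | rfl <;> [rfl; exact h'.2.2.symm]
      have hyD : y ∈ D := by rcases hy with rfl | rfl <;> [exact hu'; exact h'.1]
      have hne : y ≠ a := fun e => hc u y (Or.inl rfl) hy (e ▸ ha.2.2)
      exact tcase (hpy.symm.trans (twin_perp_perp hT hL hu h ha ⟨hyD, hne, hay⟩))
    push Not at hau
    have hva : a ∈ perp D v := h.2.2 ▸ ha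
    have key : ∀ y, (y = u' ∨ y = v') → u * v * y * v * u ∈ ({u', v', u' * v' * u'} : Set G) := by
      intro y hy
      have hpy : perp D y = perp D u' := by rcases hy with rfl | rfl <;> [rfl; exact h'.2.2.symm]
      have hyD : y ∈ D := by rcases hy with rfl | rfl <;> [exact hu'; exact h'.1]
      have he := flip_mem_perp hT h.1 hva hyD (hc v y (Or.inr rfl) hy) (hau y hy)
      set e := v * a * y * a * v with hedef
      have hue : ¬Commute u e := by
        intro hcm
        have h1 : Commute (v * u * v) (a * y * a) := by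
          rw [commute_invol_conj_left (hT.sq v h.1)]
          simpa [hedef, mul_assoc] using hcm
        have hwu : v * u * v = u * v * u := (hT.braid hu h.1 hn).symm
        have hwa : Commute a (v * u * v) := ((hva.2.2.symm.mul_right ha.2.2.symm).mul_right hva.2.2.symm)
        rw [← invol_conj_eq_of_commute (hT.sq a ha.1) hwa, commute_invol_conj (hT.sq a ha.1)] at h1
        have hne : y ≠ v * u * v := fun e' => hau y hy (e' ▸ hwa)
        have : y ∈ perp D (v * u * v) := ⟨hyD, hne, h1⟩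
        rw [hwu, perp_third hT hu h.2.2] at this
        exact hc u y (Or.inl rfl) hy this.2.2
      have hae : ¬Commute a e := by
        intro hcm
        have h1 : Commute (v * a * v) (a * y * a) := by
          rw [commute_invol_conj_left (hT.sq v h.1)]
          simpa [hedef, mul_assoc] using hcm
        rw [invol_conj_eq_of_commute (hT.sq v h.1) hva.2.2] at h1
        exact hau y hy (by
          have := (commute_invol_conj (hT.sq a ha.1) (x := a) (y := y)).1 (by
            rwa [show a * a * a = a by rw [hT.sq a ha.1, one_mul]])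
          exact this)
      have hf := flip_mem_perp hT hu ha he.1 hue hae
      have heq : u * a * e * a * u = u * v * y * v * u := by
        have ea : a * v = v * a := hva.2.2.symm.eq
        calc u * a * e * a * u = u * (a * v * a) * y * (a * v * a) * u := by simp only [hedef, mul_assoc]
          _ = u * v * y * v * u := by rw [invol_conj_eq_of_commute (hT.sq a ha.1) hva.2.2.symm]
      rw [heq] at hf
      have hey : e ∈ perp D u' := hpy ▸ he
      rwa [twin_perp hT hL hu' h' hey] at hf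
    have h1 := key u' (Or.inl rfl)
    have h2 := key v' (Or.inr rfl)
    have hne : u * v * u' * v * u ≠ u * v * v' * v * u := fun e =>
      h'.2.1 (mul_left_cancel (mul_right_cancel (mul_right_cancel e))).symm
    have hm := triple_mul hT hu' h'.1 (twin_not_commute hu' h') h1 h2 hne
    have eprod : u * v * u' * v * u * (u * v * v' * v * u) = (u * v) * (u' * v') * (u * v)⁻¹ := by
      rw [mul_inv_rev, hT.inv_eq hu, hT.inv_eq h.1]
      simp only [mul_assoc, invol_cancel (hT.sq u hu), invol_cancel (hT.sq v h.1)]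
    rw [eprod] at hm
    set p := u * v
    set q := u' * v'
    rcases hm with hm | hm
    · exact (mul_inv_eq_iff_eq_mul.1 hm)
    · exfalso
      have hp3 : p ^ 3 = 1 := twin_cube hT hu h
      have hq3 : q ^ 3 = 1 := twin_cube hT hu' h'
      have s1 : p * q⁻¹ * p⁻¹ = q := by
        have := congrArg (·⁻¹) hm
        simpa [mul_assoc] using this
      have : q⁻¹ = q := by
        calc q⁻¹ = p * q * p⁻¹ := hm.symm
          _ = p * (p * q⁻¹ * p⁻¹) * p⁻¹ := by rw [s1]
          _ = p * (p * (p * q * p⁻¹) * p⁻¹) * p⁻¹ := by rw [hm]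
          _ = p * p * p * q * (p * p * p)⁻¹ := by group
          _ = p ^ 3 * q * (p ^ 3)⁻¹ := by rw [pow_succ, pow_two]
          _ = q := by rw [hp3]; group
      have hqq : q * q = 1 := by rw [← inv_eq_iff_mul_eq_one]; exact this
      have hq1 : q = 1 := by rw [pow_succ, pow_two, hqq, one_mul] at hq3; exact hq3
      exact h'.2.1 (by rw [mul_eq_one_iff_inv_eq, hT.inv_eq hu'] at hq1; exact hq1.symm)

/-- The products of twins generate an abelian normal subgroup of exponent three. -/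
def twinGrp (D : Set G) : Subgroup G :=
  Subgroup.closure {q | ∃ u ∈ D, ∃ v, Twin D u v ∧ q = u * v}

omit hL in
theorem twinGrp_normal : (twinGrp D).Normal := by
  refine ⟨fun x hx g => ?_⟩
  induction hx using Subgroup.closure_induction with
  | mem y hy =>
    obtain ⟨u, hu, v, hv, rfl⟩ := hy
    refine Subgroup.subset_closure ⟨g * u * g⁻¹, hT.conj g u hu, g * v * g⁻¹, ⟨hT.conj g v hv.1,
      fun e => hv.2.1 (mul_left_cancel (mul_right_cancel e)), conj_perp_eq hT g hv.2.2⟩, by group⟩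
  | one => simp
  | mul a b _ _ iha ihb =>
    rw [show g * (a * b) * g⁻¹ = g * a * g⁻¹ * (g * b * g⁻¹) by group]
    exact mul_mem iha ihb
  | inv a _ iha =>
    rw [show g * a⁻¹ * g⁻¹ = (g * a * g⁻¹)⁻¹ by group]
    exact inv_mem iha

theorem twinGrp_comm {x y : G} (hx : x ∈ twinGrp D) (hy : y ∈ twinGrp D) : Commute x y := by
  have h1 : ∀ w ∈ {q | ∃ u ∈ D, ∃ v, Twin D u v ∧ q = u * v}, ∀ z ∈ twinGrp D, Commute z w := by
    intro w hw z hz
    obtain ⟨u, hu, v, hv, rfl⟩ := hw
    induction hz using Subgroup.closure_induction with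
    | mem z hz =>
      obtain ⟨u', hu', v', hv', rfl⟩ := hz
      exact twin_products_commute hT hL hu' hv' hu hv
    | one => exact Commute.one_left _
    | mul a b _ _ iha ihb => exact iha.mul_left ihb
    | inv a _ iha => exact iha.inv_left
  induction hy using Subgroup.closure_induction with
  | mem w hw => exact h1 w hw x hx
  | one => exact Commute.one_right _
  | mul a b _ _ iha ihb => exact iha.mul_right ihb
  | inv a _ iha => exact iha.inv_right

theorem twinGrp_cube {x : G} (hx : x ∈ twinGrp D) : x ^ 3 = 1 := by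
  induction hx using Subgroup.closure_induction with
  | mem y hy =>
    obtain ⟨u, hu, v, hv, rfl⟩ := hy
    exact twin_cube hT hu hv
  | one => simp
  | mul a b ha hb iha ihb => rw [(twinGrp_comm hT hL ha hb).mul_pow, iha, ihb, one_mul]
  | inv a _ iha => rw [inv_pow, iha, inv_one]

/-- `O_3` of the centralizer of `d` is generated by a product of two partners. -/
theorem mem_zpowers_of_core [Finite G] {d a b k : G} (hd : d ∈ D) (ha : a ∈ perp D d)
    (hb : b ∈ perp D d) (hab : a ≠ b)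
    (h3 : Nat.card (Cfsg.pCore 3 ↥(Subgroup.centralizer ({d} : Set G))) = 3)
    (hk : k ∈ twinGrp D) (hkd : Commute d k) : k ∈ Subgroup.zpowers (a * b) := by
  have : Fact (Nat.Prime 3) := ⟨Nat.prime_three⟩
  haveI := twinGrp_normal (D := D) hT
  set C := Subgroup.centralizer ({d} : Set G)
  have hn := not_commute_perp hT hL hd ha hb hab
  have hpow : (a * b) ^ 3 = 1 :=
    (hT.ord a ha.1 b hb.1).resolve_left fun e => hn (hT.commute_of_sq ha.1 hb.1 e)
  have hZC : a * b ∈ C :=
    Subgroup.mem_centralizer_singleton_iff.2 ((ha.2.2.mul_right hb.2.2).symm.eq)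
  let z : C := ⟨a * b, hZC⟩
  have hz : orderOf z = 3 := orderOf_eq_prime (Subtype.ext hpow) fun e => hn (by
    have h := congrArg Subtype.val e
    rw [show ((z : C) : G) = a * b from rfl, Subgroup.coe_one, mul_eq_one_iff_inv_eq, hT.inv_eq ha.1] at h
    exact h ▸ Commute.refl _)
  haveI : (Subgroup.zpowers z).Normal := by
    refine ⟨fun x hx g => ?_⟩
    obtain ⟨i, rfl⟩ := Subgroup.mem_zpowers_iff.1 hx
    rw [← conj_zpow]
    refine Subgroup.zpow_mem _ ?_ _
    have hgd : (g : G) * d * (g : G)⁻¹ = d := by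
      rw [Subgroup.mem_centralizer_singleton_iff.1 g.2, mul_inv_cancel_right]
    have h1 := conj_perp hT (g : G) ha
    have h2 := conj_perp hT (g : G) hb
    rw [hgd, perp_eq_triple hT hL hd ha hb hab] at h1 h2
    have e : ((g * z * g⁻¹ : C) : G) = ((g : G) * a * (g : G)⁻¹) * ((g : G) * b * (g : G)⁻¹) := by
      show (g : G) * (a * b) * (g : G)⁻¹ = _
      group
    rcases triple_mul hT ha.1 hb.1 hn h1 h2 (fun e => hab (mul_left_cancel (mul_right_cancel e))) with h | h
    · rw [show g * z * g⁻¹ = z from Subtype.ext (e.trans h)]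
      exact Subgroup.mem_zpowers z
    · rw [show g * z * g⁻¹ = z⁻¹ from Subtype.ext (e.trans h)]
      exact inv_mem (Subgroup.mem_zpowers z)
  have hz3 : IsPGroup 3 (Subgroup.zpowers z) :=
    IsPGroup.of_card (n := 1) (by rw [Nat.card_zpowers, hz, pow_one])
  have hQ : IsPGroup 3 ((twinGrp D).subgroupOf C) := fun x =>
    ⟨1, Subtype.ext (Subtype.ext (by rw [pow_one]; exact twinGrp_cube hT hL x.2))⟩
  have heq : Subgroup.zpowers z = Cfsg.pCore 3 C :=
    Subgroup.eq_of_le_of_card_ge (Cfsg.Agent.PCore.le_pCore hz3)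
      (by rw [Nat.card_zpowers, hz]; exact h3.le)
  have hkm : (⟨k, Subgroup.mem_centralizer_singleton_iff.2 hkd.symm.eq⟩ : C) ∈ Cfsg.pCore 3 C :=
    Cfsg.Agent.PCore.le_pCore hQ hk
  rw [← heq] at hkm
  obtain ⟨i, hi⟩ := Subgroup.mem_zpowers_iff.1 hkm
  refine Subgroup.mem_zpowers_iff.2 ⟨i, ?_⟩
  exact congrArg Subtype.val hi

/-- If a member has a twin, then nothing lies outside its block. -/
theorem twin_block [Finite G]
    (h3 : ∀ d ∈ D, Nat.card (Cfsg.pCore 3 ↥(Subgroup.centralizer ({d} : Set G))) = 3)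
    {d y a : G} (hd : d ∈ D) (h : Twin D d y) (ha : a ∈ perp D d) : D = perp D d ∪ perp D a := by
  refine Set.Subset.antisymm (fun w hw => ?_) (Set.union_subset (fun z hz => hz.1) (fun z hz => hz.1))
  by_contra hwB
  simp only [Set.mem_union, not_or] at hwB
  have hdw : ¬Commute d w := fun hc => hwB.1 ⟨hw, fun e => hwB.2 (by
    rw [e]; exact perp_symm' hd ha), hc⟩
  have hwa : ¬Commute a w := fun hc => hwB.2 ⟨hw, fun e => hwB.1 (e ▸ ha), hc⟩
  -- `w` has a twin as well
  obtain ⟨g, hg⟩ : ∃ g : G, g * d * g⁻¹ = w := ⟨_, (hT.edge_swap hd hw hdw).1⟩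
  set y' := g * y * g⁻¹ with hy'
  have hw' : Twin D w y' := ⟨hT.conj g y h.1, fun e => h.2.1 (by
    rw [← hg] at e; exact mul_left_cancel (mul_right_cancel e)), hg ▸ conj_perp_eq hT g h.2.2⟩
  have hy'n : ∀ x ∈ D, ¬Commute x w → (∀ e ∈ perp D x, ¬Commute e w) → ¬Commute x y' := by
    intro x hx hxw hxe hc
    by_cases e : x = y'
    · obtain ⟨e', -, he', -, -⟩ := perp_pair hL hx
      have h1 : e' ∈ perp D w := by rw [hw'.2.2, ← e]; exact he'
      exact hxe e' he' h1.2.2.symm
    · have h1 : x ∈ perp D w := hw'.2.2 ▸ ⟨hx, e, hc.symm⟩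
      exact hxw h1.2.2.symm
  have hBw : ∀ z, z ∈ perp D d ∪ perp D a → ¬Commute z w := by
    intro z hz hc
    have hzD : z ∈ D := hz.elim (fun h' => h'.1) (fun h' => h'.1)
    by_cases e : w = z
    · subst e; exact hz.elim hwB.1 hwB.2
    · have hwz : w ∈ perp D z := ⟨hw, e, hc⟩
      rcases hz with hz | hz
      · have : perp D z = perp D a :=
          (twin_perp hT hL hd h hz).trans (twin_perp hT hL hd h ha).symm
        exact hwB.2 (this ▸ hwz)
      · exact hwB.1 (twin_perp_perp hT hL hd h ha hz ▸ hwz)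
  have hdy' : ¬Commute d y' := hy'n d hd hdw fun e he => hBw e (Or.inl he)
  have hay' : ¬Commute a y' := hy'n a ha.1 hwa fun e he => hBw e (Or.inr he)
  -- the involution `t = d a`
  set t := d * a with ht
  have htt : t * t = 1 := by
    rw [ht, show d * a * (d * a) = d * (a * d) * a by group, ← ha.2.2.eq,
      show d * (d * a) * a = (d * d) * (a * a) by group, hT.sq d hd, hT.sq a ha.1, one_mul]
  have hti : t⁻¹ = t := inv_eq_self htt
  have htt' : ∀ x, t * (t * x) = x := invol_cancel htt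
  have htd : Commute t d := (Commute.refl d).mul_left ha.2.2.symm
  have he : t * w * t ∈ perp D w := by
    have := flip_mem_perp hT hd ha hw hdw hwa
    convert this using 1
    rw [ht]; conv_lhs => arg 2; rw [ha.2.2.eq]
    simp only [mul_assoc]
  have he' : t * y' * t ∈ perp D y' := by
    have := flip_mem_perp hT hd ha hw'.1 hdy' hay'
    convert this using 1
    rw [ht]; conv_lhs => arg 2; rw [ha.2.2.eq]
    simp only [mul_assoc]
  have he'w : t * y' * t ∈ perp D w := hw'.2.2 ▸ he'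
  have hew : t * w * t ∈ perp D y' := hw'.2.2 ▸ he
  set p := w * y' with hp
  set p' := t * p * t with hp'
  have hp'e : p' = (t * w * t) * (t * y' * t) := by
    rw [hp', hp]; simp only [mul_assoc, htt']
  have hp'w : Commute w p' := hp'e ▸ he.2.2.mul_right he'w.2.2
  have hp'y : Commute y' p' := hp'e ▸ hew.2.2.mul_right he'.2.2
  have hpp' : Commute p p' := hp'w.mul_left hp'y
  have hpQ : p ∈ twinGrp D := Subgroup.subset_closure ⟨w, hw, y', hw', rfl⟩
  haveI := twinGrp_normal (D := D) hT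
  have hconjQ : ∀ x, x ∈ twinGrp D → ∀ g : G, g * x * g⁻¹ ∈ twinGrp D := fun x hx g =>
    (inferInstance : (twinGrp D).Normal).conj_mem x hx g
  have hp'Q : p' ∈ twinGrp D := by have := hconjQ p hpQ t; rwa [hti] at this
  set s := p * p' with hs
  set r := p * p'⁻¹ with hr
  have hsQ : s ∈ twinGrp D := mul_mem hpQ hp'Q
  have hrQ : r ∈ twinGrp D := mul_mem hpQ (inv_mem hp'Q)
  clear_value p p' s r t y'
  have hdi := hT.inv_eq hd
  have hwi := hT.inv_eq hw
  have hdcQ : ∀ x, x ∈ twinGrp D → d * x * d ∈ twinGrp D := fun x hx => by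
    have := hconjQ x hx d; rwa [hdi] at this
  have hwpw : w * p * w = p⁻¹ := by
    rw [hp, mul_inv_rev, hwi, hT.inv_eq hw'.1]; simp only [mul_assoc, invol_cancel (hT.sq w hw)]
  have hwsw : w * s * w = r⁻¹ := by
    rw [hs, hr, mul_inv_rev, inv_inv]
    calc w * (p * p') * w = w * p * (p' * w) := by group
      _ = w * p * w * p' := by rw [← hp'w.eq]; group
      _ = p' * p⁻¹ := by rw [hwpw]; exact hpp'.inv_left.eq
  have htmul : ∀ x z, t * (x * z) * t = t * x * t * (t * z * t) := fun x z => by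
    simp only [mul_assoc, htt']
  have htinv : ∀ x, t * x⁻¹ * t = (t * x * t)⁻¹ := fun x => by
    rw [mul_inv_rev, mul_inv_rev, hti, mul_assoc]
  have htp : t * p * t = p' := hp'.symm
  have htp' : t * p' * t = p := by rw [← htp]; exact invol_conj_invol htt p
  have hts : t * s * t = s := by
    rw [hs, htmul, htp, htp']
    exact hpp'.eq.symm
  have htr : t * r * t = r⁻¹ := by
    rw [hr, htmul, htinv, htp, htp', mul_inv_rev, inv_inv]
  have htdx : ∀ x, t * (d * x * d) * t = d * (t * x * t) * d := fun x => by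
    calc t * (d * x * d) * t = (t * d) * x * (d * t) := by group
      _ = (d * t) * x * (t * d) := congrArg₂ (fun u v => u * x * v) htd.eq htd.eq.symm
      _ = d * (t * x * t) * d := by group
  -- `d` inverts `s`
  obtain ⟨b, hb, hab⟩ : ∃ b ∈ perp D d, a ≠ b := by
    obtain ⟨b₁, b₂, h1, h2, h12⟩ := perp_pair hL hd
    by_cases e : a = b₁
    · exact ⟨b₂, h2, e ▸ h12⟩
    · exact ⟨b₁, h1, e⟩
  have htab : t * (a * b) * t⁻¹ = (a * b)⁻¹ := by
    rw [hti, mul_inv_rev, hT.inv_eq ha.1, hT.inv_eq hb.1, ht]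
    calc d * a * (a * b) * (d * a) = d * (a * a) * (b * d) * a := by group
      _ = b * a := by rw [hT.sq a ha.1, mul_one, ← hb.2.2.eq, ← mul_assoc d, hT.sq d hd, one_mul]
  set k := s * (d * s * d) with hk
  have hkQ : k ∈ twinGrp D := mul_mem hsQ (hdcQ s hsQ)
  have hkd : Commute d k := by
    have h1 : d * k * d = k := by
      calc d * k * d = (d * s * d) * s := by
            rw [hk]; simp only [mul_assoc, invol_cancel (hT.sq d hd), hT.sq d hd, mul_one]
        _ = k := (twinGrp_comm hT hL (hdcQ s hsQ) hsQ).eq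
    show d * k = k * d
    calc d * k = d * k * d * d := by rw [mul_assoc (d * k), hT.sq d hd, mul_one]
      _ = k * d := by rw [h1]
  have hk1 : k = 1 := by
    obtain ⟨i, hi⟩ := Subgroup.mem_zpowers_iff.1 (mem_zpowers_of_core hT hL hd ha hb hab (h3 d hd) hkQ hkd)
    have e1 : t * k * t = k := by rw [hk, htmul, htdx, hts]
    have e2 : t * k * t⁻¹ = k⁻¹ := by rw [← hi, ← conj_zpow, htab, inv_zpow]
    rw [hti, e1] at e2
    have hkk : k * k = 1 := by nth_rw 2 [e2]; exact mul_inv_cancel k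
    have := twinGrp_cube hT hL hkQ
    rwa [pow_succ, pow_two, hkk, one_mul] at this
  have hdsd : d * s * d = s⁻¹ := eq_inv_of_mul_eq_one_right hk1
  have hs3 : s ^ 3 = 1 := twinGrp_cube hT hL hsQ
  have hsd : s * d = s⁻¹ * d * s := by
    calc s * d = (s ^ 3)⁻¹ * s * d := by rw [hs3, inv_one, one_mul]
      _ = s⁻¹ * s⁻¹ * d := by group
      _ = s⁻¹ * (d * s * d) * d := by rw [hdsd]
      _ = s⁻¹ * d * s := by rw [mul_assoc _ _ d, mul_assoc (d * s), hT.sq d hd, mul_one, ← mul_assoc]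
  have hsdD : s * d ∈ D := by
    rw [hsd]; have := hT.conj s⁻¹ d hd; rwa [inv_inv] at this
  have hncom : ¬Commute (s * d) w := by
    intro hc
    have hdc : Commute d (s * w * s⁻¹) := by
      have := hc.conj s
      rwa [hsd, show s * (s⁻¹ * d * s) * s⁻¹ = d by group] at this
    have hsw : s * w * s⁻¹ = p * w * p⁻¹ := by
      rw [hs, show p * p' * w * (p * p')⁻¹ = p * (p' * w) * p'⁻¹ * p⁻¹ by group, ← hp'w.eq]
      group
    rw [hsw, show p * w * p⁻¹ = w * y' * w * y' * w by
      rw [hp, mul_inv_rev, hwi, hT.inv_eq hw'.1]; group] at hdc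
    have hbr := hT.braid hw hw'.1 (twin_not_commute hw hw')
    rw [hbr, show y' * w * y' * y' * w = y' * (w * (y' * y') * w) by group, hT.sq y' hw'.1, mul_one,
      hT.sq w hw, mul_one] at hdc
    exact hdy' hdc
  have hσ : (d * w) ^ 3 = 1 :=
    (hT.ord d hd w hw).resolve_left fun e => hdw (hT.commute_of_sq hd hw e)
  have h3' : (s * d * w) ^ 3 = 1 :=
    (hT.ord _ hsdD w hw).resolve_left fun e => hncom (hT.commute_of_sq hsdD hw e)
  have hσ' : (d * w) * (d * w) = w * d := by
    have : (d * w) * (d * w) = (d * w)⁻¹ :=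
      eq_inv_of_mul_eq_one_left (by rw [← pow_two, ← pow_succ]; exact hσ)
    rw [this, mul_inv_rev, hdi, hwi]
  have h4 : d * (w * s * w) * d = (d * r * d)⁻¹ := by
    rw [hwsw, mul_inv_rev, mul_inv_rev, hdi, mul_assoc]
  have h5 : w * (d * s * d) * w = r := by
    rw [hdsd]
    calc w * s⁻¹ * w = (w * s * w)⁻¹ := by rw [mul_inv_rev, mul_inv_rev, hwi, mul_assoc]
      _ = r := by rw [hwsw, inv_inv]
  have hprod : s * (d * r * d)⁻¹ * r = 1 := by
    rw [← h4, ← h5, ← h3', pow_succ, pow_two]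
    symm
    calc s * d * w * (s * d * w) * (s * d * w)
        = s * (d * (w * s * w) * d) * ((d * w) * (d * w)) * (s * d * w) := by
          simp only [mul_assoc, invol_cancel (hT.sq w hw), invol_cancel (hT.sq d hd)]
      _ = s * (d * (w * s * w) * d) * (w * d) * (s * d * w) := by rw [hσ']
      _ = _ := by group
  have hseq : s = (d * r * d) * r⁻¹ := by
    have hc := twinGrp_comm hT hL (hdcQ r hrQ) (inv_mem hrQ)
    rw [hc.eq]
    exact eq_of_mul_inv_eq_one (by
      rw [mul_inv_rev, inv_inv, ← mul_assoc]; exact hprod)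
  have hs1 : s = 1 := by
    have e : t * s * t = s⁻¹ := by
      conv_lhs => rw [hseq]
      rw [htmul, htdx, htr, show t * r⁻¹ * t = (t * r * t)⁻¹ by
        rw [mul_inv_rev, mul_inv_rev, hti, mul_assoc], htr, inv_inv, hseq, mul_inv_rev, inv_inv]
      have hc := twinGrp_comm hT hL (hdcQ r⁻¹ (inv_mem hrQ)) hrQ
      rw [show (d * r * d)⁻¹ = d * r⁻¹ * d by rw [mul_inv_rev, mul_inv_rev, hdi, mul_assoc]]
      exact hc.eq
    rw [hts] at e
    have hss : s * s = 1 := by nth_rw 2 [e]; exact mul_inv_cancel s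
    rw [pow_succ, pow_two, hss, one_mul] at hs3
    exact hs3
  have hcw : Commute w p := by
    rw [hs, mul_eq_one_iff_inv_eq] at hs1
    have := hs1 ▸ hp'w
    simpa using this.inv_right
  rw [hp] at hcw
  have : w * y' = y' * w := by
    have h' : w * (w * y') = w * y' * w := hcw.eq
    rw [invol_cancel (hT.sq w hw)] at h'
    calc w * y' = w * y' * w * w := by rw [mul_assoc _ w, hT.sq w hw, mul_one]
      _ = y' * w := by rw [← h']
  exact twin_not_commute hw hw' this

end Twins

end Basics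

/-- Conjugation by an involution commuting with `d` fixes only `d` over `d`. -/
theorem eq_of_conj_eq {H : Type*} [Group H] {c d z : H} (hc : c * c = 1) (hcd : Commute c d)
    (h : c * z * c = d) : z = d :=
  invol_conj_inj hc (h.trans (invol_conj_eq_of_commute hc hcd).symm)

/-- The ten transpositions of five points. -/
def swaps : Finset (Equiv.Perm (Fin 5)) :=
  ((Finset.univ : Finset (Fin 5 × Fin 5)).filter fun q => q.1 < q.2).image fun q => Equiv.swap q.1 q.2

theorem card_swaps : swaps.card = 10 := by decide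

theorem swap_mem_swaps {i j : Fin 5} (h : i ≠ j) : Equiv.swap i j ∈ swaps := by
  rcases lt_or_gt_of_ne h with h | h
  · exact Finset.mem_image.2 ⟨(i, j), by simp [h], rfl⟩
  · exact Finset.mem_image.2 ⟨(j, i), by simp [h], Equiv.swap_comm j i⟩

theorem exists_of_mem_swaps {g : Equiv.Perm (Fin 5)} (h : g ∈ swaps) :
    ∃ i j, i ≠ j ∧ g = Equiv.swap i j := by
  obtain ⟨q, hq, rfl⟩ := Finset.mem_image.1 h
  exact ⟨q.1, q.2, (Finset.mem_filter.1 hq).2.ne, rfl⟩

theorem exists_move_zero_one {i j : Fin 5} (h : i ≠ j) :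
    ∃ σ : Equiv.Perm (Fin 5), σ 0 = i ∧ σ 1 = j := by
  refine ⟨Equiv.swap 0 i * Equiv.swap 1 (Equiv.swap 0 i j), ?_⟩
  revert h; revert i j; decide

theorem exists_commuting_swap : ∀ i j : Fin 5, i ≠ j → ∃ k l : Fin 5, k ≠ l ∧
    Equiv.swap i j * Equiv.swap k l = Equiv.swap k l * Equiv.swap i j ∧
    Equiv.swap k l * Equiv.swap 0 1 = Equiv.swap 0 1 * Equiv.swap k l := by decide

theorem swap_cases : ∀ i j : Fin 5, i ≠ j → Equiv.swap i j = Equiv.swap 0 1 ∨
    Equiv.swap i j = Equiv.swap 1 2 ∨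
    Equiv.swap i j = Equiv.swap 0 1 * Equiv.swap 1 2 * Equiv.swap 0 1 ∨
    Equiv.swap i j = Equiv.swap 2 3 * (Equiv.swap 0 1 * Equiv.swap 1 2 * Equiv.swap 0 1) * Equiv.swap 2 3 ∨
    Equiv.swap i j = Equiv.swap 3 4 * (Equiv.swap 2 3 * (Equiv.swap 0 1 * Equiv.swap 1 2 * Equiv.swap 0 1) *
      Equiv.swap 2 3) * Equiv.swap 3 4 ∨
    Equiv.swap i j = Equiv.swap 2 3 * Equiv.swap 1 2 * Equiv.swap 2 3 ∨
    Equiv.swap i j = Equiv.swap 3 4 * (Equiv.swap 2 3 * Equiv.swap 1 2 * Equiv.swap 2 3) * Equiv.swap 3 4 ∨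
    Equiv.swap i j = Equiv.swap 2 3 ∨ Equiv.swap i j = Equiv.swap 3 4 ∨
    Equiv.swap i j = Equiv.swap 2 3 * Equiv.swap 3 4 * Equiv.swap 2 3 := by decide

theorem exists_third_point : ∀ i j : Fin 5, ∃ k : Fin 5, k ≠ i ∧ k ≠ j := by decide

/-- A copy of `Sym 5` whose transpositions form a block. -/
structure FiveBlock (D : Set G) (u : G) (φ : Equiv.Perm (Fin 5) →* G) : Prop where
  base : φ (Equiv.swap 0 1) = u
  inj : Function.Injective φ
  mem : ∀ g ∈ swaps, φ g ∈ D
  closed : ∀ g ∈ swaps, perp D (φ g) ⊆ φ '' ↑swaps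

section NoTwin

variable (hT : TSet D) (hL : Local D)
include hT

theorem twin_conj (g : G) {u v : G} (h : Twin D u v) : Twin D (g * u * g⁻¹) (g * v * g⁻¹) :=
  ⟨hT.conj g v h.1, fun e => h.2.1 (mul_left_cancel (mul_right_cancel e)), conj_perp_eq hT g h.2.2⟩

theorem no_twin_conj (g : G) {u : G} (h : ∀ v, ¬Twin D u v) : ∀ v, ¬Twin D (g * u * g⁻¹) v := by
  intro v hv
  have := twin_conj hT g⁻¹ hv
  rw [show g⁻¹ * (g * u * g⁻¹) * g⁻¹⁻¹ = u by group] at this
  exact h _ this

include hL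

theorem exists_perp_ne {d a : G} (ha : a ∈ D) : ∃ x ∈ perp D a, x ≠ d := by
  obtain ⟨b₁, b₂, h1, h2, h12⟩ := perp_pair hL ha
  by_cases e : b₁ = d
  · exact ⟨b₂, h2, fun e' => h12 (e.trans e'.symm)⟩
  · exact ⟨b₁, h1, e⟩

theorem exists_five_block {d : G} (hd : d ∈ D) (hnt : ∀ v, ¬Twin D d v) :
    ∃ φ : Equiv.Perm (Fin 5) →* G, FiveBlock D d φ := by
  obtain ⟨a, b, ha, hb, hab⟩ := perp_pair hL hd
  obtain ⟨x, hx, hxd⟩ := exists_perp_ne hT hL (d := d) ha.1
  have had : d ∈ perp D a := perp_symm' hd ha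
  have hdx : ¬Commute d x := not_commute_perp hT hL ha.1 had hx hxd.symm
  have hba : ¬Commute b a := not_commute_perp hT hL hd hb ha hab.symm
  have hxb : ¬Commute x b := by
    intro hc
    have hne : b ≠ x := fun e => hba (e ▸ hx.2.2.symm)
    have hbx : b ∈ perp D x := ⟨hb.1, hne, hc⟩
    refine hnt x ⟨hx.1, hxd, ?_⟩
    rw [perp_eq_triple hT hL hd ha hb hab,
      perp_eq_triple hT hL hx.1 (perp_symm' ha.1 hx) hbx hab]
  let s : ℕ → G := fun i => match i with
    | 0 => d
    | 1 => x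
    | 2 => b
    | _ => a
  have hrel : Cfsg.Agent.Perm.BraidRels s 4 := by
    refine ⟨fun i hi => ?_, fun i hi => ?_, fun i j hij hj => ?_⟩
    · match i, hi with
      | 0, _ => exact hT.sq d hd
      | 1, _ => exact hT.sq x hx.1
      | 2, _ => exact hT.sq b hb.1
      | 3, _ => exact hT.sq a ha.1
    · match i, hi with
      | 0, _ => exact hT.braid hd hx.1 hdx
      | 1, _ => exact hT.braid hx.1 hb.1 hxb
      | 2, _ => exact hT.braid hb.1 ha.1 hba
    · match i, j, hij, hj with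
      | 0, 2, _, _ => exact hb.2.2.eq
      | 0, 3, _, _ => exact ha.2.2.eq
      | 1, 3, _, _ => exact hx.2.2.symm.eq
      | 0, 0, h, _ | 0, 1, h, _ | 1, 0, h, _ | 1, 1, h, _ | 1, 2, h, _ | 2, _, h, _ => omega
      | i + 3, _, h, h' => omega
  obtain ⟨φ, hφ⟩ := Cfsg.Agent.Perm.exists_hom_of_braidRels hrel
  have h01 : φ (Equiv.swap 0 1) = d := hφ 0 (by norm_num)
  have h12 : φ (Equiv.swap 1 2) = x := hφ 1 (by norm_num)
  have h23 : φ (Equiv.swap 2 3) = b := hφ 2 (by norm_num)
  have h34 : φ (Equiv.swap 3 4) = a := hφ 3 (by norm_num)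
  have h24 : φ (Equiv.swap 2 4) = b * a * b := by
    rw [show (Equiv.swap 2 4 : Equiv.Perm (Fin 5)) = Equiv.swap 2 3 * Equiv.swap 3 4 * Equiv.swap 2 3
      from by decide, map_mul, map_mul, h23, h34]
  have hperp : perp D d = {b, a, b * a * b} := perp_eq_triple hT hL hd hb ha hab.symm
  have hconj : ∀ {i j : Fin 5}, i ≠ j → ∃ σ : Equiv.Perm (Fin 5),
      Equiv.swap i j = σ * Equiv.swap 0 1 * σ⁻¹ ∧ φ (Equiv.swap i j) = φ σ * d * (φ σ)⁻¹ := by
    intro i j hij
    obtain ⟨σ, hi, hj⟩ := exists_move_zero_one hij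
    have e : Equiv.swap i j = σ * Equiv.swap 0 1 * σ⁻¹ := by rw [← hi, ← hj, Equiv.swap_apply_apply]
    exact ⟨σ, e, by rw [e, map_mul, map_mul, map_inv, h01]⟩
  have hdb : Commute b d := hb.2.2.symm
  have hda : Commute a d := ha.2.2.symm
  have hne01 : ∀ i j : Fin 5, i ≠ j → Equiv.swap i j ≠ Equiv.swap 0 1 → φ (Equiv.swap i j) ≠ d := by
    intro i j hij hne h
    have hx02 : d * x * d ≠ d := fun e => hxd (eq_of_conj_eq (hT.sq d hd) (Commute.refl d) e)
    have hx13 : b * x * b ≠ d := fun e => hxd (eq_of_conj_eq (hT.sq b hb.1) hdb e)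
    rcases swap_cases i j hij with e | e | e | e | e | e | e | e | e | e <;>
      first
        | exact hne e
        | (rw [e] at h; simp only [map_mul, h01, h12, h23, h34] at h)
    · exact hxd h
    · exact hx02 h
    · exact hx02 (eq_of_conj_eq (hT.sq b hb.1) hdb h)
    · exact hx02 (eq_of_conj_eq (hT.sq b hb.1) hdb (eq_of_conj_eq (hT.sq a ha.1) hda h))
    · exact hx13 h
    · exact hx13 (eq_of_conj_eq (hT.sq a ha.1) hda h)
    · exact hb.2.1 h
    · exact ha.2.1 h
    · exact ha.2.1 (eq_of_conj_eq (hT.sq b hb.1) hdb h)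
  refine ⟨φ, h01, ?_, ?_, ?_⟩
  · rw [← MonoidHom.ker_eq_bot_iff, eq_bot_iff]
    intro g hg
    rw [Subgroup.mem_bot]
    by_contra hg1
    obtain ⟨i, hi⟩ : ∃ i, g i ≠ i := by
      by_contra h; push Not at h; exact hg1 (Equiv.ext h)
    obtain ⟨j, hji, hjg⟩ := exists_third_point i (g i)
    have hgij : g i ≠ g j := fun e => hji (g.injective e).symm
    obtain ⟨σ, e, he⟩ := hconj hji.symm
    have hσ0 : Equiv.swap (σ⁻¹ (g i)) (σ⁻¹ (g j)) ≠ Equiv.swap 0 1 := by
      intro h
      have h' : Equiv.swap (g i) (g j) = Equiv.swap i j := by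
        rw [e, ← h, ← Equiv.swap_apply_apply]
        simp
      have := congrArg (fun π : Equiv.Perm (Fin 5) => π (g i)) h'
      simp only [Equiv.swap_apply_left] at this
      rw [Equiv.swap_apply_of_ne_of_ne hi hjg.symm] at this
      exact hgij this.symm
    refine hne01 _ _ (fun h => hgij (σ⁻¹.injective h)) hσ0 ?_
    rw [Equiv.swap_apply_apply, Equiv.swap_apply_apply]
    simp only [map_mul, map_inv, MonoidHom.mem_ker.1 hg, one_mul, inv_one, mul_one, he]
    group
  · intro g hg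
    obtain ⟨i, j, hij, rfl⟩ := exists_of_mem_swaps hg
    obtain ⟨σ, -, he⟩ := hconj hij
    rw [he]; exact hT.conj _ d hd
  · intro g hg z hz
    obtain ⟨i, j, hij, rfl⟩ := exists_of_mem_swaps hg
    obtain ⟨σ, -, he⟩ := hconj hij
    rw [he] at hz
    have h1 := conj_perp hT (φ σ)⁻¹ hz
    rw [show (φ σ)⁻¹ * (φ σ * d * (φ σ)⁻¹) * (φ σ)⁻¹⁻¹ = d by group, hperp] at h1
    obtain ⟨k, l, hkl, e⟩ : ∃ k l : Fin 5, k ≠ l ∧ (φ σ)⁻¹ * z * (φ σ)⁻¹⁻¹ = φ (Equiv.swap k l) := by
      rcases h1 with h | h | h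
      · exact ⟨2, 3, by decide, h.trans h23.symm⟩
      · exact ⟨3, 4, by decide, h.trans h34.symm⟩
      · exact ⟨2, 4, by decide, h.trans h24.symm⟩
    refine ⟨Equiv.swap (σ k) (σ l), swap_mem_swaps fun h => hkl (σ.injective h), ?_⟩
    rw [Equiv.swap_apply_apply, map_mul, map_mul, map_inv, ← e]
    group

theorem five_block [Finite G] {d : G} {φ : Equiv.Perm (Fin 5) →* G} (hd : d ∈ D)
    (hnt : ∀ v, ¬Twin D d v) (hφ : FiveBlock D d φ) : D = φ '' ↑swaps := by
  refine Set.Subset.antisymm (fun w hw => ?_) (fun z hz => by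
    obtain ⟨g, hg, rfl⟩ := hz; exact hφ.mem g hg)
  by_contra hwY
  have h01 : (Equiv.swap 0 1 : Equiv.Perm (Fin 5)) ∈ swaps := swap_mem_swaps (by decide)
  have hdY : d ∈ φ '' ↑swaps := ⟨_, h01, hφ.base⟩
  have hdw : ¬Commute d w := fun hc => hwY (by
    by_cases e : w = d
    · exact e ▸ hdY
    · exact hφ.closed _ h01 (hφ.base.symm ▸ ⟨hw, e, hc⟩))
  obtain ⟨g₀, hg₀⟩ : ∃ g : G, g * d * g⁻¹ = w := ⟨_, (hT.edge_swap hd hw hdw).1⟩
  obtain ⟨ψ, hψ⟩ := exists_five_block hT hL hw (hg₀ ▸ no_twin_conj hT g₀ hnt)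
  have hup : ∀ y ∈ φ '' ↑swaps, ∀ z ∈ D, Commute y z → z ∈ φ '' ↑swaps := by
    rintro _ ⟨g, hg, rfl⟩ z hz hc
    by_cases e : z = φ g
    · exact e ▸ ⟨g, hg, rfl⟩
    · exact hφ.closed g hg ⟨hz, e, hc⟩
  have hW : ∀ z ∈ ψ '' ↑swaps, z ∉ φ '' ↑swaps := by
    rintro _ ⟨g, hg, rfl⟩ hz
    obtain ⟨i, j, hij, rfl⟩ := exists_of_mem_swaps hg
    obtain ⟨k, l, hkl, h1, h2⟩ := exists_commuting_swap i j hij
    have hkm := swap_mem_swaps hkl
    have h1' : Commute (ψ (Equiv.swap i j)) (ψ (Equiv.swap k l)) := (Commute.map h1 ψ :)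
    have h2' : Commute (ψ (Equiv.swap k l)) w := hψ.base ▸ (Commute.map h2 ψ :)
    exact hwY (hup _ (hup _ hz _ (hψ.mem _ hkm) h1') w hw h2')
  have hWD : ∀ z ∈ ψ '' ↑swaps, z ∈ D := by rintro _ ⟨g, hg, rfl⟩; exact hψ.mem g hg
  set W : Set G := ψ '' ↑swaps with hWdef
  have hcard : Nat.card W = 10 := by
    rw [Nat.card_coe_set_eq, hWdef, Set.ncard_image_of_injective _ hψ.inj, Set.ncard_coe_finset, card_swaps]
  -- a product of two commuting transpositions of the first block
  have hfpf : ∀ p q, p ∈ swaps → q ∈ swaps → p ≠ q → p * q = q * p → ∀ z ∈ W,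
      φ (p * q) * z * (φ (p * q))⁻¹ ∈ W ∧ φ (p * q) * z * (φ (p * q))⁻¹ ≠ z := by
    intro p q hp hq hpq hc z hz
    have hpd := hφ.mem p hp
    have hqp : φ q ∈ perp D (φ p) :=
      ⟨hφ.mem q hq, fun e => hpq (hφ.inj e).symm, (Commute.map hc φ :)⟩
    have hf := flip_mem_perp hT hpd hqp (hWD z hz)
      (fun h => hW z hz (hup _ ⟨p, hp, rfl⟩ z (hWD z hz) h))
      (fun h => hW z hz (hup _ ⟨q, hq, rfl⟩ z (hWD z hz) h))
    have e : φ (p * q) * z * (φ (p * q))⁻¹ = φ p * φ q * z * φ q * φ p := by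
      rw [map_mul, mul_inv_rev, hT.inv_eq hpd, hT.inv_eq hqp.1]; simp only [mul_assoc]
    rw [e]
    obtain ⟨g, hg, rfl⟩ := hz
    exact ⟨hψ.closed g hg hf, hf.2.1⟩
  let P : Equiv.Perm (Fin 5) → Equiv.Perm (Fin 5) → Prop := fun p q =>
    p ∈ swaps ∧ q ∈ swaps ∧ p ≠ q ∧ p * q = q * p
  have hsq : ∀ p q, P p q → (p * q) * (p * q) = 1 := by
    rintro p q ⟨hp, hq, -, hc⟩
    obtain ⟨i, j, -, rfl⟩ := exists_of_mem_swaps hp
    obtain ⟨k, l, -, rfl⟩ := exists_of_mem_swaps hq
    nth_rw 2 [hc]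
    simp [mul_assoc]
  let act : (p q : Equiv.Perm (Fin 5)) → P p q → Equiv.Perm W := fun p q h =>
    Function.Involutive.toPerm
      (fun z => ⟨φ (p * q) * z.1 * (φ (p * q))⁻¹, (hfpf p q h.1 h.2.1 h.2.2.1 h.2.2.2 z.1 z.2).1⟩)
      (fun z => Subtype.ext (by
        show φ (p * q) * (φ (p * q) * z.1 * (φ (p * q))⁻¹) * (φ (p * q))⁻¹ = z.1
        have h' : φ (p * q) * φ (p * q) = 1 := by rw [← map_mul, hsq p q h, map_one]
        have hi : (φ (p * q))⁻¹ = φ (p * q) := inv_eq_self h'
        rw [hi]; exact invol_conj_invol h' z.1))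
  haveI : Fintype W := Fintype.ofFinite _
  classical
  have hsign : ∀ p q (h : P p q), Equiv.Perm.sign (act p q h) = -1 := by
    intro p q h
    rw [Equiv.Perm.sign_of_pow_two_eq_one (Equiv.ext fun z => by
      rw [pow_two]
      exact Function.Involutive.toPerm_involutive _ z)]
    have h0 : Fintype.card (Function.fixedPoints (act p q h)) = 0 :=
      Fintype.card_eq_zero_iff.2 ⟨fun z => (hfpf p q h.1 h.2.1 h.2.2.1 h.2.2.2 z.1.1 z.1.2).2
        (congrArg Subtype.val z.2)⟩
    rw [h0, ← Nat.card_eq_fintype_card, hcard]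
    decide
  have P1 : P (Equiv.swap 0 1) (Equiv.swap 2 3) :=
    ⟨swap_mem_swaps (by decide), swap_mem_swaps (by decide), by decide, by decide⟩
  have P2 : P (Equiv.swap 0 2) (Equiv.swap 1 3) :=
    ⟨swap_mem_swaps (by decide), swap_mem_swaps (by decide), by decide, by decide⟩
  have P3 : P (Equiv.swap 0 3) (Equiv.swap 1 2) :=
    ⟨swap_mem_swaps (by decide), swap_mem_swaps (by decide), by decide, by decide⟩
  have hmul : act _ _ P1 * act _ _ P2 = act _ _ P3 := Equiv.ext fun z => Subtype.ext (by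
    show φ (Equiv.swap 0 1 * Equiv.swap 2 3) * (φ (Equiv.swap 0 2 * Equiv.swap 1 3) * z.1 *
      (φ (Equiv.swap 0 2 * Equiv.swap 1 3))⁻¹) * (φ (Equiv.swap 0 1 * Equiv.swap 2 3))⁻¹ = _
    show _ = φ (Equiv.swap 0 3 * Equiv.swap 1 2) * z.1 * (φ (Equiv.swap 0 3 * Equiv.swap 1 2))⁻¹
    rw [show (Equiv.swap 0 3 * Equiv.swap 1 2 : Equiv.Perm (Fin 5)) =
      (Equiv.swap 0 1 * Equiv.swap 2 3) * (Equiv.swap 0 2 * Equiv.swap 1 3) by decide]
    simp only [map_mul]
    group)
  have := congrArg Equiv.Perm.sign hmul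
  rw [map_mul, hsign _ _ P1, hsign _ _ P2, hsign _ _ P3] at this
  exact absurd this (by decide)

end NoTwin

end Cfsg.Agent.Fischer.LocalSymThree
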