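import Cfsg.Agent.Lib.Fischer.Basic
import Cfsg.Agent.Lib.Fischer.SmallExponent

/-!
Invariant partitions of a class `D` of 3-transpositions into modules (two different classes
commute completely or not at all).  If the group has no solvable normal subgroup inside the
derived group, and each class either is pairwise commuting or commutes with another class,
then the classes are singletons.
-/

set_option autoImplicit false

namespace Cfsg.Agent.Fischer

variable {G : Type*} [Group G] {α : Type*}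

/-- `f` labels the parts of an invariant partition of `D` into modules. -/
structure IsModule (D : Set G) (f : G → α) : Prop where
  equivariant : ∀ (g : G), ∀ a ∈ D, ∀ b ∈ D, f a = f b → f (g * a * g⁻¹) = f (g * b * g⁻¹)
  uniform : ∀ a ∈ D, ∀ a' ∈ D, ∀ b ∈ D, f a = f a' → f a ≠ f b → (Commute a b ↔ Commute a' b)

/-- The class of `x`. -/
def cls (D : Set G) (f : G → α) (x : G) : Set G := {y | y ∈ D ∧ f y = f x}

/-- The group generated by the products of two members of a set. -/
def pairGrp (S : Set G) : Subgroup G := Subgroup.closure {g | ∃ a ∈ S, ∃ b ∈ S, g = a * b}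

/-- The group generated by all products of two members of the same class. -/
def modGrp (D : Set G) (f : G → α) : Subgroup G :=
  Subgroup.closure {g | ∃ a ∈ D, ∃ b ∈ D, f a = f b ∧ g = a * b}

theorem mul_mem_pairGrp {S : Set G} {a b : G} (ha : a ∈ S) (hb : b ∈ S) : a * b ∈ pairGrp S :=
  Subgroup.subset_closure ⟨a, ha, b, hb, rfl⟩

theorem isSolvable_sup (H K : Subgroup G) [H.Normal] [Group.IsSolvable H] [Group.IsSolvable K] :
    Group.IsSolvable ↥(H ⊔ K) := by
  let f : ↥(H ⊔ K) →* G ⧸ H := (QuotientGroup.mk' H).comp (H ⊔ K).subtype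
  have hr : f.range ≤ K.map (QuotientGroup.mk' H) := by
    rintro _ ⟨⟨z, hz⟩, rfl⟩
    have : (H ⊔ K).map (QuotientGroup.mk' H) = K.map (QuotientGroup.mk' H) := by
      rw [Subgroup.map_sup, (Subgroup.map_eq_bot_iff H).2 (by rw [QuotientGroup.ker_mk']), bot_sup_eq]
    rw [← this]
    exact ⟨z, hz, rfl⟩
  have : Group.IsSolvable (K.map (QuotientGroup.mk' H)) :=
    Group.isSolvable_of_surjective ((QuotientGroup.mk' H).subgroupMap_surjective K)
  let f' : ↥(H ⊔ K) →* ↥(K.map (QuotientGroup.mk' H)) := f.codRestrict _ fun z => hr ⟨z, rfl⟩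
  refine Group.isSolvable_of_ker_le_range (Subgroup.inclusion (le_sup_left : H ≤ H ⊔ K)) f' ?_
  intro z hz
  have : (QuotientGroup.mk' H) (z : G) = 1 := congrArg Subtype.val hz
  exact ⟨⟨z, (QuotientGroup.eq_one_iff _).1 this⟩, rfl⟩

theorem exists_solvable_normal_max [Finite G] :
    ∃ M : Subgroup G, M.Normal ∧ Group.IsSolvable M ∧
      ∀ H : Subgroup G, H.Normal → Group.IsSolvable H → H ≤ M := by
  let S : Set (Subgroup G) := {H | H.Normal ∧ Group.IsSolvable H}
  have hne : S.Nonempty := ⟨⊥, inferInstance, inferInstance⟩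
  obtain ⟨M, hMS, hmax⟩ := S.toFinite.exists_maximal hne
  obtain ⟨hMn, hMsol⟩ := hMS
  refine ⟨M, hMn, hMsol, fun H hHn hHsol => ?_⟩
  have := hmax (y := M ⊔ H) ⟨inferInstance, isSolvable_sup M H⟩ le_sup_left
  exact le_sup_right.trans this

theorem pairGrp_isSolvable_of_commute {S : Set G} (h : ∀ a ∈ S, ∀ b ∈ S, Commute a b) :
    Group.IsSolvable ↥(pairGrp S) := by
  have : IsMulCommutative ↥(pairGrp S) := Subgroup.isMulCommutative_closure (by
    rintro _ ⟨a, ha, b, hb, rfl⟩ _ ⟨c, hc, d, hd, rfl⟩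
    exact ((h a ha c hc).mul_right (h a ha d hd)).mul_left ((h b hb c hc).mul_right (h b hb d hd)))
  exact Group.isSolvable_of_comm fun a b => this.is_comm.comm a b

namespace IsModule

variable {D : Set G} {f : G → α} (hD : TClass D) (hf : IsModule D f)
include hD hf

theorem conj_self {d c : G} (hd : d ∈ D) (hc : c ∈ D) (h : f d = f c) : f (d * c * d) = f c := by
  have := hf.equivariant d d hd c hc h
  rw [hD.toTSet.inv_eq hd, hD.sq d hd, one_mul, h] at this
  exact this.symm

theorem pair_fix {a b c : G} (ha : a ∈ D) (hb : b ∈ D) (hab : f a = f b) (hc : c ∈ D) :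
    f (a * b * c * (a * b)⁻¹) = f c := by
  have hT := hD.toTSet
  rw [mul_inv_rev, hT.inv_eq ha, hT.inv_eq hb,
    show a * b * c * (b * a) = a * (b * c * b) * a by simp only [mul_assoc]]
  by_cases hac : f a = f c
  · have h1 : f (b * c * b) = f c := conj_self hD hf hb hc (hab ▸ hac)
    rw [conj_self hD hf ha (hT.conj_mem hb hc) (hac.trans h1.symm), h1]
  by_cases hcom : Commute a c
  · have hbc : Commute b c := (hf.uniform a ha b hb c hc hab hac).1 hcom
    rw [invol_conj_eq_of_commute (hD.sq b hb) hbc, invol_conj_eq_of_commute (hD.sq a ha) hcom]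
  · have hbc : ¬Commute b c := fun h => hcom ((hf.uniform a ha b hb c hc hab hac).2 h)
    have h1 := hf.equivariant c b hb a ha hab.symm
    rw [hT.inv_eq hc, ← hT.braid hb hc hbc, ← hT.braid ha hc hcom] at h1
    have h2 := hf.equivariant a _ (hT.conj_mem hb hc) _ (hT.conj_mem ha hc) h1
    rwa [hT.inv_eq ha, invol_conj_invol (hD.sq a ha)] at h2

theorem mem_fix {n : G} (hn : n ∈ modGrp D f) : ∀ c ∈ D, f (n * c * n⁻¹) = f c := by
  suffices H : ∀ c ∈ D, f (n * c * n⁻¹) = f c ∧ f (n⁻¹ * c * n⁻¹⁻¹) = f c from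
    fun c hc => (H c hc).1
  unfold modGrp at hn
  induction hn using Subgroup.closure_induction with
  | mem x hx =>
    obtain ⟨a, ha, b, hb, hab, rfl⟩ := hx
    intro c hc
    refine ⟨pair_fix hD hf ha hb hab hc, ?_⟩
    have : (a * b)⁻¹ = b * a := by rw [mul_inv_rev, hD.toTSet.inv_eq ha, hD.toTSet.inv_eq hb]
    rw [this]
    exact pair_fix hD hf hb ha hab.symm hc
  | one => intro c _; simp
  | mul x y _ _ hx hy =>
    intro c hc
    refine ⟨?_, ?_⟩
    · rw [show x * y * c * (x * y)⁻¹ = x * (y * c * y⁻¹) * x⁻¹ by simp [mul_assoc]]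
      rw [(hx _ (hD.conj y c hc)).1, (hy c hc).1]
    · rw [show (x * y)⁻¹ * c * (x * y)⁻¹⁻¹ = y⁻¹ * (x⁻¹ * c * x⁻¹⁻¹) * y⁻¹⁻¹ by simp [mul_assoc]]
      rw [(hy _ (hD.conj x⁻¹ c hc)).2, (hx c hc).2]
  | inv x _ hx =>
    intro c hc
    exact ⟨(hx c hc).2, by rw [inv_inv]; exact (hx c hc).1⟩

theorem conj_mem_cls {n : G} (hn : n ∈ modGrp D f) {x y : G} (hy : y ∈ cls D f x) :
    n * y * n⁻¹ ∈ cls D f x :=
  ⟨hD.conj n y hy.1, by rw [mem_fix hD hf hn y hy.1]; exact hy.2⟩

omit hD hf in
theorem pairGrp_le (x : G) : pairGrp (cls D f x) ≤ modGrp D f := by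
  refine Subgroup.closure_mono ?_
  rintro _ ⟨a, ha, b, hb, rfl⟩
  exact ⟨a, ha.1, b, hb.1, ha.2.trans hb.2.symm, rfl⟩

theorem pairGrp_normalized {n : G} (hn : n ∈ modGrp D f) {x z : G}
    (hz : z ∈ pairGrp (cls D f x)) : n * z * n⁻¹ ∈ pairGrp (cls D f x) := by
  unfold pairGrp at hz ⊢
  induction hz using Subgroup.closure_induction with
  | mem g hg =>
    obtain ⟨a, ha, b, hb, rfl⟩ := hg
    refine Subgroup.subset_closure ⟨_, conj_mem_cls hD hf hn ha, _, conj_mem_cls hD hf hn hb, ?_⟩
    simp [mul_assoc]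
  | one => simp
  | mul g h _ _ h1 h2 => rw [← conj_mul]; exact mul_mem h1 h2
  | inv g _ h1 => rw [← conj_inv]; exact inv_mem h1

theorem subgroupOf_normal (x : G) : ((pairGrp (cls D f x)).subgroupOf (modGrp D f)).Normal :=
  ⟨fun z hz n => pairGrp_normalized hD hf n.2 hz⟩

theorem modGrp_normal : (modGrp D f).Normal := by
  refine ⟨fun n hn g => ?_⟩
  unfold modGrp at hn ⊢
  induction hn using Subgroup.closure_induction with
  | mem z hz =>
    obtain ⟨a, ha, b, hb, hab, rfl⟩ := hz
    exact Subgroup.subset_closure ⟨_, hD.conj g a ha, _, hD.conj g b hb,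
      hf.equivariant g a ha b hb hab, by simp [mul_assoc]⟩
  | one => simp
  | mul y z _ _ h1 h2 => rw [← conj_mul]; exact mul_mem h1 h2
  | inv y _ h1 => rw [← conj_inv]; exact inv_mem h1

omit hf in
theorem modGrp_le_commutator : modGrp D f ≤ commutator G := by
  refine (Subgroup.closure_le _).2 ?_
  rintro _ ⟨a, ha, b, hb, -, rfl⟩
  obtain ⟨g, rfl⟩ := hD.trans a ha b hb
  have : a * (g * a * g⁻¹) = a * g * a⁻¹ * g⁻¹ := by rw [hD.toTSet.inv_eq ha]; simp [mul_assoc]
  rw [this, ← commutatorElement_def]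
  exact Subgroup.commutator_mem_commutator (Subgroup.mem_top _) (Subgroup.mem_top _)

theorem modGrp_isSolvable [Finite G]
    (hK : ∀ x ∈ D, Group.IsSolvable ↥(pairGrp (cls D f x))) :
    Group.IsSolvable ↥(modGrp D f) := by
  obtain ⟨M, hMn, hMsol, hmax⟩ := exists_solvable_normal_max (G := ↥(modGrp D f))
  have hle : modGrp D f ≤ M.map (modGrp D f).subtype := by
    refine (Subgroup.closure_le _).2 ?_
    rintro _ ⟨a, ha, b, hb, hab, rfl⟩
    have := hK a ha
    have hle := hmax _ (subgroupOf_normal hD hf a) (Group.isSolvable_of_isSolvable_injective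
      (f := (Subgroup.subgroupOfEquivOfLe (pairGrp_le (D := D) (f := f) a)).toMonoidHom)
      (Subgroup.subgroupOfEquivOfLe (pairGrp_le (D := D) (f := f) a)).injective)
    have hm : a * b ∈ pairGrp (cls D f a) := mul_mem_pairGrp ⟨ha, rfl⟩ ⟨hb, hab.symm⟩
    exact ⟨⟨a * b, pairGrp_le a hm⟩, hle hm, rfl⟩
  have htop : M = ⊤ := eq_top_iff.2 fun z _ => by
    obtain ⟨w, hw, hwz⟩ := hle z.2
    rwa [← Subtype.ext (a1 := w) (a2 := z) hwz]
  subst htop
  exact Group.isSolvable_of_surjective
    (f := (Subgroup.topEquiv : (⊤ : Subgroup ↥(modGrp D f)) ≃* _).toMonoidHom)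
    Subgroup.topEquiv.surjective

/-- With no solvable normal subgroup in the derived group the classes are singletons. -/
theorem trivial_of_solvable [Finite G]
    (hsol : ∀ N : Subgroup G, N.Normal → Group.IsSolvable ↥N → N ≤ commutator G → N = ⊥)
    (hK : ∀ x ∈ D, Group.IsSolvable ↥(pairGrp (cls D f x))) {a b : G} (ha : a ∈ D) (hb : b ∈ D)
    (hab : f a = f b) : a = b := by
  have := hsol _ (modGrp_normal hD hf) (modGrp_isSolvable hD hf hK) (modGrp_le_commutator hD)
  have h1 : a * b ∈ modGrp D f := Subgroup.subset_closure ⟨a, ha, b, hb, hab, rfl⟩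
  rw [this, Subgroup.mem_bot] at h1
  rw [← inv_eq_of_mul_eq_one_right h1, hD.toTSet.inv_eq ha]

/-! ### A class commuting with another class has solvable pair group. -/

/-- Conjugation action of the module group on a class. -/
noncomputable def clsHom (x : G) : ↥(modGrp D f) →* Equiv.Perm ↥(cls D f x) where
  toFun n :=
    { toFun := fun y => ⟨n * y * (n : G)⁻¹, conj_mem_cls hD hf n.2 y.2⟩
      invFun := fun y => ⟨(n : G)⁻¹ * y * (n : G)⁻¹⁻¹, conj_mem_cls hD hf (inv_mem n.2) y.2⟩
      left_inv := fun y => Subtype.ext (by simp [mul_assoc])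
      right_inv := fun y => Subtype.ext (by simp [mul_assoc]) }
  map_one' := Equiv.ext fun y => Subtype.ext (by simp)
  map_mul' m n := Equiv.ext fun y => Subtype.ext (by simp [mul_assoc])

theorem clsHom_apply (x : G) (n : ↥(modGrp D f)) (y : ↥(cls D f x)) :
    ((clsHom hD hf x n y : ↥(cls D f x)) : G) = n * y * (n : G)⁻¹ := rfl

/-- Explicit transitivity of the pair group of an adjacent class. -/
theorem cls_transitive {x z : G} (hx : x ∈ D) (hz : z ∈ D) (hxz : ¬Commute x z)
    (hne : f x ≠ f z) {y : G} (hy : y ∈ cls D f x) :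
    ∃ w ∈ cls D f z, z * w * x * (z * w)⁻¹ = y := by
  have hT := hD.toTSet
  have hn : x * y ∈ modGrp D f := Subgroup.subset_closure ⟨x, hx, y, hy.1, hy.2.symm, rfl⟩
  refine ⟨x * y * z * (x * y)⁻¹, conj_mem_cls hD hf hn ⟨hz, rfl⟩, ?_⟩
  have hyz : ¬Commute y z := fun h => hxz ((hf.uniform x hx y hy.1 z hz hy.2.symm hne).2 h)
  set w := x * y * z * (x * y)⁻¹ with hw
  have hwD : w ∈ D := hD.conj (x * y) z hz
  have hw' : w = x * (y * z * y) * x := by
    rw [hw, mul_inv_rev, hT.inv_eq hx, hT.inv_eq hy.1]; simp only [mul_assoc]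
  have hxw : ¬Commute x w := by
    intro h
    have := hf.uniform z hz w hwD x hx (conj_mem_cls hD hf hn ⟨hz, rfl⟩).2.symm (Ne.symm hne)
    exact hxz (this.2 h.symm).symm
  rw [mul_inv_rev, hT.inv_eq hwD, hT.inv_eq hz,
    show z * w * x * (w * z) = z * (w * x * w) * z by simp only [mul_assoc],
    hT.braid hwD hx fun h => hxw h.symm, hw', invol_conj_invol (hD.sq x hx),
    hT.braid hy.1 hz hyz, invol_conj_invol (hD.sq z hz)]

theorem adjacent_class_data {x u z : G} (hx : x ∈ D) (hu : u ∈ D) (hz : z ∈ D)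
    (hxu : Commute x u) (hne : f x ≠ f u) (hzx : ¬Commute z x) (hzu : ¬Commute z u) :
    f x ≠ f z ∧ ∃ l ∈ D, Commute l z ∧ ¬Commute x l ∧ f x ≠ f l ∧ f z ≠ f l := by
  have hT := hD.toTSet
  have hxz : f x ≠ f z := fun h => hzu ((hf.uniform x hx z hz u hu h hne).1 hxu)
  refine ⟨hxz, ?_⟩
  set t := z * x * z with ht
  have htD : t ∈ D := hT.conj_mem hz hx
  have htx : ¬Commute t x := (hT.not_commute_third hz hx hzx).2
  have htz : ¬Commute t z := (hT.not_commute_third hz hx hzx).1
  refine ⟨u * t * u, hT.conj_mem hu htD, ?_, ?_, ?_, ?_⟩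
  · rw [commute_invol_conj_left (hD.sq u hu), hT.braid hu hz fun h => hzu h.symm, ht,
      commute_invol_conj (hD.sq z hz)]
    exact hxu
  · intro h
    rw [Commute.symm_iff, commute_invol_conj_left (hD.sq u hu),
      invol_conj_eq_of_commute (hD.sq u hu) hxu.symm] at h
    exact htx h
  · intro h
    have h1 : Commute (u * t * u) z := by
      rw [commute_invol_conj_left (hD.sq u hu), hT.braid hu hz fun h => hzu h.symm, ht,
        commute_invol_conj (hD.sq z hz)]
      exact hxu
    exact hzx ((hf.uniform x hx _ (hT.conj_mem hu htD) z hz h hxz).2 h1).symm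
  · intro h
    have h1 := hf.equivariant u z hz _ (hT.conj_mem hu htD) h
    rw [hT.inv_eq hu, invol_conj_invol (hD.sq u hu), hT.braid hu hz fun h => hzu h.symm] at h1
    have h2 := hf.equivariant z _ (hT.conj_mem hz hu) _ htD h1
    rw [hT.inv_eq hz, ht, invol_conj_invol (hD.sq z hz), invol_conj_invol (hD.sq z hz)] at h2
    exact hne h2.symm

theorem image_solvable [Finite G] {x u z : G} (hx : x ∈ D) (hu : u ∈ D) (hz : z ∈ D)
    (hxu : Commute x u) (hne : f x ≠ f u) (hzx : ¬Commute z x) (hzu : ¬Commute z u) :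
    Group.IsSolvable ↥(((pairGrp (cls D f z)).subgroupOf (modGrp D f)).map (clsHom hD hf x)) := by
  obtain ⟨hxz, l, hl, hlz, hxl, hfxl, hfzl⟩ :=
    adjacent_class_data hD hf hx hu hz hxu hne hzx hzu
  set A := ((pairGrp (cls D f z)).subgroupOf (modGrp D f)).map (clsHom hD hf x)
  let x0 : ↥(cls D f x) := ⟨x, hx, rfl⟩
  -- products over commuting classes commute
  have hcomm : ∀ a ∈ cls D f z, ∀ b ∈ cls D f l, Commute a b := by
    intro a ha b hb
    have h1 : Commute z b := ((hf.uniform l hl b hb.1 z hz hb.2.symm (Ne.symm hfzl)).1 hlz).symm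
    exact (hf.uniform a ha.1 z hz b hb.1 ha.2 (by rw [ha.2, hb.2]; exact hfzl)).2 h1
  have hfree : ∀ a ∈ A, a x0 = x0 → a = 1 := by
    rintro _ ⟨m, hm, rfl⟩ hfix
    refine Equiv.ext fun y => ?_
    obtain ⟨w, hw, hwy⟩ := cls_transitive hD hf hx hl hxl hfxl y.2
    let b : ↥(modGrp D f) := ⟨l * w, pairGrp_le l (mul_mem_pairGrp ⟨hl, rfl⟩ hw)⟩
    have hy : clsHom hD hf x b x0 = y := Subtype.ext hwy
    have hmb : Commute (m : G) (b : G) := by
      suffices H : ∀ g ∈ pairGrp (cls D f z), Commute g (b : G) from H _ hm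
      intro g hg
      unfold pairGrp at hg
      induction hg using Subgroup.closure_induction with
      | mem g hg =>
        obtain ⟨a, ha, a', ha', rfl⟩ := hg
        exact ((hcomm a ha l ⟨hl, rfl⟩).mul_right (hcomm a ha w hw)).mul_left
          ((hcomm a' ha' l ⟨hl, rfl⟩).mul_right (hcomm a' ha' w hw))
      | one => exact Commute.one_left _
      | mul g g' _ _ h1 h2 => exact h1.mul_left h2
      | inv g _ h1 => exact h1.inv_left
    have hmb' : m * b = b * m := Subtype.ext hmb
    rw [← hy, ← Equiv.Perm.mul_apply, ← map_mul, hmb', map_mul, Equiv.Perm.mul_apply, hfix]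
    rfl
  refine isSolvable_of_orders_le_three fun a => ?_
  obtain ⟨w, hw, hwy⟩ := cls_transitive hD hf hx hz (fun h => hzx h.symm) hxz (y := (a.1 x0).1)
    (a.1 x0).2
  let n : ↥(modGrp D f) := ⟨z * w, pairGrp_le z (mul_mem_pairGrp ⟨hz, rfl⟩ hw)⟩
  have hnA : clsHom hD hf x n ∈ A :=
    ⟨n, mul_mem_pairGrp ⟨hz, rfl⟩ hw, rfl⟩
  have heq : a.1 = clsHom hD hf x n := by
    have h1 := hfree _ (mul_mem (inv_mem hnA) a.2) (by
      rw [Equiv.Perm.mul_apply, Equiv.Perm.inv_def, Equiv.symm_apply_eq]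
      exact Subtype.ext hwy.symm)
    rw [inv_mul_eq_one] at h1
    exact h1.symm
  rcases hD.ord z hz w hw.1 with h | h
  · left
    apply Subtype.ext
    rw [SubmonoidClass.coe_pow, heq, ← map_pow, show n ^ 2 = 1 from Subtype.ext h, map_one]
    rfl
  · right
    apply Subtype.ext
    rw [SubmonoidClass.coe_pow, heq, ← map_pow, show n ^ 3 = 1 from Subtype.ext h, map_one]
    rfl

/-- A class commuting with a different class has solvable pair group. -/
theorem pairGrp_isSolvable [Finite G] {x u : G} (hx : x ∈ D) (hu : u ∈ D)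
    (hxu : Commute x u) (hne : f x ≠ f u) : Group.IsSolvable ↥(pairGrp (cls D f x)) := by
  have hT := hD.toTSet
  obtain ⟨z, hz, hzx, hzu⟩ := hD.exists_common_nonCommute hx hu (fun h => hne (h ▸ rfl)) hxu
  set t := z * x * z with ht
  have htD : t ∈ D := hT.conj_mem hz hx
  have htx : ¬Commute t x := (hT.not_commute_third hz hx hzx).2
  have htu : ¬Commute t u := by
    rw [ht, hT.braid hz hx hzx, hT.commute_third_iff hx hxu]
    exact hzu
  let φ := clsHom hD hf x
  let R := φ.range
  let imgL := ((pairGrp (cls D f z)).subgroupOf (modGrp D f)).map φ.rangeRestrict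
  let imgT := ((pairGrp (cls D f t)).subgroupOf (modGrp D f)).map φ.rangeRestrict
  have hLn : imgL.Normal := (subgroupOf_normal hD hf z).map _ φ.rangeRestrict_surjective
  have hTn : imgT.Normal := (subgroupOf_normal hD hf t).map _ φ.rangeRestrict_surjective
  have conv : ∀ S : Subgroup ↥(modGrp D f), Group.IsSolvable ↥(S.map φ) →
      Group.IsSolvable ↥(S.map φ.rangeRestrict) := by
    intro S hS
    have e : (S.map φ.rangeRestrict).map φ.range.subtype = S.map φ := by
      rw [Subgroup.map_map]; rfl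
    let j : ↥(S.map φ.rangeRestrict) →* ↥(S.map φ) :=
      (φ.range.subtype.comp (S.map φ.rangeRestrict).subtype).codRestrict _ fun w =>
        e ▸ ⟨w.1, w.2, rfl⟩
    exact Group.isSolvable_of_isSolvable_injective (f := j) fun a b h =>
      Subtype.ext (Subtype.ext (congrArg Subtype.val h :))
  have := conv _ (image_solvable hD hf hx hu hz hxu hne hzx hzu)
  have := conv _ (image_solvable hD hf hx hu htD hxu hne htx htu)
  have hsup : Group.IsSolvable ↥(imgT ⊔ imgL) := isSolvable_sup imgT imgL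
  let K := (pairGrp (cls D f x)).subgroupOf (modGrp D f)
  have hxz : f x ≠ f z := fun h => hzu ((hf.uniform x hx z hz u hu h hne).1 hxu)
  have hKle : K.map φ.rangeRestrict ≤ imgT ⊔ imgL := by
    have hgen : pairGrp (cls D f x) ≤
        ((imgT ⊔ imgL).comap φ.rangeRestrict).map (modGrp D f).subtype := by
      have key : ∀ y ∈ cls D f x,
          x * y ∈ ((imgT ⊔ imgL).comap φ.rangeRestrict).map (modGrp D f).subtype := by
        intro y hy
        obtain ⟨w, hw, hwy⟩ := cls_transitive hD hf hx hz (fun h => hzx h.symm) hxz hy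
        have e : x * y = ((x * z * x) * (x * w * x)) * (w * z) := by
          rw [← hwy, mul_inv_rev, hT.inv_eq hw.1, hT.inv_eq hz]
          simp only [mul_assoc, invol_cancel (hD.sq x hx)]
        have ht' : x * z * x = t := by rw [ht, hT.braid hz hx hzx]
        have hwt : x * w * x ∈ cls D f t := by
          refine ⟨hT.conj_mem hx hw.1, ?_⟩
          have := hf.equivariant x w hw.1 z hz hw.2
          rwa [hT.inv_eq hx, ht'] at this
        have m1 : (x * z * x) * (x * w * x) ∈ pairGrp (cls D f t) := by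
          rw [ht']; exact mul_mem_pairGrp ⟨htD, rfl⟩ hwt
        have m2 : w * z ∈ pairGrp (cls D f z) := mul_mem_pairGrp hw ⟨hz, rfl⟩
        rw [e]
        exact ⟨⟨_, pairGrp_le t m1⟩ * ⟨_, pairGrp_le z m2⟩, by
          show φ.rangeRestrict _ ∈ imgT ⊔ imgL
          rw [map_mul]
          exact Subgroup.mul_mem_sup ⟨_, m1, rfl⟩ ⟨_, m2, rfl⟩, rfl⟩
      refine (Subgroup.closure_le _).2 ?_
      rintro _ ⟨a, ha, b, hb, rfl⟩
      have : a * b = (x * a)⁻¹ * (x * b) := by
        rw [mul_inv_rev, hT.inv_eq ha.1, hT.inv_eq hx]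
        simp only [mul_assoc, invol_cancel (hD.sq x hx)]
      rw [this]
      exact mul_mem (inv_mem (key a ha)) (key b hb)
    rintro _ ⟨k, hk, rfl⟩
    obtain ⟨k', hk', he⟩ := hgen (show (k : G) ∈ pairGrp (cls D f x) from hk)
    rwa [← Subtype.ext (a1 := k') (a2 := k) he]
  have hKsol : Group.IsSolvable ↥(K.map φ.rangeRestrict) :=
    Group.isSolvable_of_isSolvable_injective (f := Subgroup.inclusion hKle)
      (Subgroup.inclusion_injective hKle)
  -- the kernel is central
  let ψ : ↥K →* ↥(K.map φ.rangeRestrict) := φ.rangeRestrict.subgroupMap K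
  have hker : Group.IsSolvable ψ.ker := Group.isSolvable_of_comm fun a b => by
    apply Subtype.ext; apply Subtype.ext; apply Subtype.ext
    show ((a : ↥K) : ↥(modGrp D f)).1 * ((b : ↥K) : ↥(modGrp D f)).1 = _
    have ha : ∀ y ∈ cls D f x, Commute ((a : ↥K) : ↥(modGrp D f)).1 y := by
      intro y hy
      have h0 : φ.rangeRestrict ((a : ↥K) : ↥(modGrp D f)) = 1 := congrArg Subtype.val a.2
      have h1 : φ ((a : ↥K) : ↥(modGrp D f)) = 1 := congrArg Subtype.val h0
      have h2 := congrArg (fun σ : Equiv.Perm ↥(cls D f x) => ((σ ⟨y, hy⟩ : ↥(cls D f x)) : G)) h1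
      exact mul_inv_eq_iff_eq_mul.1 h2
    have : pairGrp (cls D f x) ≤ Subgroup.centralizer {((a : ↥K) : ↥(modGrp D f)).1} := by
      refine (Subgroup.closure_le _).2 ?_
      rintro _ ⟨p, hp, q, hq, rfl⟩
      exact Subgroup.mem_centralizer_singleton_iff.2 ((ha p hp).mul_right (ha q hq)).eq.symm
    exact (Subgroup.mem_centralizer_singleton_iff.1 (this (b : ↥K).2)).symm
  have hKK : Group.IsSolvable ↥K :=
    Group.isSolvable_of_ker_le_range ψ.ker.subtype ψ (by simp)
  exact Group.isSolvable_of_surjective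
    (f := (Subgroup.subgroupOfEquivOfLe (pairGrp_le (D := D) (f := f) x)).toMonoidHom)
    (Subgroup.subgroupOfEquivOfLe (pairGrp_le (D := D) (f := f) x)).surjective

end IsModule

/-- Main module theorem. -/
theorem IsModule.eq_of_label_eq [Finite G] {D : Set G} {f : G → α} (hD : TClass D)
    (hf : IsModule D f)
    (hsol : ∀ N : Subgroup G, N.Normal → Group.IsSolvable ↥N → N ≤ commutator G → N = ⊥)
    (hex : ∀ x ∈ D, (∃ u ∈ D, Commute x u ∧ f x ≠ f u) ∨
      ∀ a ∈ cls D f x, ∀ b ∈ cls D f x, Commute a b)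
    {a b : G} (ha : a ∈ D) (hb : b ∈ D) (hab : f a = f b) : a = b := by
  refine hf.trivial_of_solvable hD hsol (fun x hx => ?_) ha hb hab
  rcases hex x hx with ⟨u, hu, hxu, hne⟩ | h
  · exact hf.pairGrp_isSolvable hD hx hu hxu hne
  · exact pairGrp_isSolvable_of_commute h

end Cfsg.Agent.Fischer
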