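import Cfsg.Agent.Lib.Fischer.Cores
import Cfsg.Agent.Lib.Fischer.CommutingGraph
import Cfsg.Agent.Lib.Components.GenFitting

/-!
Structure of a group generated by a class of 3-transpositions: when `O_2` and `O_3` are central
there is exactly one component, it is normal, and modulo it commuting members are equal.
-/

set_option autoImplicit false

namespace Cfsg.Agent.Fischer

open scoped commutatorElement
open Cfsg.Agent.Components

variable {G : Type*} [Group G] {D : Set G}

/-- The orbit of `d` under a subgroup. -/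
def orb (E : Subgroup G) (d : G) : Set G := {e | ∃ g ∈ E, g * d * g⁻¹ = e}

theorem mem_orb_self (E : Subgroup G) (d : G) : d ∈ orb E d := ⟨1, one_mem _, by simp⟩

theorem commute_orb_iff {E : Subgroup G} {d : G} {P : G → Prop}
    (h : ∀ g ∈ E, P (g * d * g⁻¹)) {a b : G} (ha : a ∈ orb E d) (hb : b ∈ orb E d) :
    ∃ k : G, P k ∧ ∃ g : G, g * d * g⁻¹ = a ∧ g * k * g⁻¹ = b := by
  obtain ⟨g, hg, rfl⟩ := ha
  obtain ⟨g', hg', rfl⟩ := hb
  exact ⟨_, h _ (mul_mem (inv_mem hg) hg'), g, rfl, by simp [mul_assoc]⟩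

section

variable [Finite G] (hD : TSet D)
include hD

theorem pairGrp_orb_le {E : Subgroup G} {d : G} (hd : d ∈ D) (hn : ∀ g ∈ E, d * g * d ∈ E) :
    pairGrp (orb E d) ≤ E := by
  refine (Subgroup.closure_le _).2 ?_
  rintro _ ⟨_, ⟨g, hg, rfl⟩, _, ⟨k, hk, rfl⟩, rfl⟩
  rw [show g * d * g⁻¹ * (k * d * k⁻¹) = g * (d * (g⁻¹ * k) * d) * k⁻¹ by simp [mul_assoc]]
  exact mul_mem (mul_mem hg (hn _ (mul_mem (inv_mem hg) hk))) (inv_mem hk)

omit [Finite G] in
theorem pairGrp_orb_normalized {E : Subgroup G} {d : G} (_hd : d ∈ D) :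
    E ≤ Subgroup.normalizer (pairGrp (orb E d) : Set G) := by
  have key : ∀ g ∈ E, ∀ z ∈ pairGrp (orb E d), g * z * g⁻¹ ∈ pairGrp (orb E d) := by
    intro g hg z hz
    unfold pairGrp at hz ⊢
    induction hz using Subgroup.closure_induction with
    | mem z hz =>
      obtain ⟨_, ⟨a, ha, rfl⟩, _, ⟨b, hb, rfl⟩, rfl⟩ := hz
      exact Subgroup.subset_closure ⟨_, ⟨g * a, mul_mem hg ha, rfl⟩, _,
        ⟨g * b, mul_mem hg hb, rfl⟩, by simp [mul_assoc]⟩
    | one => simp
    | mul y z _ _ h1 h2 => rw [← conj_mul]; exact mul_mem h1 h2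
    | inv y _ h1 => rw [← conj_inv]; exact inv_mem h1
  intro g hg
  rw [Subgroup.mem_normalizer_iff]
  refine fun z => ⟨key g hg z, fun hz => ?_⟩
  have := key g⁻¹ (inv_mem hg) _ hz
  simpa [mul_assoc] using this

omit [Finite G] in
/-- If a perfect subgroup centralises the products of two members of the orbit, it centralises
`d`. -/
theorem commute_of_pairGrp_central {E : Subgroup G} (hperf : ⁅E, E⁆ = E) {d : G} (hd : d ∈ D)
    (hn : ∀ g ∈ E, d * g * d ∈ E) (hM : ∀ g ∈ E, ∀ z ∈ pairGrp (orb E d), Commute g z) :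
    ∀ g ∈ E, Commute d g := by
  let m : G → G := fun g => d * g * d * g⁻¹
  have hmM : ∀ g ∈ E, m g ∈ pairGrp (orb E d) := fun g hg =>
    Subgroup.subset_closure ⟨d, mem_orb_self E d, _, ⟨g, hg, rfl⟩, by simp [m, mul_assoc]⟩
  have hmE : ∀ g ∈ E, m g ∈ E := fun g hg => mul_mem (hn g hg) (inv_mem hg)
  have hmul : ∀ g ∈ E, ∀ k ∈ E, m (g * k) = m g * m k := by
    intro g hg k hk
    have h1 : g * m k * g⁻¹ = m k := by
      rw [(hM g hg _ (hmM k hk)).eq, mul_inv_cancel_right]
    conv_rhs => rw [← h1]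
    simp [m, mul_assoc, invol_cancel (hD.sq d hd)]
  have hinv : ∀ g ∈ E, m g⁻¹ = (m g)⁻¹ := by
    intro g hg
    refine eq_inv_of_mul_eq_one_left ?_
    rw [← hmul _ (inv_mem hg) _ hg, inv_mul_cancel]
    simp [m, hD.sq d hd]
  let K : Subgroup G :=
    { carrier := {g | g ∈ E ∧ m g = 1}
      one_mem' := ⟨one_mem _, by simp [m, hD.sq d hd]⟩
      mul_mem' := fun {a b} ha hb => ⟨mul_mem ha.1 hb.1, by rw [hmul a ha.1 b hb.1, ha.2, hb.2, one_mul]⟩
      inv_mem' := fun {a} ha => ⟨inv_mem ha.1, by rw [hinv a ha.1, ha.2, inv_one]⟩ }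
  have hle : E ≤ K := by
    conv_lhs => rw [← hperf]
    rw [Subgroup.commutator_le]
    intro a ha b hb
    have hc : Commute (m a) (m b) := hM _ (hmE a ha) _ (hmM b hb)
    refine ⟨by rw [commutatorElement_def];
               exact mul_mem (mul_mem (mul_mem ha hb) (inv_mem ha)) (inv_mem hb), ?_⟩
    rw [commutatorElement_def, hmul _ (mul_mem (mul_mem ha hb) (inv_mem ha)) _ (inv_mem hb),
      hmul _ (mul_mem ha hb) _ (inv_mem ha), hmul a ha b hb, hinv a ha, hinv b hb, hc.eq,
      mul_inv_cancel_right, mul_inv_cancel]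
  intro g hg
  have := (hle hg).2
  have h2 : d * g * d = g := mul_inv_eq_one.1 this
  calc d * g = d * g * d * d := by rw [mul_assoc (d * g), hD.sq d hd, mul_one]
    _ = g * d := by rw [h2]

/-- A perfect subgroup of the layer in which all conjugates of `d` commute, or no two different
ones do, centralises `d`. -/
theorem commute_of_orb {E : Subgroup G} (hE : E.IsSubnormal) (hperf : ⁅E, E⁆ = E)
    (hlay : E ≤ Cfsg.layer G) {d : G} (hd : d ∈ D) (hn : ∀ g ∈ E, d * g * d ∈ E)
    (h : (∀ g ∈ E, Commute d (g * d * g⁻¹)) ∨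
      ∀ g ∈ E, Commute d (g * d * g⁻¹) → g * d * g⁻¹ = d) :
    ∀ g ∈ E, Commute d g := by
  have hsub : orb E d ⊆ D := by rintro _ ⟨g, -, rfl⟩; exact hD.conj g d hd
  have hsol : Group.IsSolvable ↥(pairGrp (orb E d)) := by
    rcases h with h | h
    · have : Fact (Nat.Prime 2) := ⟨Nat.prime_two⟩
      have hc : ∀ a ∈ orb E d, ∀ b ∈ orb E d, Commute a b := by
        intro a ha b hb
        obtain ⟨k, hk, g, rfl, rfl⟩ := commute_orb_iff (P := fun k => Commute d k) h ha hb
        exact hk.conj g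
      have := (pairGrp_isPGroup_two (fun a ha => hD.sq a (hsub ha)) hc).isNilpotent
      infer_instance
    · have : Fact (Nat.Prime 3) := ⟨Nat.prime_three⟩
      have hcl : ∀ a ∈ orb E d, ∀ b ∈ orb E d, a * b * a ∈ orb E d := by
        rintro _ ⟨g, hg, rfl⟩ _ ⟨k, hk, rfl⟩
        refine ⟨g * (d * (g⁻¹ * k) * d), mul_mem hg (hn _ (mul_mem (inv_mem hg) hk)), ?_⟩
        simp [mul_assoc, hD.inv_eq hd]
        simp [← mul_assoc, hD.sq d hd]
      have hw : ∀ a ∈ orb E d, ∀ b ∈ orb E d, Commute a b → a = b := by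
        intro a ha b hb
        obtain ⟨k, hk, g, rfl, rfl⟩ :=
          commute_orb_iff (P := fun k => Commute d k → k = d) h ha hb
        intro hc
        rw [hk ((Commute.conj_iff g).1 hc)]
      have := (pairGrp_isPGroup_of_closed hD hsub hcl hw).isNilpotent
      infer_instance
  have hle := pairGrp_orb_le hD hd hn
  have hc := commutator_layer_eq_bot_of_isSolvable
    (isSubnormal_of_normalized hE hle (pairGrp_orb_normalized hD hd))
  refine commute_of_pairGrp_central hD hperf hd hn fun g hg z hz => ?_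
  rw [← commutatorElement_eq_one_iff_commute, ← Subgroup.mem_bot, ← hc]
  exact Subgroup.commutator_mem_commutator (hlay hg) hz

end

section

variable (hD : TClass D)
include hD

theorem eq_top_of_mem_center {g : G} (h : ∀ d ∈ D, Commute d g) : g ∈ Subgroup.center G := by
  refine Subgroup.mem_center_iff.2 fun k => ?_
  have hle : Subgroup.closure D ≤ Subgroup.centralizer ({g} : Set G) :=
    (Subgroup.closure_le _).2 fun y hy => Subgroup.mem_centralizer_singleton_iff.2 (h y hy).eq
  exact Subgroup.mem_centralizer_singleton_iff.1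
    (hle (show k ∈ Subgroup.closure D by rw [hD.gen]; trivial))

theorem le_center_of_commute {N : Subgroup G} [hN : N.Normal] {d : G} (hd : d ∈ D)
    (h : ∀ g ∈ N, Commute d g) : N ≤ Subgroup.center G := by
  intro g hg
  refine eq_top_of_mem_center hD fun e he => ?_
  obtain ⟨k, rfl⟩ := hD.trans d hd e he
  have := (h _ (hN.conj_mem g hg k⁻¹)).conj k
  simpa [mul_assoc] using this

theorem exists_not_commute_of_not_le_center {N : Subgroup G} [N.Normal]
    (h : ¬N ≤ Subgroup.center G) {d : G} (hd : d ∈ D) : ∃ g ∈ N, ¬Commute d g := by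
  by_contra hc
  push Not at hc
  exact h (le_center_of_commute hD hd hc)

theorem normal_of_invariant {K : Subgroup G} (h : ∀ d ∈ D, ∀ g ∈ K, d * g * d ∈ K) : K.Normal :=
  ⟨fun g hg k => conj_mem_of_gen hD.gen hD.sq h k g hg⟩

theorem component_not_le_center {K : Subgroup G} (hK : IsComponent K) :
    ¬K ≤ Subgroup.center G := by
  intro h
  have _ := hD
  exact IsComponent.not_isSolvable hK (Group.isSolvable_of_comm fun a b =>
    Subtype.ext (Subgroup.mem_center_iff.1 (h b.2) a))

variable [Finite G]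

/-- For `p > 3` the largest normal `p`-subgroup is central. -/
theorem pCore_le_center_of_gt_three {p : ℕ} (hp : p.Prime) (hp3 : 3 < p) :
    Cfsg.pCore p G ≤ Subgroup.center G := by
  obtain ⟨d, hd⟩ := hD.nonempty
  haveI := Fact.mk hp
  refine le_center_of_commute hD hd fun x hx => ?_
  have hn := hD.toTSet.inv_eq hd
  have hy : d * (x * d * x⁻¹) ∈ Cfsg.pCore p G := by
    have := mul_mem ((PCore.pCore_normal (p := p) (G := G)).conj_mem x hx d) (inv_mem hx)
    rwa [hn, show d * x * d * x⁻¹ = d * (x * d * x⁻¹) by group] at this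
  have h1 : d * (x * d * x⁻¹) = 1 := by
    rcases hD.ord d hd _ (hD.conj x d hd) with h | h
    · exact eq_one_of_pow_of_isPGroup PCore.isPGroup_pCore hy
        ((Nat.coprime_primes hp Nat.prime_two).2 (by omega)) h
    · exact eq_one_of_pow_of_isPGroup PCore.isPGroup_pCore hy
        ((Nat.coprime_primes hp Nat.prime_three).2 (by omega)) h
  rw [mul_eq_one_iff_inv_eq, hn, eq_mul_inv_iff_mul_eq] at h1
  exact h1

theorem eq_of_mul_central (hD2 : ∃ a ∈ D, ∃ b ∈ D, a ≠ b) {a b : G} (ha : a ∈ D) (hb : b ∈ D)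
    (h : a * b ∈ Subgroup.center G) : a = b := by
  have hab : Commute a b := by
    have h1 := Subgroup.mem_center_iff.1 h a
    rw [← mul_assoc, hD.sq a ha, one_mul] at h1
    calc a * b = a * (a * b * a) := by rw [← h1]
      _ = b * a := by simp only [mul_assoc, invol_cancel (hD.sq a ha)]
  obtain ⟨z, hz, hza⟩ := exists_not_commute hD hD2 ha
  have hzb : ¬Commute z b := fun k => by
    have h2 : Commute z (a * b) := Subgroup.mem_center_iff.1 h z
    have := h2.mul_right k
    rw [mul_assoc, hD.sq b hb, mul_one] at this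
    exact hza this
  obtain ⟨g, hg, rfl⟩ := exists_conj_pCore_two hD.toTSet ha hb hz h hab hza hzb
  exact ((mul_inv_eq_iff_eq_mul).2 (Subgroup.mem_center_iff.1 hg a).symm).symm

/-- A non-central `O_2` excludes components. -/
theorem layer_eq_bot_of_two (h2 : ¬Cfsg.pCore 2 G ≤ Subgroup.center G) : Cfsg.layer G = ⊥ := by
  have : Fact (Nat.Prime 2) := ⟨Nat.prime_two⟩
  have hT := hD.toTSet
  obtain ⟨d, hd⟩ := hD.nonempty
  obtain ⟨u, hu, hdu⟩ := exists_not_commute_of_not_le_center hD h2 hd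
  set v := u * d * u⁻¹ with hv
  have hvD : v ∈ D := hD.conj u d hd
  set w := d * v with hw
  have hwO : w ∈ Cfsg.pCore 2 G := by
    rw [hw, hv, show d * (u * d * u⁻¹) = (d * u * d⁻¹) * u⁻¹ by rw [hT.inv_eq hd]; group]
    exact mul_mem (PCore.pCore_normal.conj_mem u hu d) (inv_mem hu)
  have hvd : Commute d v := (commute_of_mul_mem_pCore_two hT hd hvD hd hwO (Commute.refl d)).symm
  have hwne : w ≠ 1 := fun h => hdu (by
    rw [hw, mul_eq_one_iff_inv_eq, hT.inv_eq hd, hv, eq_mul_inv_iff_mul_eq] at h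
    exact h)
  have hwsq : w * w = 1 := by
    rw [hw, show d * v * (d * v) = d * (v * d) * v by group, ← hvd.eq]
    simp [mul_assoc, hD.sq v hvD, hD.sq d hd]
  have hdw : Commute d w := (Commute.refl d).mul_right hvd
  by_contra hne
  have : Group.IsNilpotent (Cfsg.pCore 2 G) := PCore.isPGroup_pCore.isNilpotent
  have hc := commutator_layer_eq_bot_of_isSolvable (G := G)
    (U := Cfsg.pCore 2 G) (Subgroup.Normal.isSubnormal PCore.pCore_normal)
  have hEw : ∀ g ∈ Cfsg.layer G, Commute g w := fun g hg => by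
    rw [← commutatorElement_eq_one_iff_commute, ← Subgroup.mem_bot, ← hc]
    exact Subgroup.commutator_mem_commutator hg hwO
  have hEn : (Cfsg.layer G).Normal := inferInstance
  have hcomm : ∀ g ∈ Cfsg.layer G, Commute d (g * d * g⁻¹) := by
    intro g hg
    by_contra hnc
    set e := g * d * g⁻¹ with he
    have heD : e ∈ D := hD.conj g d hd
    have h3 : (d * e) ^ 3 = 1 := (hD.ord d hd e heD).resolve_left
      fun h => hnc (hT.commute_of_sq hd heD h)
    have hew : Commute e w := ((hEw g hg).mul_left hdw).mul_left (hEw g hg).inv_left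
    have e1 : v * e = w * (d * e) := by
      rw [show v = w * d by rw [hdw.symm.eq, hw, invol_cancel (hD.sq d hd)], mul_assoc]
    have hwde : Commute w (d * e) := hdw.symm.mul_right hew.symm
    rcases hD.ord v hvD e heD with h | h
    · rw [e1, hwde.mul_pow, pow_two, hwsq, one_mul] at h
      exact hnc (hT.commute_of_sq hd heD h)
    · rw [e1, hwde.mul_pow, h3, mul_one, pow_succ, pow_two, hwsq, one_mul] at h
      exact hwne h
  have h := commute_of_orb hT hEn.isSubnormal commutator_layer_self le_rfl hd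
    (fun g hg => by have := hEn.conj_mem g hg d; rwa [hT.inv_eq hd] at this) (Or.inl hcomm)
  obtain ⟨K, hK⟩ := not_not.1 fun h => hne (layer_eq_bot_iff.2 h)
  exact component_not_le_center hD hK ((IsComponent.le_layer hK).trans (le_center_of_commute hD hd h))

/-- A non-central `O_3` excludes components. -/
theorem layer_eq_bot_of_three (h3 : ¬Cfsg.pCore 3 G ≤ Subgroup.center G) : Cfsg.layer G = ⊥ := by
  have : Fact (Nat.Prime 3) := ⟨Nat.prime_three⟩
  have hT := hD.toTSet
  obtain ⟨d, hd⟩ := hD.nonempty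
  obtain ⟨u, hu, hdu⟩ := exists_not_commute_of_not_le_center hD h3 hd
  set v := u * d * u⁻¹ with hv
  have hvD : v ∈ D := hD.conj u d hd
  set w := d * v with hw
  have hwO : w ∈ Cfsg.pCore 3 G := by
    rw [hw, hv, show d * (u * d * u⁻¹) = (d * u * d⁻¹) * u⁻¹ by rw [hT.inv_eq hd]; group]
    exact mul_mem (PCore.pCore_normal.conj_mem u hu d) (inv_mem hu)
  have hwne : w ≠ 1 := fun h => hdu (by
    rw [hw, mul_eq_one_iff_inv_eq, hT.inv_eq hd, hv, eq_mul_inv_iff_mul_eq] at h
    exact h)
  have hw2 : w ^ 2 ≠ 1 := fun h => hwne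
    (eq_one_of_pow_of_isPGroup PCore.isPGroup_pCore hwO (by norm_num) h)
  have hw3 : w ^ 3 = 1 := (hD.ord d hd v hvD).resolve_left hw2
  by_contra hne
  have : Group.IsNilpotent (Cfsg.pCore 3 G) := PCore.isPGroup_pCore.isNilpotent
  have hc := commutator_layer_eq_bot_of_isSolvable (G := G)
    (U := Cfsg.pCore 3 G) (Subgroup.Normal.isSubnormal PCore.pCore_normal)
  have hEw : ∀ g ∈ Cfsg.layer G, Commute g w := fun g hg => by
    rw [← commutatorElement_eq_one_iff_commute, ← Subgroup.mem_bot, ← hc]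
    exact Subgroup.commutator_mem_commutator hg hwO
  have hEn : (Cfsg.layer G).Normal := inferInstance
  have hEd : ∀ g ∈ Cfsg.layer G, d * g * d ∈ Cfsg.layer G := fun g hg => by
    have := hEn.conj_mem g hg d
    rwa [hT.inv_eq hd] at this
  have hcomm : ∀ g ∈ Cfsg.layer G, Commute d (g * d * g⁻¹) → g * d * g⁻¹ = d := by
    intro g hg hde
    set e := g * d * g⁻¹ with he
    have heD : e ∈ D := hD.conj g d hd
    have hdeE : d * e ∈ Cfsg.layer G := by
      rw [he, show d * (g * d * g⁻¹) = d * g * d * g⁻¹ by group]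
      exact mul_mem (hEd g hg) (inv_mem hg)
    have hc1 : Commute (d * e) w := hEw _ hdeE
    have h2 : (d * e) ^ 2 = 1 := by
      rw [hde.mul_pow, pow_two, pow_two, hD.sq d hd, hD.sq e heD, one_mul]
    have hdwd : d * w * d = w⁻¹ := by
      rw [hw, mul_inv_rev, hT.inv_eq hd, hT.inv_eq hvD, invol_cancel (hD.sq d hd)]
    have hewe : e * w * e = w⁻¹ := by
      calc e * w * e = d * ((d * e) * w) * e := by simp only [mul_assoc, invol_cancel (hD.sq d hd)]
        _ = d * (w * (d * e)) * e := by rw [hc1.eq]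
        _ = d * w * d := by simp only [mul_assoc, hD.sq e heD, mul_one]
        _ = w⁻¹ := hdwd
    have e2 : v * e = (d * e) * w⁻¹ := by
      rw [← hewe, show v = d * w by rw [hw, invol_cancel (hD.sq d hd)]]
      simp only [mul_assoc, invol_cancel (hD.sq e heD)]
    rcases hD.ord v hvD e heD with h | h
    · rw [e2, hc1.inv_right.mul_pow, h2, one_mul, inv_pow, inv_eq_one] at h
      exact absurd h hw2
    · rw [e2, hc1.inv_right.mul_pow, inv_pow, hw3, inv_one, mul_one, pow_succ, h2, one_mul] at h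
      rw [mul_eq_one_iff_inv_eq, hT.inv_eq hd] at h
      exact h.symm
  have h := commute_of_orb hT hEn.isSubnormal commutator_layer_self le_rfl hd hEd (Or.inr hcomm)
  obtain ⟨K, hK⟩ := not_not.1 fun h => hne (layer_eq_bot_iff.2 h)
  exact component_not_le_center hD hK ((IsComponent.le_layer hK).trans (le_center_of_commute hD hd h))

theorem fittingSubgroup_eq_center (h2 : Cfsg.pCore 2 G ≤ Subgroup.center G)
    (h3 : Cfsg.pCore 3 G ≤ Subgroup.center G) : Cfsg.fittingSubgroup G = Subgroup.center G := by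
  refine le_antisymm ?_ ?_
  · rw [fittingSubgroup_eq_iSup_pCore]
    refine iSup_le fun p => ?_
    have hp := Nat.prime_of_mem_primeFactors p.2
    rcases lt_or_ge 3 (p : ℕ) with h | h
    · exact pCore_le_center_of_gt_three hD hp h
    · have h1 := hp.two_le
      rcases (show (p : ℕ) = 2 ∨ (p : ℕ) = 3 by omega) with e | e <;> rw [e] <;> assumption
  · have : IsMulCommutative (Subgroup.center G) := inferInstance
    have : Group.IsNilpotent (Subgroup.center G) := isNilpotent_of_commutator_commutator (eq_bot_iff.2 ((Subgroup.commutator_mono (Subgroup.commutator_le_self _) le_rfl).trans (Subgroup.commutator_eq_bot_iff_le_centralizer.2 (fun g hg => Subgroup.mem_centralizer_iff.2 fun y hy => (Subgroup.mem_center_iff.1 hy g).symm)).le))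
    exact le_fittingSubgroup inferInstance

theorem layer_ne_bot (hD2 : ∃ a ∈ D, ∃ b ∈ D, a ≠ b) (h2 : Cfsg.pCore 2 G ≤ Subgroup.center G)
    (h3 : Cfsg.pCore 3 G ≤ Subgroup.center G) : Cfsg.layer G ≠ ⊥ := by
  intro h
  have hF : Cfsg.generalizedFittingSubgroup G = Subgroup.center G := by
    rw [Cfsg.generalizedFittingSubgroup, h, bot_sup_eq, fittingSubgroup_eq_center hD h2 h3]
  have hcl := centralizer_generalizedFittingSubgroup_le (G := G)
  rw [hF] at hcl
  obtain ⟨d, hd⟩ := hD.nonempty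
  obtain ⟨z, hz, hzd⟩ := exists_not_commute hD hD2 hd
  have hmem : z ∈ Subgroup.center G := hcl (Subgroup.mem_centralizer_iff.2
    fun y hy => (Subgroup.mem_center_iff.1 hy z).symm)
  exact hzd (Subgroup.mem_center_iff.1 hmem d).symm

theorem component_normal {K : Subgroup G} (hK : IsComponent K) : K.Normal := by
  have hT := hD.toTSet
  refine normal_of_invariant hD fun d hd => ?_
  by_contra hnot
  set K' := K.map (MulAut.conj d).toMonoidHom with hK'
  have hne : K ≠ K' := fun h => hnot fun g hg => by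
    rw [h]
    exact ⟨g, hg, by simp [MulAut.conj_apply, hT.inv_eq hd]⟩
  have hc := IsComponent.commutator_eq_bot hK (IsComponent.conj hK d) hne
  have hexp : ∀ a : ↥K ⧸ Subgroup.center ↥K, a ^ 2 = 1 ∨ a ^ 3 = 1 := by
    intro a
    obtain ⟨⟨g, hg⟩, rfl⟩ := QuotientGroup.mk_surjective a
    set q := d * g * d with hq
    have hqK : q ∈ K' := ⟨g, hg, by simp [hq, MulAut.conj_apply, hT.inv_eq hd]⟩
    have hqg : Commute g q := by
      rw [← commutatorElement_eq_one_iff_commute, ← Subgroup.mem_bot, ← hc]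
      exact Subgroup.commutator_mem_commutator hg hqK
    have key : ∀ n : ℕ, (d * (g * d * g⁻¹)) ^ n = 1 →
        ((QuotientGroup.mk ⟨g, hg⟩ : ↥K ⧸ Subgroup.center ↥K)) ^ n = 1 := by
      intro n hn
      rw [show d * (g * d * g⁻¹) = q * g⁻¹ by rw [hq]; group, hqg.symm.inv_right.mul_pow,
        inv_pow, mul_inv_eq_one] at hn
      rw [← QuotientGroup.mk_pow, QuotientGroup.eq_one_iff, Subgroup.mem_center_iff]
      rintro ⟨k, hk⟩
      apply Subtype.ext
      show k * g ^ n = g ^ n * k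
      have hqn : Commute k (q ^ n) := by
        rw [← commutatorElement_eq_one_iff_commute, ← Subgroup.mem_bot, ← hc]
        exact Subgroup.commutator_mem_commutator hk (pow_mem hqK n)
      rw [← hn]
      exact hqn.eq
    exact (hD.ord d hd _ (hD.conj g d hd)).imp (key 2) (key 3)
  have : Group.IsSolvable (↥K ⧸ Subgroup.center ↥K) := isSolvable_of_orders_le_three hexp
  have : Group.IsSolvable (Subgroup.center ↥K) := Group.isSolvable_of_comm fun a b =>
    Subtype.ext (Subgroup.mem_center_iff.1 b.2 a)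
  exact IsComponent.not_isSolvable hK (Group.isSolvable_of_ker_le_range
    (Subgroup.center ↥K).subtype (QuotientGroup.mk' (Subgroup.center ↥K)) (by simp))

theorem component_unique {K₁ K₂ : Subgroup G} (h₁ : IsComponent K₁) (h₂ : IsComponent K₂) :
    K₁ = K₂ := by
  by_contra hne
  have hT := hD.toTSet
  have hn1 := component_normal hD h₁
  have hn2 := component_normal hD h₂
  obtain ⟨d, hd⟩ := hD.nonempty
  have hinv : ∀ K : Subgroup G, K.Normal → ∀ g ∈ K, d * g * d ∈ K := fun K hK g hg => by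
    have := hK.conj_mem g hg d
    rwa [hT.inv_eq hd] at this
  have hA : ∀ K : Subgroup G, K.Normal → IsComponent K →
      ¬((∀ g ∈ K, Commute d (g * d * g⁻¹)) ∨
        ∀ g ∈ K, Commute d (g * d * g⁻¹) → g * d * g⁻¹ = d) := by
    intro K hK hKc h
    exact component_not_le_center hD hKc (le_center_of_commute hD hd
      (commute_of_orb hT hKc.1 (IsComponent.commutator_self hKc) (IsComponent.le_layer hKc) hd
        (hinv K hK) h))
  have hA1 := hA K₁ hn1 h₁
  have hA2 := hA K₂ hn2 h₂
  rw [not_or] at hA1 hA2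
  obtain ⟨g₁, hg₁, hc₁⟩ := Set.not_subset.1
    (show ¬((K₁ : Set G) ⊆ {g | Commute d (g * d * g⁻¹)}) from hA1.1)
  obtain ⟨g₂, hg₂, hne₂⟩ := Set.not_subset.1
    (show ¬((K₂ : Set G) ⊆ {g | Commute d (g * d * g⁻¹) → g * d * g⁻¹ = d}) from hA2.2)
  simp only [Set.mem_ofPred_eq, Classical.not_imp] at hc₁ hne₂
  obtain ⟨hc₂, hne₂⟩ := hne₂
  set c₁ := d * (g₁ * d * g₁⁻¹) with hc1
  set c₂ := d * (g₂ * d * g₂⁻¹) with hc2
  have hm1 : c₁ ∈ K₁ := by
    rw [hc1, show d * (g₁ * d * g₁⁻¹) = d * g₁ * d * g₁⁻¹ by group]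
    exact mul_mem (hinv K₁ hn1 _ hg₁) (inv_mem hg₁)
  have hm2 : c₂ ∈ K₂ := by
    rw [hc2, show d * (g₂ * d * g₂⁻¹) = d * g₂ * d * g₂⁻¹ by group]
    exact mul_mem (hinv K₂ hn2 _ hg₂) (inv_mem hg₂)
  have hcK : ∀ a ∈ K₁, ∀ b ∈ K₂, Commute a b := fun a ha b hb => by
    rw [← commutatorElement_eq_one_iff_commute, ← Subgroup.mem_bot,
      ← IsComponent.commutator_eq_bot h₁ h₂ hne]
    exact Subgroup.commutator_mem_commutator ha hb
  have hprod : d * (g₁ * g₂ * d * (g₁ * g₂)⁻¹) = c₁ * c₂ := by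
    have h1 : g₁ * c₂ = c₂ * g₁ := hcK g₁ hg₁ c₂ hm2
    calc d * (g₁ * g₂ * d * (g₁ * g₂)⁻¹) = d * (g₁ * g₂) * d * g₂⁻¹ * g₁⁻¹ := by group
      _ = d * g₁ * d * ((d * g₂ * d) * g₂⁻¹) * g₁⁻¹ := by
        simp only [mul_assoc, invol_cancel (hD.sq d hd)]
      _ = d * g₁ * d * (c₂ * g₁⁻¹) := by rw [hc2]; simp only [mul_assoc]
      _ = d * g₁ * d * (g₁⁻¹ * c₂) := by rw [(hcK _ (inv_mem hg₁) c₂ hm2).eq]
      _ = c₁ * c₂ := by rw [hc1]; simp only [mul_assoc]
  have hcc := hcK c₁ hm1 c₂ hm2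
  have h22 : c₂ ^ 2 = 1 := by
    rw [hc2, hc₂.mul_pow, pow_two, pow_two, hD.sq d hd, hD.sq _ (hD.conj g₂ d hd), one_mul]
  have h13 : c₁ ^ 3 = 1 := (hD.ord d hd _ (hD.conj g₁ d hd)).resolve_left
    fun h => hc₁ (hT.commute_of_sq hd (hD.conj g₁ d hd) h)
  rcases hD.ord d hd _ (hD.conj (g₁ * g₂) d hd) with h | h <;> rw [hprod, hcc.mul_pow] at h
  · rw [h22, mul_one] at h
    exact hc₁ (hT.commute_of_sq hd (hD.conj g₁ d hd) h)
  · rw [h13, one_mul, pow_succ, h22, one_mul, hc2, mul_eq_one_iff_inv_eq, hT.inv_eq hd] at h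
    exact hne₂ h.symm

/-- With central cores there is a quasisimple normal subgroup making up the layer. -/
theorem exists_normal_component (hD2 : ∃ a ∈ D, ∃ b ∈ D, a ≠ b)
    (h2 : Cfsg.pCore 2 G ≤ Subgroup.center G) (h3 : Cfsg.pCore 3 G ≤ Subgroup.center G) :
    ∃ L : Subgroup G, L.Normal ∧ IsComponent L ∧
      Cfsg.generalizedFittingSubgroup G = L ⊔ Subgroup.center G := by
  obtain ⟨L, hL⟩ := not_not.1 fun h => layer_ne_bot hD hD2 h2 h3 (layer_eq_bot_iff.2 h)
  refine ⟨L, component_normal hD hL, hL, ?_⟩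
  rw [Cfsg.generalizedFittingSubgroup, fittingSubgroup_eq_center hD h2 h3]
  congr 1
  exact le_antisymm (sSup_le fun K hK => (component_unique hD hK hL).le) (IsComponent.le_layer hL)

/-- Modulo a normal component commuting members are equal. -/
theorem mul_mem_of_commute {L : Subgroup G} [hLn : L.Normal] (hL : IsComponent L)
    {a b : G} (ha : a ∈ D) (hb : b ∈ D) (hab : Commute a b) : a * b ∈ L := by
  by_contra hnot
  have hT := hD.toTSet
  have hn : ∀ g ∈ L, a * g * a ∈ L := fun g hg => by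
    have := hLn.conj_mem g hg a
    rwa [hT.inv_eq ha] at this
  have hc : ∀ g ∈ L, Commute (g * a * g⁻¹) b := by
    intro g hg
    set e := g * a * g⁻¹ with he
    have hae : a * e ∈ L := by
      rw [he, show a * (g * a * g⁻¹) = a * g * a * g⁻¹ by group]
      exact mul_mem (hn g hg) (inv_mem hg)
    by_contra hnc
    have := mul_mem hae (mul_mem_of_coset hT ha (hD.conj g a ha) hb hae hab hnc).1
    rw [mul_assoc, invol_cancel (hD.sq _ (hD.conj g a ha))] at this
    exact hnot this
  rcases IsComponent.le_or_commutator_eq_bot hL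
      (isSubnormal_of_normalized hL.1 (pairGrp_orb_le hT ha hn) (pairGrp_orb_normalized hT ha))
    with h | h
  · refine component_not_le_center hD hL (le_center_of_commute hD hb fun g hg => ?_)
    have hle : pairGrp (orb L a) ≤ Subgroup.centralizer ({b} : Set G) := by
      refine (Subgroup.closure_le _).2 ?_
      rintro _ ⟨_, ⟨p, hp, rfl⟩, _, ⟨q, hq, rfl⟩, rfl⟩
      exact Subgroup.mem_centralizer_singleton_iff.2 ((hc p hp).mul_left (hc q hq)).eq
    exact (Subgroup.mem_centralizer_singleton_iff.1 (hle (h hg))).symm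
  · refine component_not_le_center hD hL (le_center_of_commute hD ha
      (commute_of_pairGrp_central hT (IsComponent.commutator_self hL) ha hn fun g hg z hz => ?_))
    rw [← commutatorElement_eq_one_iff_commute, ← Subgroup.mem_bot, ← h]
    exact Subgroup.commutator_mem_commutator hg hz

theorem mul_mem_of_commutator_mem {L : Subgroup G} [L.Normal] (hL : IsComponent L)
    {a b : G} (ha : a ∈ D) (hb : b ∈ D) (h : a * b * a⁻¹ * b⁻¹ ∈ L) : a * b ∈ L := by
  by_cases hab : Commute a b
  · exact mul_mem_of_commute hD hL ha hb hab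
  · rw [hD.toTSet.inv_eq ha, hD.toTSet.inv_eq hb, mul_assoc (a * b), ← pow_two] at h
    have h3 : (a * b) ^ 3 = 1 := (hD.ord a ha b hb).resolve_left
      fun k => hab (hD.toTSet.commute_of_sq ha hb k)
    rw [pow_succ] at h3
    rw [← inv_mem_iff, ← eq_inv_of_mul_eq_one_left h3]
    exact h

end

end Cfsg.Agent.Fischer
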