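import Cfsg.Agent.Lib.Fischer.CommutingGraph

/-!
Classes in `D_x`: if every member `b` of `D_x` has a partner `b' ≠ b` in `D_x` with the same
neighbours `D_x ∩ D_b = D_x ∩ D_b'`, then no three members of `D` commute pairwise.
Also: the commuting graph is connected when `G'' = G'`.
-/

set_option autoImplicit false

namespace Cfsg.Agent.Fischer

variable {G : Type*} [Group G] {D : Set G}

/-- Every member of `perp D x` has a partner with the same common neighbours. -/
def HasTwins (D : Set G) : Prop :=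
  ∀ x ∈ D, ∀ b ∈ perp D x, ∃ b' ∈ perp D x, b' ≠ b ∧ perp D x ∩ perp D b = perp D x ∩ perp D b'

theorem perp_symm {x b : G} (hx : x ∈ D) (hb : b ∈ perp D x) : x ∈ perp D b :=
  ⟨hx, fun e => hb.2.1 e.symm, hb.2.2.symm⟩

theorem not_commute_twins {x b b' : G} (hb' : b' ∈ perp D x) (hne : b' ≠ b)
    (he : perp D x ∩ perp D b = perp D x ∩ perp D b') : ¬Commute b b' := by
  intro h
  have : b' ∈ perp D x ∩ perp D b := ⟨hb', hb'.1, hne, h⟩
  rw [he] at this
  exact this.2.2.1 rfl

section

variable (hD : TClass D)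
include hD

/-- A point failing to commute with exactly one of two twins commutes with their common
neighbours. -/
theorem commute_witness {x b b' w c : G} (hx : x ∈ D) (hb : b ∈ perp D x) (hb' : b' ∈ perp D x)
    (hne : b' ≠ b) (he : perp D x ∩ perp D b = perp D x ∩ perp D b') (hw : w ∈ D)
    (hxw : ¬Commute x w) (hbw : ¬Commute b w) (hb'w : Commute b' w)
    (hc : c ∈ perp D x ∩ perp D b) : Commute w c := by
  by_contra hwc
  have hT := hD.toTSet
  have hbb' := not_commute_twins hb' hne he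
  have hb'c : Commute b' c := by
    have := hc; rw [he] at this; exact this.2.2.2
  have hxb : Commute x b := hb.2.2
  have hxb' : Commute x b' := hb'.2.2
  have hxc : Commute x c := hc.1.2.2
  have hbc : Commute b c := hc.2.2.2
  have hbD := hb.1
  have hcD := hc.1.1
  have hb'D := hb'.1
  set P := w * x * w with hP
  have hPD : P ∈ D := hT.conj_mem hw hx
  have hPx : P = x * w * x := hT.braid hw hx fun h => hxw h.symm
  have hPb : ¬Commute P b := by
    rw [hPx, hT.commute_third_iff hx hxb]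
    exact fun h => hbw h.symm
  have hPc : ¬Commute P c := by
    rw [hPx, hT.commute_third_iff hx hxc]
    exact hwc
  have hPb' : Commute P b' := by
    rw [hP, hT.commute_third_iff hw hb'w.symm]
    exact hxb'
  set Q := c * (b * P * b) * c with hQ
  set r := w * Q * w with hr
  have hrD : r ∈ D := hT.conj_mem hw (hT.conj_mem hcD (hT.conj_mem hbD hPD))
  have hrx : Commute r x := by
    rw [hr, commute_invol_conj_left (hD.sq w hw), hQ, commute_invol_conj_left (hD.sq c hcD),
      ← hP, hT.braid hbD hPD (fun h => hPb h.symm), hT.braid hcD hPD (fun h => hPc h.symm),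
      commute_invol_conj (hD.sq P hPD)]
    exact hbc
  have e1 : c * (w * b * w) * c = b * (c * w * c) * b := by
    rw [hT.braid hw hbD (fun h => hbw h.symm)]
    calc c * (b * w * b) * c = (c * b) * w * (b * c) := by simp only [mul_assoc]
      _ = (b * c) * w * (c * b) := by rw [hbc.eq]
      _ = b * (c * w * c) * b := by simp only [mul_assoc]
  have hrb : Commute r b := by
    rw [hr, commute_invol_conj_left (hD.sq w hw), hQ, commute_invol_conj_left (hD.sq c hcD), e1,
      commute_invol_conj (hD.sq b hbD), hT.braid hcD hw (fun h => hwc h.symm), hP,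
      commute_invol_conj (hD.sq w hw)]
    exact hxc
  have hrb' : ¬Commute r b' := by
    rw [hr, commute_invol_conj_left (hD.sq w hw), invol_conj_eq_of_commute (hD.sq w hw) hb'w.symm,
      hQ, commute_invol_conj_left (hD.sq c hcD), invol_conj_eq_of_commute (hD.sq c hcD) hb'c.symm,
      commute_invol_conj_left (hD.sq b hbD), hT.braid hbD hb'D hbb', Commute.symm_iff,
      commute_invol_conj_left (hD.sq b' hb'D),
      invol_conj_eq_of_commute (hD.sq b' hb'D) hPb'.symm, Commute.symm_iff]
    exact hPb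
  have hrne : r ≠ x := fun e => hrb' (e ▸ hxb')
  have hrneb : r ≠ b := by
    intro e
    apply hc.1.2.1
    have h1 : Q = w * b * w := by
      rw [← e, hr, invol_conj_invol (hD.sq w hw)]
    have h2 : b * P * b = c * (w * b * w) * c := by
      rw [← h1, hQ, invol_conj_invol (hD.sq c hcD)]
    rw [e1] at h2
    have h3 := invol_conj_inj (hD.sq b hbD) h2
    rw [hT.braid hcD hw (fun h => hwc h.symm), hP] at h3
    exact (invol_conj_inj (hD.sq w hw) h3).symm
  have hmem : r ∈ perp D x ∩ perp D b := ⟨⟨hrD, hrne, hrx.symm⟩, hrD, hrneb, hrb.symm⟩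
  rw [he] at hmem
  exact hrb' hmem.2.2.2.symm

variable [Finite G]
  (hsol : ∀ N : Subgroup G, N.Normal → Group.IsSolvable ↥N → N ≤ commutator G → N = ⊥)
include hsol

/-- Members with the same set of other commuting members are equal. -/
theorem perp_injective {u c : G} (hu : u ∈ D) (hc : c ∈ D) (hne : (perp D u).Nonempty)
    (he : perp D u = perp D c) : u = c := by
  have hmod : IsModule D (perp D) := by
    refine ⟨fun g p _ q _ h => ?_, fun p _ p' _ q hq hpp hpq => ?_⟩
    · rw [← conj_image_of_mem (F := perp D) (fun g _ _ => conj_mem_perp hD g), h,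
        conj_image_of_mem (F := perp D) (fun g _ _ => conj_mem_perp hD g)]
    · constructor
      · intro hc'
        have : q ∈ perp D p := ⟨hq, fun e => hpq (by rw [e]), hc'⟩
        rw [hpp] at this
        exact this.2.2
      · intro hc'
        have : q ∈ perp D p' := ⟨hq, fun e => hpq (hpp.trans (by rw [e])), hc'⟩
        rw [← hpp] at this
        exact this.2.2
  refine hmod.eq_of_label_eq hD hsol (fun v hv => Or.inl ?_) hu hc he
  obtain ⟨g, rfl⟩ := hD.trans u hu v hv
  obtain ⟨w, hw⟩ := hne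
  refine ⟨_, hD.conj g w hw.1, hw.2.2.conj g, fun e => ?_⟩
  have h1 := conj_mem_perp hD g hw
  rw [e] at h1
  exact h1.2.1 rfl

theorem exists_witness {x b b' : G} (hx : x ∈ D) (hb : b ∈ perp D x) (hb' : b' ∈ perp D x)
    (hne : b' ≠ b) (he : perp D x ∩ perp D b = perp D x ∩ perp D b') :
    ∃ w ∈ D, ¬Commute x w ∧
      ((¬Commute b w ∧ Commute b' w) ∨ (¬Commute b' w ∧ Commute b w)) := by
  by_contra h
  have hsub : perp D b ⊆ perp D b' := by
    intro v hv
    have hvb' : v ≠ b' := fun e => not_commute_twins hb' hne he (e ▸ hv.2.2)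
    refine ⟨hv.1, hvb', ?_⟩
    by_cases hxv : Commute x v
    · by_cases hvx : v = x
      · rw [hvx]; exact hb'.2.2.symm
      · have : v ∈ perp D x ∩ perp D b := ⟨⟨hv.1, hvx, hxv⟩, hv⟩
        rw [he] at this
        exact this.2.2.2
    · by_contra hc
      exact h ⟨v, hv.1, hxv, Or.inr ⟨hc, hv.2.2⟩⟩
  have := perp_injective hD hsol hb.1 hb'.1 ⟨x, perp_symm hx hb⟩
    (Set.eq_of_subset_of_ncard_le hsub
      (ncard_eq_of_equivariant hD (F := perp D) (fun g _ _ => conj_mem_perp hD g) hb'.1 hb.1).le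
      (Set.toFinite _))
  exact hne this.symm

theorem ncard_common_commuting {x b u v : G} (hx : x ∈ D) (hb : b ∈ perp D x) (hu : u ∈ D)
    (hv : v ∈ perp D u) :
    (perp D u ∩ perp D v).ncard = (perp D x ∩ perp D b).ncard := by
  obtain ⟨g, rfl⟩ := hD.trans x hx u hu
  obtain ⟨k, hk, hk'⟩ := perp_transitive_centralizer hD hsol (hD.conj g x hx)
    (conj_mem_perp hD g hb) hv
  refine (ncard_common_eq hD ⟨k * g, ?_, ?_⟩).symm
  · rw [show k * g * x * (k * g)⁻¹ = k * (g * x * g⁻¹) * k⁻¹ by simp [mul_assoc], hk]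
  · rw [show k * g * b * (k * g)⁻¹ = k * (g * b * g⁻¹) * k⁻¹ by simp [mul_assoc], hk']

theorem five_cycle_absurd (hTw : HasTwins D) {x b b' w d : G} (hx : x ∈ D) (hb : b ∈ perp D x)
    (hb' : b' ∈ perp D x) (hne : b' ≠ b) (he : perp D x ∩ perp D b = perp D x ∩ perp D b')
    (hw : w ∈ D) (hxw : ¬Commute x w) (hbw : ¬Commute b w) (hb'w : Commute b' w)
    (hd : d ∈ perp D x ∩ perp D b) : False := by
  have hT := hD.toTSet
  have hbb' := not_commute_twins hb' hne he
  obtain ⟨d₀, hd₀, hdne, hde⟩ := hTw x hx d hd.1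
  obtain ⟨q, hq, hxq, hcase⟩ := exists_witness hD hsol hx hd.1 hd₀ hdne hde
  have hd₀' : d₀ ∈ perp D x ∩ perp D b := by
    have h1 : b ∈ perp D x ∩ perp D d := ⟨hb, perp_symm hb.1 hd.2⟩
    rw [hde] at h1
    exact ⟨hd₀, perp_symm hd₀.1 h1.2⟩
  obtain ⟨e, hed, hqe, hqb⟩ : ∃ e ∈ perp D x ∩ perp D b, ¬Commute q e ∧ Commute q b := by
    rcases hcase with ⟨h1, h2⟩ | ⟨h1, h2⟩
    · exact ⟨d, hd, fun h => h1 h.symm,
        commute_witness hD hx hd.1 hd₀ hdne hde hq hxq h1 h2 ⟨hb, perp_symm hb.1 hd.2⟩⟩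
    · exact ⟨d₀, hd₀', fun h => h1 h.symm,
        commute_witness hD hx hd₀ hd.1 hdne.symm hde.symm hq hxq h1 h2
          ⟨hb, perp_symm hb.1 hd₀'.2⟩⟩
  set Δ := perp D x ∩ perp D b with hΔ
  set p25 := w * (b * b' * b) * w with hp25
  set p13 := w * x * w with hp13
  have hbbb : b * b' * b ∈ D := hT.conj_mem hb.1 hb'.1
  have h25 : p25 ∈ D := hT.conj_mem hw hbbb
  have h13 : p13 ∈ D := hT.conj_mem hw hx
  have hΔw : ∀ v ∈ Δ, Commute v w := fun v hv =>
    (commute_witness hD hx hb hb' hne he hw hxw hbw hb'w hv).symm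
  have hΔb : ∀ v ∈ Δ, Commute v b := fun v hv => hv.2.2.2.symm
  have hΔb' : ∀ v ∈ Δ, Commute v b' := fun v hv => by
    have : v ∈ perp D x ∩ perp D b' := he ▸ hv
    exact this.2.2.2.symm
  have hΔx : ∀ v ∈ Δ, Commute v x := fun v hv => hv.1.2.2.symm
  have hΔ25 : ∀ v ∈ Δ, Commute v p25 := fun v hv =>
    ((hΔw v hv).mul_right (((hΔb v hv).mul_right (hΔb' v hv)).mul_right (hΔb v hv))).mul_right
      (hΔw v hv)
  have hΔ13 : ∀ v ∈ Δ, Commute v p13 := fun v hv =>
    ((hΔw v hv).mul_right (hΔx v hv)).mul_right (hΔw v hv)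
  have hx13 : ¬Commute p13 x := (hT.not_commute_third hw hx fun h => hxw h.symm).2
  have hx25 : ¬Commute p25 x := by
    rw [hp25, commute_invol_conj_left (hD.sq w hw), hT.braid hw hx (fun h => hxw h.symm),
      Commute.symm_iff, commute_invol_conj_left (hD.sq x hx),
      invol_conj_eq_of_commute (hD.sq x hx) ((hb.2.2.mul_right hb'.2.2).mul_right hb.2.2),
      Commute.symm_iff, commute_invol_conj_left (hD.sq b hb.1), hT.braid hb.1 hw hbw,
      Commute.symm_iff, commute_invol_conj_left (hD.sq w hw),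
      invol_conj_eq_of_commute (hD.sq w hw) hb'w.symm]
    exact hbb'
  have hb25 : Commute p25 b := by
    rw [hp25, commute_invol_conj_left (hD.sq w hw), hT.braid hw hb.1 (fun h => hbw h.symm),
      commute_invol_conj (hD.sq b hb.1)]
    exact hb'w
  have h2513 : Commute p25 p13 := by
    rw [hp25, hp13, commute_invol_conj (hD.sq w hw)]
    exact ((hb.2.2.mul_right hb'.2.2).mul_right hb.2.2).symm
  have h13b' : Commute p13 b' := by
    rw [hp13, hT.commute_third_iff hw hb'w.symm]
    exact hb'.2.2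
  have hb13 : ¬Commute p13 b := by
    rw [hp13, hT.braid hw hx (fun h => hxw h.symm), hT.commute_third_iff hx hb.2.2]
    exact fun h => hbw h.symm
  have hn25 : p25 ∉ Δ := fun h => hx25 h.1.2.2.symm
  have hn13 : p13 ∉ Δ := fun h => hx13 h.1.2.2.symm
  have hnb : b ∉ Δ := fun h => h.2.2.1 rfl
  have hnb' : b' ∉ Δ := fun h => by
    have : b' ∈ perp D x ∩ perp D b' := he ▸ h
    exact this.2.2.1 rfl
  have hcommon : ∀ u ∈ D, ∀ v ∈ perp D u, u ∉ Δ → v ∉ Δ →
      (∀ t ∈ Δ, Commute t u) → (∀ t ∈ Δ, Commute t v) → perp D u ∩ perp D v = Δ := by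
    intro u hu v hv hnu hnv htu htv
    refine (Set.eq_of_subset_of_ncard_le (fun t ht => ?_)
      (ncard_common_commuting hD hsol hx hb hu hv).le (Set.toFinite _)).symm
    exact ⟨⟨ht.1.1, fun h => hnu (h ▸ ht), (htu t ht).symm⟩,
      ⟨ht.1.1, fun h => hnv (h ▸ ht), (htv t ht).symm⟩⟩
  have hqΔ : q ∉ Δ := fun h => hxq h.1.2.2
  have hqb' : Commute q b' := by
    by_contra h
    exact hqe (commute_witness hD hx hb' hb hne.symm he.symm hq hxq (fun k => h k.symm) hqb.symm
      (he ▸ hed))
  have hbmem : b ∈ perp D p25 := ⟨hb.1, fun k => hx25 (k ▸ hb.2.2.symm), hb25⟩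
  have h13mem : p13 ∈ perp D p25 := ⟨h13, fun k => hb13 (k ▸ hb25), h2513⟩
  have e_a := hcommon p25 h25 b hbmem hn25 hnb hΔ25 hΔb
  have hq25 : ¬Commute p25 q := by
    intro h
    have hne1 : q ≠ p25 := fun k => hqe (k ▸ (hΔ25 e hed).symm)
    have hne2 : q ≠ b := fun k => hxq (k ▸ hb.2.2)
    have : q ∈ perp D p25 ∩ perp D b := ⟨⟨hq, hne1, h⟩, hq, hne2, hqb.symm⟩
    rw [e_a] at this
    exact hqΔ this
  have e_b := hcommon p25 h25 p13 h13mem hn25 hn13 hΔ25 hΔ13
  have hq13 : Commute q p13 := by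
    by_contra h
    refine hqe (commute_witness hD h25 h13mem hbmem (fun k => hx13 (k ▸ hb.2.2.symm))
      (e_b.trans e_a.symm) hq hq25 (fun k => h k.symm) hqb.symm ?_)
    rw [e_b]; exact hed
  have hb'mem : b' ∈ perp D p13 := ⟨hb'.1, fun k => hx13 (k ▸ hb'.2.2.symm), h13b'⟩
  have e_c := hcommon p13 h13 b' hb'mem hn13 hnb' hΔ13 hΔb'
  have hne1 : q ≠ p13 := fun k => hqe (k ▸ (hΔ13 e hed).symm)
  have hne2 : q ≠ b' := fun k => hxq (k ▸ hb'.2.2)
  have : q ∈ perp D p13 ∩ perp D b' := ⟨⟨hq, hne1, hq13.symm⟩, hq, hne2, hqb'.symm⟩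
  rw [e_c] at this
  exact hqΔ this

/-- With twins no three members commute pairwise. -/
theorem common_empty (hTw : HasTwins D) {x b : G} (hx : x ∈ D) (hb : b ∈ perp D x) :
    perp D x ∩ perp D b = ∅ := by
  by_contra h
  obtain ⟨d, hd⟩ := Set.nonempty_iff_ne_empty.2 h
  obtain ⟨b', hb', hne, he⟩ := hTw x hx b hb
  obtain ⟨w, hw, hxw, ⟨h1, h2⟩ | ⟨h1, h2⟩⟩ := exists_witness hD hsol hx hb hb' hne he
  · exact five_cycle_absurd hD hsol hTw hx hb hb' hne he hw hxw h1 h2 hd
  · exact five_cycle_absurd hD hsol hTw hx hb' hb hne.symm he.symm hw hxw h1 h2 (he ▸ hd)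

end

section Perfect

variable [Finite G]

/-- If `G'' = G'` the commuting graph is connected, provided there is more than one point. -/
theorem commuting_connected_of_perfect (hD : TClass D)
    (hperf : ⁅commutator G, commutator G⁆ = commutator G) :
    ∀ a ∈ D, ∀ v ∈ D, Relation.ReflTransGen (CAdj D) a v := by
  intro a ha v hv
  by_contra hav
  let N : Subgroup G :=
    { carrier := {g | ∀ w ∈ D, block D (g * w * g⁻¹) = block D w}
      one_mem' := fun w _ => by simp
      mul_mem' := fun {g k} hg hk w hw => by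
        rw [show g * k * w * (g * k)⁻¹ = g * (k * w * k⁻¹) * g⁻¹ by simp [mul_assoc],
          hg _ (hD.conj k w hw), hk w hw]
      inv_mem' := fun {g} hg w hw => by
        have := hg _ (hD.conj g⁻¹ w hw)
        simpa [mul_assoc] using this.symm }
  have hNn : N.Normal := by
    refine ⟨fun n hn g w hw => ?_⟩
    have h1 := hn _ (hD.conj g⁻¹ w hw)
    have h2 := congrArg (fun S : Set G => (fun z => g * z * g⁻¹) '' S) h1
    simp only [block_conj hD] at h2
    simpa [mul_assoc] using h2
  have hnot : ∀ d ∈ D, d ∉ N := by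
    intro d hd hdN
    have hm : ∃ e ∈ D, e ∉ block D d := by
      by_contra h
      push Not at h
      exact hav (Relation.ReflTransGen.trans (block_symm hd (h a ha)) (h v hv))
    obtain ⟨e, he, hed⟩ := hm
    have := hdN e he
    rw [hD.toTSet.inv_eq hd] at this
    exact moves_other hD hd he hed this
  let π := QuotientGroup.mk' N
  have hQ : TClass (π '' D) := by
    refine ⟨⟨?_, ?_, ?_, ?_⟩, ?_, ?_, ⟨π a, a, ha, rfl⟩⟩
    · rintro _ ⟨d, hd, rfl⟩; rw [← map_mul, hD.sq d hd, map_one]
    · rintro _ ⟨d, hd, rfl⟩ h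
      exact hnot d hd ((QuotientGroup.eq_one_iff d).1 h)
    · rintro _ ⟨d, hd, rfl⟩ _ ⟨e, he, rfl⟩
      rw [← map_mul, ← map_pow, ← map_pow]
      exact (hD.ord d hd e he).imp (fun h => by rw [h, map_one]) (fun h => by rw [h, map_one])
    · intro g
      obtain ⟨g, rfl⟩ := QuotientGroup.mk'_surjective N g
      rintro _ ⟨d, hd, rfl⟩
      exact ⟨g * d * g⁻¹, hD.conj g d hd, by simp [π]⟩
    · rintro _ ⟨d, hd, rfl⟩ _ ⟨e, he, rfl⟩
      obtain ⟨g, rfl⟩ := hD.trans d hd e he
      exact ⟨π g, by simp⟩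
    · rw [← MonoidHom.map_closure, hD.gen]
      exact Subgroup.map_top_of_surjective π (QuotientGroup.mk'_surjective N)
  have hw1 : ∀ p ∈ π '' D, ∀ q ∈ π '' D, Commute p q → p = q := by
    rintro _ ⟨d, hd, rfl⟩ _ ⟨e, he, rfl⟩ hc
    by_cases hde : Commute d e
    · have hm : d * e ∈ N := fun w hw => by
        rw [show d * e * w * (d * e)⁻¹ = d * (e * w * e⁻¹) * d⁻¹ by simp [mul_assoc],
          hD.toTSet.inv_eq hd, hD.toTSet.inv_eq he,
          commute_act_eq hD hd he hde (hD.toTSet.conj_mem he hw), invol_conj_invol (hD.sq e he)]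
      show (d : G ⧸ N) = e
      rw [QuotientGroup.eq, hD.toTSet.inv_eq hd]
      exact hm
    · have h := congrArg π (hD.toTSet.braid hd he hde)
      have e1 : π d * π e * π d = π e := by
        rw [hc.eq, mul_assoc, ← map_mul π d d, hD.sq d hd, map_one, mul_one]
      have e2 : π e * π d * π e = π d := by
        rw [hc.symm.eq, mul_assoc, ← map_mul π e e, hD.sq e he, map_one, mul_one]
      simp only [map_mul, e1, e2] at h
      exact h.symm
  obtain ⟨⟨n, hn⟩⟩ := hQ.isSolvable_of_width_one hw1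
  have hder : ∀ k, commutator G ≤ derivedSeries G k := by
    intro k
    induction k with
    | zero => exact le_top
    | succ k ih =>
      rw [derivedSeries_succ, ← hperf]
      exact Subgroup.commutator_mono ih ih
  have hle : commutator G ≤ N := fun g hg => by
    have := map_derivedSeries_le_derivedSeries π n (Subgroup.mem_map_of_mem π (hder n hg))
    rw [hn, Subgroup.mem_bot] at this
    exact (QuotientGroup.eq_one_iff g).1 this
  have hm := hle (pair_mem_commutator hD ha hv) v hv
  rw [show a * v * v * (a * v)⁻¹ = a * v * a⁻¹ by simp [mul_assoc], hD.toTSet.inv_eq ha] at hm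
  exact moves_other hD ha hv hav hm

end Perfect

end Cfsg.Agent.Fischer
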