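import Mathlib

/-!
Integrality condition for a strongly regular graph without triangles, in matrix form.
-/

set_option autoImplicit false

namespace Cfsg.Agent.Fischer

open Matrix

theorem srg_lambda_zero_disc {α : Type*} [Fintype α] [DecidableEq α] [Nonempty α]
    (A : Matrix α α ℝ) (k μ : ℕ) (hμ : μ < k) (hsum : k + μ ≠ 3) (hμ0 : 0 < μ)
    (hA : A * A = (k : ℝ) • (1 : Matrix α α ℝ) + (μ : ℝ) • (of (fun _ _ => (1 : ℝ)) - 1 - A))
    (hrow : A * of (fun _ _ => (1 : ℝ)) = (k : ℝ) • of (fun _ _ => (1 : ℝ)))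
    (hcol : (of (fun _ _ => (1 : ℝ)) : Matrix α α ℝ) * A = (k : ℝ) • of (fun _ _ => (1 : ℝ)))
    (htr : A.trace = 0) :
    μ * Fintype.card α + k = k * k + μ + μ * k ∧
      ∃ m : ℕ, m * m + 4 * μ = μ * μ + 4 * k := by
  set J : Matrix α α ℝ := of (fun _ _ => (1 : ℝ)) with hJ
  set n : ℝ := (Fintype.card α : ℝ) with hn
  have hn0 : n ≠ 0 := by rw [hn]; exact_mod_cast Fintype.card_ne_zero
  have hJJ : J * J = n • J := by
    ext i j; simp [hJ, Matrix.mul_apply, hn]
  have hcount : (μ : ℝ) * n + k = (k : ℝ) * k + μ + μ * k := by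
    have h1 : A * A * J = ((k : ℝ) * k) • J := by
      rw [Matrix.mul_assoc, hrow, Matrix.mul_smul, hrow, smul_smul]
    rw [hA, Matrix.add_mul, Matrix.smul_mul, Matrix.one_mul, Matrix.smul_mul, Matrix.sub_mul,
      Matrix.sub_mul, Matrix.one_mul, hJJ, hrow] at h1
    obtain ⟨i⟩ := (inferInstance : Nonempty α)
    have h2 := congrFun (congrFun h1 i) i
    simp [hJ] at h2
    linarith
  refine ⟨by exact_mod_cast (by rw [hn] at hcount; linarith :
    (μ : ℝ) * (Fintype.card α : ℝ) + k = (k : ℝ) * k + μ + μ * k), ?_⟩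
  set d : ℝ := (μ : ℝ) * μ + 4 * k - 4 * μ with hd
  have hd0 : 0 < d := by
    have : (μ : ℝ) < k := by exact_mod_cast hμ
    nlinarith [mul_self_nonneg (μ : ℝ)]
  set e : ℝ := 2 * k + μ with he
  set E : Matrix α α ℝ := 1 - n⁻¹ • J with hE
  set B : Matrix α α ℝ := (2 : ℝ) • A + (μ : ℝ) • 1 - (e * n⁻¹) • J with hB
  have hed : e * e - 4 * μ * n = d := by rw [he, hd]; linarith
  have hJB : J * B = 0 := by
    rw [hB, Matrix.mul_sub, Matrix.mul_add, Matrix.mul_smul, Matrix.mul_smul, Matrix.mul_smul,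
      Matrix.mul_one, hcol, hJJ, smul_smul, smul_smul, mul_assoc, inv_mul_cancel₀ hn0, mul_one,
      ← add_smul, ← sub_smul, he, sub_self, zero_smul]
  have hBJ : B * J = 0 := by
    rw [hB, Matrix.sub_mul, Matrix.add_mul, Matrix.smul_mul, Matrix.smul_mul, Matrix.smul_mul,
      Matrix.one_mul, hrow, hJJ, smul_smul, smul_smul, mul_assoc, inv_mul_cancel₀ hn0, mul_one,
      ← add_smul, ← sub_smul, he, sub_self, zero_smul]
  have hBB : B * B = d • E := by
    calc B * B = B * ((2 : ℝ) • A + (μ : ℝ) • 1) - (e * n⁻¹) • (B * J) := by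
          conv_lhs => arg 2; rw [hB]
          rw [Matrix.mul_sub, Matrix.mul_smul _ (e * n⁻¹)]
      _ = B * ((2 : ℝ) • A + (μ : ℝ) • 1) := by rw [hBJ, smul_zero, sub_zero]
      _ = ((2 : ℝ) • A + (μ : ℝ) • 1) * ((2 : ℝ) • A + (μ : ℝ) • 1)
          - (e * n⁻¹) • (J * ((2 : ℝ) • A + (μ : ℝ) • 1)) := by
          rw [hB, Matrix.sub_mul, Matrix.smul_mul]
      _ = (4 : ℝ) • (A * A) + (4 * μ : ℝ) • A + ((μ : ℝ) * μ) • 1 - (e * n⁻¹ * e) • J := by
          simp only [Matrix.mul_add, Matrix.add_mul, Matrix.smul_mul, Matrix.mul_smul,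
            Matrix.one_mul, Matrix.mul_one, hcol, smul_smul, smul_add, he]
          module
      _ = d • E := by
          have hx : (e * n⁻¹ * e) = 4 * (μ : ℝ) + d * n⁻¹ := by
            rw [← hed]; field_simp; ring
          rw [hx, hA, hE, hd]
          module
  have hJE : J * E = 0 := by
    rw [hE, Matrix.mul_sub, Matrix.mul_one, Matrix.mul_smul, hJJ, smul_smul,
      inv_mul_cancel₀ hn0, one_smul, sub_self]
  have hEE : E * E = E := by
    conv_lhs => arg 1; rw [hE]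
    rw [Matrix.sub_mul, Matrix.one_mul, Matrix.smul_mul, hJE, smul_zero, sub_zero]
  have hBE : B * E = B := by
    rw [hE, Matrix.mul_sub, Matrix.mul_one, Matrix.mul_smul, hBJ, smul_zero, sub_zero]
  have hEB : E * B = B := by
    rw [hE, Matrix.sub_mul, Matrix.one_mul, Matrix.smul_mul, hJB, smul_zero, sub_zero]
  set s : ℝ := Real.sqrt d with hs
  have hs0 : s ≠ 0 := (Real.sqrt_pos.2 hd0).ne'
  have hss : s * s = d := Real.mul_self_sqrt hd0.le
  set P : Matrix α α ℝ := (2 : ℝ)⁻¹ • (s⁻¹ • B + E) with hP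
  have hPP : P * P = P := by
    simp only [hP, Matrix.smul_mul, Matrix.mul_smul, Matrix.add_mul, Matrix.mul_add, hBB, hBE,
      hEB, hEE, smul_add, smul_smul]
    have h1 : (2 : ℝ)⁻¹ * ((2 : ℝ)⁻¹ * (s⁻¹ * (s⁻¹ * d))) = 4⁻¹ := by
      rw [← hss]; field_simp; norm_num
    match_scalars <;> field_simp <;> nlinarith [hss]
  obtain ⟨r, hr⟩ : ∃ r : ℕ, P.trace = (r : ℝ) := by
    refine ⟨Module.finrank ℝ (LinearMap.range (Matrix.toLin' P)), ?_⟩
    have hid : IsIdempotentElem (Matrix.toLin' P) := by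
      show Matrix.toLin' P * Matrix.toLin' P = _
      rw [Module.End.mul_eq_comp, ← Matrix.toLin'_mul, hPP]
    rw [← Matrix.trace_toLin'_eq, (LinearMap.IsIdempotentElem.isProj_range _ hid).trace]
  have hJt : J.trace = n := by simp [hJ, Matrix.trace, Matrix.diag, hn]
  have hEt : E.trace = n - 1 := by
    rw [hE, Matrix.trace_sub, Matrix.trace_one, Matrix.trace_smul, hJt, smul_eq_mul,
      inv_mul_cancel₀ hn0, hn]
  have hBt : B.trace = (μ : ℝ) * n - e := by
    rw [hB, Matrix.trace_sub, Matrix.trace_add, Matrix.trace_smul, Matrix.trace_smul,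
      Matrix.trace_smul, htr, Matrix.trace_one, hJt, smul_eq_mul, smul_eq_mul, smul_eq_mul,
      mul_assoc, inv_mul_cancel₀ hn0, ← hn]
    ring
  rw [hP, Matrix.trace_smul, Matrix.trace_add, Matrix.trace_smul, hBt, hEt, smul_eq_mul,
    smul_eq_mul] at hr
  set q : ℤ := 2 * r - Fintype.card α + 1 with hq
  set p : ℤ := μ * Fintype.card α - 2 * k - μ with hp
  have hpq : (p : ℝ) = s * q := by
    rw [hp, hq]; push_cast; rw [← hn]
    field_simp at hr
    rw [he] at hr
    linarith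
  have hp0 : (p : ℝ) ≠ 0 := by
    intro h
    apply hsum
    rw [hp] at h
    push_cast at h
    rw [← hn] at h
    have h3 : ((k : ℝ) + μ - 3) * k = 0 := by linarith
    rcases mul_eq_zero.1 h3 with h4 | h4
    · exact_mod_cast (by linarith : (k : ℝ) + μ = 3)
    · exact absurd (by exact_mod_cast h4 : k = 0) (by omega)
  have hq0 : q ≠ 0 := by
    intro h; apply hp0; rw [hpq, h, Int.cast_zero, mul_zero]
  have hdz : p ^ 2 = ((μ : ℤ) * μ + 4 * k - 4 * μ) * q ^ 2 := by
    have : (p : ℝ) ^ 2 = d * (q : ℝ) ^ 2 := by rw [hpq, ← hss]; ring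
    rw [hd] at this
    exact_mod_cast this
  obtain ⟨c, hc⟩ : q ∣ p := (Int.pow_dvd_pow_iff two_ne_zero).1 ⟨_, by rw [hdz, mul_comm]⟩
  refine ⟨c.natAbs, ?_⟩
  rw [hc, mul_pow, mul_comm, mul_left_inj' (pow_ne_zero 2 hq0)] at hdz
  have h3 : ((c.natAbs : ℤ) * c.natAbs) = c ^ 2 := by rw [Int.natAbs_mul_self']; ring
  have h4 : ((c.natAbs * c.natAbs + 4 * μ : ℕ) : ℤ) = ((μ * μ + 4 * k : ℕ) : ℤ) := by
    push_cast at h3 ⊢; linarith
  exact_mod_cast h4

/-- A number congruent to two modulo three times a power of three is not a square. -/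
theorem three_pow_mul_ne_square : ∀ (i c m : ℕ), c % 3 = 2 → m * m ≠ 3 ^ i * c := by
  intro i
  induction i using Nat.strong_induction_on with
  | _ i ih =>
    intro c m hc h
    match i with
    | 0 =>
      rw [pow_zero, one_mul] at h
      have key : ∀ x : ZMod 3, x * x ≠ 2 := by decide
      apply key (m : ZMod 3)
      rw [← Nat.cast_mul, h, ← ZMod.natCast_mod, hc]
      rfl
    | j + 1 =>
      have h3 : 3 ∣ m := by
        have : 3 ∣ m * m := h ▸ dvd_mul_of_dvd_left (dvd_pow_self 3 (by omega)) c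
        exact (Nat.prime_three.dvd_mul.1 this).elim id id
      obtain ⟨t, rfl⟩ := h3
      match j with
      | 0 =>
        rw [show 3 * t * (3 * t) = 9 * (t * t) by ring, show 3 ^ (0 + 1) * c = 3 * c by ring] at h
        omega
      | l + 1 =>
        refine ih l (by omega) c t hc ?_
        rw [show 3 * t * (3 * t) = 9 * (t * t) by ring,
          show 3 ^ (l + 1 + 1) * c = 9 * (3 ^ l * c) by ring] at h
        exact mul_left_cancel₀ (by norm_num) h

/-- The only possibility with `k`, `μ` powers of three. -/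
theorem srg_params {i j m : ℕ} (hij : i < j)
    (h : m * m + 4 * 3 ^ i = 3 ^ i * 3 ^ i + 4 * 3 ^ j) : i = 0 ∧ j = 1 := by
  obtain ⟨t, rfl⟩ : ∃ t, j = i + (t + 1) := ⟨j - i - 1, by omega⟩
  rcases Nat.eq_zero_or_pos i with rfl | hi
  · refine ⟨rfl, ?_⟩
    rcases Nat.eq_zero_or_pos t with rfl | ht
    · rfl
    exfalso
    obtain ⟨t', rfl⟩ : ∃ t', t = t' + 1 := ⟨t - 1, by omega⟩
    simp only [zero_add, pow_zero, mul_one, pow_succ] at h
    generalize 3 ^ t' = P at h
    have h3 : 3 ∣ m * m := by omega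
    obtain ⟨u, rfl⟩ : 3 ∣ m := (Nat.prime_three.dvd_mul.1 h3).elim id id
    rw [show 3 * u * (3 * u) = 9 * (u * u) by ring] at h
    omega
  · exfalso
    obtain ⟨i', rfl⟩ : ∃ i', i = i' + 1 := ⟨i - 1, by omega⟩
    set X := 3 ^ (i' + 1) with hX
    rw [pow_add, ← hX] at h
    have hX3 : 3 ≤ X := by
      rw [hX, pow_succ]; nlinarith [Nat.one_le_pow i' 3 (by norm_num)]
    have hY : 3 ≤ 3 ^ (t + 1) := by
      rw [pow_succ]; nlinarith [Nat.one_le_pow t 3 (by norm_num)]
    have h2 : m * m = X * (X + 4 * 3 ^ (t + 1) - 4) := by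
      rw [Nat.mul_sub, Nat.mul_add]
      rw [show X * (4 * 3 ^ (t + 1)) = 4 * (X * 3 ^ (t + 1)) by ring]
      omega
    refine three_pow_mul_ne_square (i' + 1) (X + 4 * 3 ^ (t + 1) - 4) m ?_ (hX ▸ h2)
    rw [hX, pow_succ, pow_succ]
    have := Nat.one_le_pow i' 3 (by norm_num)
    have := Nat.one_le_pow t 3 (by norm_num)
    omega

end Cfsg.Agent.Fischer
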