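import Cfsg.Agent.Lib.Fischer.Twins
import Cfsg.Agent.Lib.Fischer.StronglyRegular
import Cfsg.Agent.Lib.PCore.Basic

/-!
Parameters of a class of 3-transpositions whose `D_x` has twins: `|D_x| = 3`, two non-commuting
points have one common commuting point, there are ten points and the group has order at most 120.
-/

set_option autoImplicit false

namespace Cfsg.Agent.Fischer

variable {G : Type*} [Group G] {D : Set G}

theorem card_le_mul_centralizer [Finite G] (H : Subgroup G) (y : G) (S : Set G)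
    (hS : ∀ h ∈ H, h * y * h⁻¹ ∈ S) :
    Nat.card H ≤ S.ncard * Nat.card ↥(H ⊓ Subgroup.centralizer {y}) := by
  let C := (Subgroup.centralizer ({y} : Set G)).subgroupOf H
  have key : ∀ a b : H, (QuotientGroup.mk a : H ⧸ C) = QuotientGroup.mk b ↔
      (a : G) * y * (a : G)⁻¹ = (b : G) * y * (b : G)⁻¹ := by
    intro a b
    rw [QuotientGroup.eq, Subgroup.mem_subgroupOf, Subgroup.mem_centralizer_singleton_iff]
    simp only [Subgroup.coe_mul, Subgroup.coe_inv]
    constructor <;> intro h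
    · calc (a : G) * y * (a : G)⁻¹
          = a * (y * ((a : G)⁻¹ * b)) * (b : G)⁻¹ := by group
        _ = a * ((a : G)⁻¹ * b * y) * (b : G)⁻¹ := by rw [h]
        _ = b * y * (b : G)⁻¹ := by group
    · calc (a : G)⁻¹ * b * y = (a : G)⁻¹ * ((b : G) * y * (b : G)⁻¹) * b := by group
        _ = (a : G)⁻¹ * ((a : G) * y * (a : G)⁻¹) * b := by rw [h]
        _ = y * ((a : G)⁻¹ * b) := by group
  have hle : Nat.card (H ⧸ C) ≤ S.ncard := by
    rw [← Nat.card_coe_set_eq]
    refine Nat.card_le_card_of_injective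
      (fun q => ⟨(q.out : H) * y * (q.out : G)⁻¹, hS _ q.out.2⟩) fun p q h => ?_
    have := (key p.out q.out).2 (congrArg Subtype.val h)
    rwa [QuotientGroup.out_eq', QuotientGroup.out_eq'] at this
  have hC : Nat.card C = Nat.card ↥(H ⊓ Subgroup.centralizer {y}) := by
    have h1 := Nat.card_congr (Subgroup.subgroupOfEquivOfLe
      (inf_le_left : H ⊓ Subgroup.centralizer {y} ≤ H)).toEquiv
    rwa [Subgroup.inf_subgroupOf_left] at h1
  rw [C.card_eq_card_quotient_mul_card_subgroup, hC]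
  exact Nat.mul_le_mul_right _ hle

/-- A closed set of pairwise non-commuting members has 3-power size. -/
theorem ncard_eq_three_pow [Finite G] (hD : TSet D) {S : Set G} (hSD : S ⊆ D) (hne : S.Nonempty)
    (hw : ∀ a ∈ S, ∀ b ∈ S, Commute a b → a = b) (hcl : ∀ a ∈ S, ∀ b ∈ S, a * b * a ∈ S) :
    ∃ j : ℕ, S.ncard = 3 ^ j := by
  have : Fact (Nat.Prime 3) := ⟨Nat.prime_three⟩
  set K := Subgroup.closure S
  let T : Set K := Subtype.val ⁻¹' S
  have hgen : Subgroup.closure T = ⊤ := Subgroup.closure_closure_coe_preimage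
  have hswap : ∀ a ∈ T, ∀ b ∈ T, a ≠ b → (a * b) * a * (a * b)⁻¹ = b := by
    intro a ha b hb hab
    apply Subtype.ext
    have hn : ¬Commute (a : G) b := fun h => hab (Subtype.ext (hw _ ha _ hb h))
    have hb' := hD.braid (hSD ha) (hSD hb) hn
    simp only [Subgroup.coe_mul, Subgroup.coe_inv, mul_inv_rev, hD.inv_eq (hSD ha),
      hD.inv_eq (hSD hb)]
    calc (a : G) * b * a * (b * a) = (a * b * a) * (b * a) := by group
      _ = b * a * b * (b * a) := by rw [hb']
      _ = b := by simp only [mul_assoc, invol_cancel (hD.sq _ (hSD hb)), hD.sq _ (hSD ha), mul_one]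
  have hT : TClass T := by
    refine ⟨⟨fun a ha => Subtype.ext (hD.sq _ (hSD ha)),
      fun a ha h => hD.ne_one _ (hSD ha) (by simp [h]), fun a ha b hb => ?_, fun g => ?_⟩,
      fun a ha b hb => ?_, hgen, ?_⟩
    · exact (hD.ord _ (hSD ha) _ (hSD hb)).imp (fun h => Subtype.ext (by simpa using h))
        (fun h => Subtype.ext (by simpa using h))
    · exact conj_mem_of_gen hgen (fun a ha => Subtype.ext (hD.sq _ (hSD ha)))
        (fun d hd b hb => hcl _ hd _ hb) g
    · by_cases hab : a = b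
      · exact ⟨1, by simp [hab]⟩
      · exact ⟨_, hswap a ha b hb hab⟩
    · obtain ⟨a, ha⟩ := hne
      exact ⟨⟨a, Subgroup.subset_closure ha⟩, ha⟩
  obtain ⟨a, ha⟩ := hT.nonempty
  have hP := hT.pairGrp_isPGroup_of_width_one fun p hp q hq hc =>
    Subtype.ext (hw _ hp _ hq (hc.map K.subtype))
  let f : K →* ConjAct K := ConjAct.toConjAct.toMonoidHom
  obtain ⟨j, hj⟩ := (hP.map f).card_orbit a
  refine ⟨j, ?_⟩
  have horb : MulAction.orbit ((pairGrp T).map f) a = T := by
    ext b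
    constructor
    · rintro ⟨⟨_, g, -, rfl⟩, rfl⟩
      exact hT.conj g a ha
    · intro hb
      by_cases hab : a = b
      · exact hab ▸ MulAction.mem_orbit_self a
      · exact ⟨⟨_, a * b, mul_mem_pairGrp ha hb, rfl⟩, hswap a ha b hb hab⟩
  rw [horb, Nat.card_coe_set_eq] at hj
  rw [← hj]
  exact (Set.ncard_preimage_of_injective_subset_range Subtype.val_injective fun v hv =>
    ⟨⟨v, Subgroup.subset_closure hv⟩, rfl⟩).symm

section

variable [Finite G] (hD : TClass D)
include hD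

/-- A non-central element of odd order core of `⟨perp D x⟩` gives twins. -/
theorem twins_of_core {x d n : G} (hd : d ∈ perp D x) (M : Subgroup G)
    (hMH : M ≤ Subgroup.closure (perp D x)) (hodd : Odd (Nat.card M))
    (hnorm : ∀ h ∈ Subgroup.closure (perp D x), ∀ m ∈ M, h * m * h⁻¹ ∈ M) (hn : n ∈ M)
    (hne : n * d * n⁻¹ ≠ d) :
    n * d * n⁻¹ ∈ perp D x ∧ perp D x ∩ perp D d = perp D x ∩ perp D (n * d * n⁻¹) := by
  have hT := hD.toTSet
  set H := Subgroup.closure (perp D x) with hH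
  have hcx : ∀ h ∈ H, h * x * h⁻¹ = x := by
    intro h hh
    have hle : H ≤ Subgroup.centralizer {x} := (Subgroup.closure_le _).2 fun y hy =>
      Subgroup.mem_centralizer_singleton_iff.2 hy.2.2.symm.eq
    rw [Subgroup.mem_centralizer_singleton_iff.1 (hle hh), mul_inv_cancel_right]
  have hconj : ∀ b ∈ perp D x, ∀ m ∈ M, m * b * m⁻¹ ∈ perp D x := by
    intro b hb m hm
    have := conj_mem_perp hD m hb
    rwa [hcx m (hMH hm)] at this
  have hcn : ∀ b ∈ perp D x, ∀ m ∈ M, b * m * b ∈ M := by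
    intro b hb m hm
    have := hnorm b (Subgroup.subset_closure hb) m hm
    rwa [hT.inv_eq hb.1] at this
  have hsq : ∀ b ∈ perp D x, ∀ m ∈ M, m * b * m⁻¹ * b ∈ M := by
    intro b hb m hm
    have := mul_mem hm (hcn b hb _ (inv_mem hm))
    simpa [mul_assoc] using this
  have hinv : ∀ e ∈ perp D x, ∀ b ∈ perp D x, ∀ m ∈ M, e = m * b * m⁻¹ → Commute e b → e = b := by
    intro e he b hb m hm hem hc
    have h1 : e * b ∈ M := by rw [hem]; exact hsq b hb m hm
    have h2 : (e * b) ^ 2 = 1 := by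
      rw [hc.mul_pow]; simp [pow_two, hD.sq e he.1, hD.sq b hb.1]
    have h3 : (⟨e * b, h1⟩ : M) = 1 := by
      rw [← orderOf_eq_one_iff]
      have h4 : orderOf (⟨e * b, h1⟩ : M) ∣ 2 := orderOf_dvd_of_pow_eq_one (Subtype.ext h2)
      rcases (Nat.dvd_prime Nat.prime_two).1 h4 with h5 | h5
      · exact h5
      · exact absurd (h5 ▸ orderOf_dvd_natCard _) hodd.not_two_dvd_nat
    rw [← mul_left_inj b, hD.sq b hb.1]
    exact congrArg Subtype.val h3
  have hmain : ∀ b ∈ perp D x, ∀ m ∈ M, m * b * m⁻¹ ≠ b →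
      perp D x ∩ perp D b ⊆ perp D x ∩ perp D (m * b * m⁻¹) := by
    intro b hb m hm hmb e he
    set q := m * b * m⁻¹ with hq
    have hqp : q ∈ perp D x := hconj b hb m hm
    refine ⟨he.1, he.1.1, fun h => ?_, ?_⟩
    · exact he.2.2.1 (hinv e he.1 b hb m hm h he.2.2.2.symm)
    · by_contra hcn'
      have hqe : ¬Commute e q := fun h => hcn' h.symm
      set m' := e * m * e with hm'
      set k := m * (b * m⁻¹ * b) with hk
      have hm'M : m' ∈ M := hcn e he.1 m hm
      have hkM : k ∈ M := mul_mem hm (hcn b hb _ (inv_mem hm))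
      have heb : e * b * e = b := invol_conj_eq_of_commute (hD.sq e he.1.1) he.2.2.2.symm
      have e1 : e * q * e = m' * b * m'⁻¹ := by
        calc e * q * e = e * m * (e * b * e) * m⁻¹ * e := by rw [heb, hq]; group
          _ = m' * b * (e * m⁻¹ * e) := by rw [hm']; group
          _ = m' * b * m'⁻¹ := by
            rw [hm']; simp [mul_assoc, hT.inv_eq he.1.1]
      have e2 : q * b * q = k * b * k⁻¹ := by
        rw [hk, hq]; simp [mul_assoc, hT.inv_eq hb.1, invol_cancel (hD.sq b hb.1)]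
      have e3 : q * (e * q * e) * q = e := by
        rw [hT.braid he.1.1 hqp.1 hqe, invol_conj_invol (hD.sq q hqp.1)]
      have e4 : e = (q * m' * q * k) * b * (q * m' * q * k)⁻¹ := by
        rw [e1] at e3
        have qi := hT.inv_eq hqp.1
        calc e = q * (m' * b * m'⁻¹) * q := e3.symm
          _ = (q * m' * q) * (q * b * q) * (q * m'⁻¹ * q) := by
            simp only [mul_assoc, invol_cancel (hD.sq q hqp.1)]
          _ = (q * m' * q) * (k * b * k⁻¹) * (q * m' * q)⁻¹ := by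
            rw [e2]; simp [mul_assoc, qi]
          _ = (q * m' * q * k) * b * (q * m' * q * k)⁻¹ := by group
      exact he.2.2.1 (hinv e he.1 b hb _ (mul_mem (hcn q hqp m' hm'M) hkM) e4 he.2.2.2.symm)
  refine ⟨hconj d hd n hn, Set.Subset.antisymm (hmain d hd n hn hne) ?_⟩
  have := hmain _ (hconj d hd n hn) n⁻¹ (inv_mem hn) (by simpa [mul_assoc] using hne.symm)
  simpa [mul_assoc] using this

variable (hsol : ∀ N : Subgroup G, N.Normal → Group.IsSolvable ↥N → N ≤ commutator G → N = ⊥)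
include hsol

theorem hasTwins_of_core_not_central {x : G} (hx : x ∈ D)
    (h : ¬ Cfsg.oddCore ↥(Subgroup.closure (perp D x)) ≤
      Subgroup.center ↥(Subgroup.closure (perp D x))) : HasTwins D := by
  set H := Subgroup.closure (perp D x) with hH
  obtain ⟨n, hn, hnc⟩ := SetLike.not_le_iff_exists.1 h
  have : ∃ d ∈ perp D x, ¬Commute (n : G) d := by
    by_contra hall
    push Not at hall
    refine hnc (Subgroup.mem_center_iff.2 fun g => Subtype.ext ?_)
    have hle : H ≤ Subgroup.centralizer {(n : G)} := (Subgroup.closure_le _).2 fun y hy =>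
      Subgroup.mem_centralizer_singleton_iff.2 (hall y hy).symm.eq
    simpa using Subgroup.mem_centralizer_singleton_iff.1 (hle g.2)
  obtain ⟨d, hd, hnd⟩ := this
  have hne : (n : G) * d * (n : G)⁻¹ ≠ d := fun e => hnd (mul_inv_eq_iff_eq_mul.1 e)
  obtain ⟨h1, h2⟩ := twins_of_core hD hd ((Cfsg.oddCore ↥H).map H.subtype)
    (Subgroup.map_subtype_le _)
    (by rw [Subgroup.card_map_of_injective H.subtype_injective]; exact PCore.odd_card_oddCore)
    (by
      rintro g hg _ ⟨m, hm, rfl⟩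
      exact ⟨⟨g, hg⟩ * m * ⟨g, hg⟩⁻¹, PCore.oddCore_normal.conj_mem m hm _, by simp⟩)
    ⟨n, hn, rfl⟩ hne
  intro u hu b hb
  obtain ⟨g, rfl⟩ := hD.trans x hx u hu
  obtain ⟨k, hk, rfl⟩ := perp_transitive_centralizer hD hsol (hD.conj g x hx)
    (conj_mem_perp hD g hd) hb
  have e : ∀ v : G, (k * g) * v * (k * g)⁻¹ = k * (g * v * g⁻¹) * k⁻¹ := fun v => by group
  refine ⟨(k * g) * ((n : G) * d * (n : G)⁻¹) * (k * g)⁻¹, ?_, ?_, ?_⟩
  · have := conj_mem_perp hD (k * g) h1
    rwa [e x, hk] at this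
  · rw [← e d]
    exact fun he => hne (mul_left_cancel (mul_right_cancel he))
  · have hinj : Function.Injective fun v => (k * g) * v * (k * g)⁻¹ :=
      fun p q h => mul_left_cancel (mul_right_cancel h)
    have h3 := congrArg (Set.image fun v => (k * g) * v * (k * g)⁻¹) h2
    rw [Set.image_inter hinj, Set.image_inter hinj,
      conj_image_of_mem (F := perp D) (fun g _ _ => conj_mem_perp hD g),
      conj_image_of_mem (F := perp D) (fun g _ _ => conj_mem_perp hD g),
      conj_image_of_mem (F := perp D) (fun g _ _ => conj_mem_perp hD g), e x, hk, e d] at h3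
    exact h3

theorem width_two (hTw : HasTwins D) {x a b : G} (hx : x ∈ D) (ha : a ∈ perp D x)
    (hb : b ∈ perp D x) (hc : Commute a b) : a = b := by
  by_contra hne
  have : b ∈ perp D x ∩ perp D a := ⟨hb, hb.1, Ne.symm hne, hc⟩
  rw [common_empty hD hsol hTw hx ha] at this
  exact this

/-- The parameters of the commuting graph. -/
theorem twins_params (hperf : ⁅commutator G, commutator G⁆ = commutator G) (hTw : HasTwins D)
    {x₀ : G} (hx₀ : x₀ ∈ D) (hne₀ : (perp D x₀).Nonempty) :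
    D.ncard = 10 ∧ (∀ u ∈ D, (perp D u).ncard = 3) ∧
      ∀ u ∈ D, ∀ w ∈ nbr D u, (perp D u ∩ perp D w).ncard = 1 := by
  classical
  have hT := hD.toTSet
  have hk : ∀ u ∈ D, (perp D u).ncard = (perp D x₀).ncard := fun u hu =>
    ncard_eq_of_equivariant hD (F := perp D) (fun g _ _ => conj_mem_perp hD g) hu hx₀
  have hclosed : ∀ u ∈ D, ∀ a ∈ perp D u, ∀ b ∈ perp D u, a * b * a ∈ perp D u := by
    intro u hu a ha b hb
    have := conj_mem_perp hD a hb
    rwa [hT.inv_eq ha.1, invol_conj_eq_of_commute (hD.sq a ha.1) ha.2.2.symm] at this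
  obtain ⟨b, hb⟩ := hne₀
  obtain ⟨b', hb', hbne, -⟩ := hTw x₀ hx₀ b hb
  have hk2 : 1 < (perp D x₀).ncard := (Set.one_lt_ncard).2 ⟨b, hb, b', hb', hbne.symm⟩
  obtain ⟨b₁, hb₁, hb₁x⟩ : ∃ b₁ ∈ perp D b, b₁ ≠ x₀ := by
    obtain ⟨p, hp, q, hq, hpq⟩ :=
      (Set.one_lt_ncard).1 (show 1 < (perp D b).ncard by rw [hk b hb.1]; exact hk2)
    by_cases h : p = x₀
    · exact ⟨q, hq, fun e => hpq (h.trans e.symm)⟩
    · exact ⟨p, hp, h⟩
  have hnx : b₁ ∈ nbr D x₀ := ⟨hb₁.1, fun h => by
    have : b₁ ∈ perp D x₀ ∩ perp D b := ⟨⟨hb₁.1, hb₁x, h⟩, hb₁⟩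
    rw [common_empty hD hsol hTw hx₀ hb] at this
    exact this⟩
  have hμne : (perp D x₀ ∩ perp D b₁).Nonempty :=
    ⟨b, hb, perp_symm hb.1 hb₁⟩
  have hconn := commuting_connected_of_perfect hD hperf
  have hμ : ∀ u ∈ D, ∀ w ∈ nbr D u,
      (perp D u ∩ perp D w).ncard = (perp D x₀ ∩ perp D b₁).ncard := by
    intro u hu w hw
    obtain ⟨g, rfl⟩ := hD.trans x₀ hx₀ u hu
    exact (ncard_common_eq hD (PairEq.trans ⟨g, rfl, rfl⟩
      (nbr_transitive hD hsol hconn (hD.conj g x₀ hx₀) (conj_mem_nbr hD g hnx) hw))).symm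
  obtain ⟨j, hj⟩ := ncard_eq_three_pow hT (fun v hv => hv.1) ⟨b, hb⟩
    (fun p hp q hq => width_two hD hsol hTw hx₀ hp hq) (hclosed x₀ hx₀)
  obtain ⟨i, hi⟩ := ncard_eq_three_pow hT (fun v hv => hv.1.1) hμne
    (fun p hp q hq => width_two hD hsol hTw hx₀ hp.1 hq.1)
    (fun p hp q hq => ⟨hclosed x₀ hx₀ p hp.1 q hq.1, hclosed b₁ hb₁.1 p hp.2 q hq.2⟩)
  have hlt : (perp D x₀ ∩ perp D b₁).ncard < (perp D x₀).ncard := by
    refine Set.ncard_lt_ncard ⟨Set.inter_subset_left, fun hsub => ?_⟩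
    have := perp_injective hD hsol hx₀ hb₁.1 ⟨b, hb⟩
      (Set.eq_of_subset_of_ncard_le (fun v hv => (hsub hv).2) (hk b₁ hb₁.1).le (Set.toFinite _))
    exact hb₁x this.symm
  rw [hi, hj] at hlt
  have hk3 : 1 < 3 ^ j := hj ▸ hk2
  let α := ↥D
  have : Fintype α := Fintype.ofFinite α
  have : Nonempty α := ⟨⟨x₀, hx₀⟩⟩
  let A : Matrix α α ℝ := Matrix.of fun u v => if (v : G) ∈ perp D u then 1 else 0
  have hcount : ∀ S : Set G, S ⊆ D →
      (∑ v : α, if (v : G) ∈ S then (1 : ℝ) else 0) = S.ncard := by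
    intro S hS
    rw [Finset.sum_boole]
    have e : (Finset.univ.filter fun v : α => (v : G) ∈ S).card = S.ncard := by
      rw [← Set.ncard_coe_finset, ← Set.ncard_image_of_injective _ Subtype.val_injective]
      congr 1
      ext v
      simp only [Finset.coe_filter, Finset.mem_univ, true_and, Set.mem_image]
      exact ⟨fun ⟨_, h, e⟩ => e ▸ h, fun h => ⟨⟨v, hS h⟩, h, rfl⟩⟩
    rw [e]
  have hkpow : ∀ u ∈ D, (perp D u).ncard = 3 ^ j := fun u hu => (hk u hu).trans hj
  have hne3 : 3 ^ j + 3 ^ i ≠ 3 := by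
    have h3 : (3 : ℕ) ∣ 3 ^ j := dvd_pow_self 3 (by rintro rfl; simp at hk3)
    have := Nat.le_of_dvd (by omega) h3
    have := Nat.one_le_pow i 3 (by norm_num)
    omega
  have hmain := srg_lambda_zero_disc A (3 ^ j) (3 ^ i) hlt hne3 (by positivity) (by
    ext u v
    rw [Matrix.mul_apply]
    have e : (∑ z, A u z * A z v) = ((perp D (u : G) ∩ perp D v).ncard : ℝ) := by
      rw [← hcount _ (fun z hz => hz.1.1)]
      refine Finset.sum_congr rfl fun z _ => ?_
      have hsym : (v : G) ∈ perp D z ↔ (z : G) ∈ perp D v :=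
        ⟨perp_symm z.2, perp_symm v.2⟩
      simp only [A, Matrix.of_apply, Set.mem_inter_iff, hsym]
      split_ifs <;> simp_all
    rw [e]
    by_cases huv : u = v
    · subst huv
      simp [A, hkpow _ u.2, show ((u : G) ∈ perp D u) = False
        from eq_false fun h => h.2.1 rfl]
    · have huv' : (v : G) ≠ u := fun h => huv (Subtype.ext h.symm)
      by_cases hc : Commute (u : G) v
      · have hp : (v : G) ∈ perp D u := ⟨v.2, huv', hc⟩
        simp [A, huv, hp, common_empty hD hsol hTw u.2 hp]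
      · have hp : (v : G) ∉ perp D u := fun h => hc h.2.2
        simp [A, huv, hp, hμ _ u.2 _ ⟨v.2, hc⟩, hi]) (by
    ext u v
    rw [Matrix.mul_apply]
    simpa [A, hkpow _ u.2] using hcount (perp D u) (fun z hz => hz.1)) (by
    ext u v
    rw [Matrix.mul_apply]
    have hs := hcount (perp D v) (fun z hz => hz.1)
    rw [hkpow _ v.2] at hs
    simp only [A, Matrix.of_apply, one_mul, Matrix.smul_apply, smul_eq_mul, mul_one]
    rw [← hs]
    refine Finset.sum_congr rfl fun z _ => ?_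
    exact if_congr ⟨perp_symm z.2, perp_symm v.2⟩ rfl rfl) (by
    simp [Matrix.trace, A, show ∀ u : α, ((u : G) ∈ perp D u) = False
      from fun u => eq_false fun h => h.2.1 rfl])
  obtain ⟨hn, m, hm⟩ := hmain
  have hij : i < j := (Nat.pow_lt_pow_iff_right (by norm_num)).1 hlt
  obtain ⟨rfl, rfl⟩ := srg_params hij hm
  refine ⟨?_, fun u hu => by simpa using hkpow u hu,
    fun u hu w hw => by rw [hμ u hu w hw, hi]; simp⟩
  rw [← Nat.card_coe_set_eq]
  show Nat.card α = 10
  rw [Nat.card_eq_fintype_card]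
  norm_num at hn ⊢
  linarith

end

/-- The counting bound with these parameters. -/
theorem card_le_120 [Finite G] (hD : TClass D) (hcen : Subgroup.center G = ⊥) (hn : D.ncard = 10)
    (hk : ∀ u ∈ D, (perp D u).ncard = 3)
    (hμ : ∀ u ∈ D, ∀ w ∈ nbr D u, (perp D u ∩ perp D w).ncard = 1)
    (hw2 : ∀ u ∈ D, ∀ a ∈ perp D u, ∀ b ∈ perp D u, Commute a b → a = b)
    {x : G} (hx : x ∈ D) :
    Nat.card G ≤ 120 ∧ ∃ b ∈ perp D x, ∃ w ∈ D, ¬Commute x w ∧ ¬Commute b w := by
  have hT := hD.toTSet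
  have hclosed : ∀ u ∈ D, ∀ a ∈ perp D u, ∀ b ∈ perp D u, a * b * a ∈ perp D u := by
    intro u hu a ha b hb
    have := conj_mem_perp hD a hb
    rwa [hT.inv_eq ha.1, invol_conj_eq_of_commute (hD.sq a ha.1) ha.2.2.symm] at this
  have triple : ∀ u ∈ D, ∀ a ∈ perp D u, ∀ c ∈ perp D u, a ≠ c →
      perp D u = {a, c, a * c * a} := by
    intro u hu a ha c hc hac
    have hn' : ¬Commute a c := fun h => hac (hw2 u hu a ha c hc h)
    obtain ⟨h1, h2⟩ := hT.third_ne ha.1 hc.1 hn'
    refine (Set.eq_of_subset_of_ncard_le ?_ ?_ (Set.toFinite _)).symm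
    · rintro v (rfl | rfl | rfl)
      exacts [ha, hc, hclosed u hu a ha c hc]
    · rw [hk u hu]
      rw [Set.ncard_insert_of_notMem (by simp [hac, h1.symm]) (Set.toFinite _),
        Set.ncard_pair h2.symm]
  obtain ⟨b, hb, b', hb', hbb'⟩ := (Set.one_lt_ncard).1 (show 1 < (perp D x).ncard by rw [hk x hx]; norm_num)
  have hnbb' : ¬Commute b b' := fun h => hbb' (hw2 x hx b hb b' hb' h)
  have hxb' := perp_symm hx hb'
  obtain ⟨w, hw, hwx⟩ : ∃ w ∈ perp D b', w ≠ x := by
    obtain ⟨p, hp, q, hq, hpq⟩ := (Set.one_lt_ncard).1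
      (show 1 < (perp D b').ncard by rw [hk b' hb'.1]; norm_num)
    by_cases h : p = x
    · exact ⟨q, hq, fun e => hpq (h.trans e.symm)⟩
    · exact ⟨p, hp, h⟩
  have hxw : ¬Commute x w := fun h => hwx (hw2 b' hb'.1 x hxb' w hw h).symm
  have hbw : ¬Commute b w := by
    intro h
    obtain ⟨p, hp⟩ := Set.ncard_eq_one.1 (hμ x hx w ⟨hw.1, hxw⟩)
    have h1 : b ∈ perp D x ∩ perp D w := ⟨hb, hb.1, fun e => hxw (e ▸ hb.2.2), h.symm⟩
    have h2 : b' ∈ perp D x ∩ perp D w := ⟨hb', perp_symm hb'.1 hw⟩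
    rw [hp] at h1 h2
    exact hbb' (h1.trans h2.symm)
  refine ⟨?_, b, hb, w, hw.1, hxw, hbw⟩
  set C₁ : Subgroup G := ⊤ ⊓ Subgroup.centralizer {x}
  set C₂ := C₁ ⊓ Subgroup.centralizer {b}
  set C₃ := C₂ ⊓ Subgroup.centralizer {b'}
  set C₄ := C₃ ⊓ Subgroup.centralizer {w}
  have fixc : ∀ {h y : G}, h ∈ Subgroup.centralizer ({y} : Set G) → h * y * h⁻¹ = y := by
    intro h y hh
    rw [Subgroup.mem_centralizer_singleton_iff.1 hh, mul_inv_cancel_right]
  have cmap : ∀ {h u z : G}, h * u * h⁻¹ = u → z ∈ perp D u → h * z * h⁻¹ ∈ perp D u := by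
    intro h u z hu hz
    have := conj_mem_perp hD h hz
    rwa [hu] at this
  have b1 : Nat.card G ≤ D.ncard * Nat.card C₁ := by
    have := card_le_mul_centralizer ⊤ x D fun h _ => hD.conj h x hx
    rwa [Subgroup.card_top] at this
  have b2 : Nat.card C₁ ≤ (perp D x).ncard * Nat.card C₂ :=
    card_le_mul_centralizer C₁ b _ fun h hh => cmap (fixc hh.2) hb
  have b3 : Nat.card C₂ ≤ (perp D x \ {b}).ncard * Nat.card C₃ := by
    refine card_le_mul_centralizer C₂ b' _ fun h hh => ⟨cmap (fixc hh.1.2) hb', ?_⟩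
    intro e
    exact hbb' (mul_left_cancel (mul_right_cancel ((fixc hh.2).trans (e : _ = b).symm)))
  have b4 : Nat.card C₃ ≤ (perp D b' \ {x}).ncard * Nat.card C₄ := by
    refine card_le_mul_centralizer C₃ w _ fun h hh => ⟨cmap (fixc hh.2) hw, ?_⟩
    intro e
    exact hwx (mul_left_cancel (mul_right_cancel ((fixc hh.1.1.2).trans (e : _ = x).symm))).symm
  have hC4 : C₄ = ⊥ := by
    rw [eq_bot_iff, ← hcen]
    intro h hh
    have fx := fixc hh.1.1.1.2
    have fb := fixc hh.1.1.2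
    have fb' := fixc hh.1.2
    have fw := fixc hh.2
    have fmul : ∀ {p q : G}, h * p * h⁻¹ = p → h * q * h⁻¹ = q → h * (p * q * p) * h⁻¹ = p * q * p := by
      intro p q hp hq
      conv_rhs => rw [← hp, ← hq]
      group
    have hPx := triple x hx b hb b' hb' hbb'
    have fperp : ∀ v ∈ perp D x, h * v * h⁻¹ = v := by
      intro v hv
      rw [hPx] at hv
      rcases hv with rfl | rfl | rfl
      exacts [fb, fb', fmul fb fb']
    have fperp' : ∀ v ∈ perp D b', h * v * h⁻¹ = v := by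
      intro v hv
      rw [triple b' hb'.1 x hxb' w hw hwx.symm] at hv
      rcases hv with rfl | rfl | rfl
      exacts [fx, fw, fmul fx fw]
    have ftrans : ∀ z ∈ D, h * z * h⁻¹ = z → ∀ v ∈ perp D (z * b' * z), h * v * h⁻¹ = v := by
      intro z hz fz v hv
      have h1 := conj_mem_perp hD z hv
      rw [hT.inv_eq hz, invol_conj_invol (hD.sq z hz)] at h1
      have h2 := fmul fz (fperp' _ h1)
      rwa [invol_conj_invol (hD.sq z hz)] at h2
    have hbd : b * b' * b ∈ D := hT.conj_mem hb.1 hb'.1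
    have hbe : (b * b' * b) * b' * (b * b' * b) = b := by
      have e1 := hT.braid hb.1 hb'.1 hnbb'
      have e2 := invol_cancel (hD.sq b' hb'.1)
      calc (b * b' * b) * b' * (b * b' * b) = (b' * b * b') * b' * (b' * b * b') := by rw [e1]
        _ = b' * (b * b' * b) * b' := by simp only [mul_assoc, e2]
        _ = b' * (b' * b * b') * b' := by rw [e1]
        _ = b := invol_conj_invol (hD.sq b' hb'.1) b
    have fall : ∀ v ∈ D, h * v * h⁻¹ = v := by
      intro v hv
      by_cases hvx : v = x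
      · rw [hvx]; exact fx
      by_cases hxv : Commute x v
      · exact fperp v ⟨hv, hvx, hxv⟩
      obtain ⟨c, hc⟩ := Set.ncard_eq_one.1 (hμ x hx v ⟨hv, hxv⟩)
      have hc' : c ∈ perp D x ∩ perp D v := by rw [hc]; rfl
      have hvc := perp_symm hv hc'.2
      have hcx := hc'.1
      rw [hPx] at hcx
      rcases hcx with rfl | rfl | rfl
      · exact ftrans _ hbd (fperp _ (hclosed x hx _ hb _ hb')) v (hbe.symm ▸ hvc)
      · exact fperp' v hvc
      · exact ftrans b hb.1 fb v hvc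
    refine Subgroup.mem_center_iff.2 fun g => ?_
    have hg : g ∈ Subgroup.centralizer ({h} : Set G) := by
      have hle : Subgroup.closure D ≤ Subgroup.centralizer ({h} : Set G) :=
        (Subgroup.closure_le _).2 fun v hv =>
          Subgroup.mem_centralizer_singleton_iff.2 (mul_inv_eq_iff_eq_mul.1 (fall v hv)).symm
      exact hle (by rw [hD.gen]; trivial)
    exact Subgroup.mem_centralizer_singleton_iff.1 hg
  rw [hC4, Subgroup.card_bot, mul_one] at b4
  rw [hn] at b1
  rw [hk x hx] at b2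
  rw [Set.ncard_sdiff_singleton_of_mem hb, hk x hx] at b3
  rw [Set.ncard_sdiff_singleton_of_mem hxb', hk b' hb'.1] at b4
  norm_num at b3 b4
  omega

end Cfsg.Agent.Fischer
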